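import Cfsg.Agent.Classical.OrthPow.Cases

/-!
# The conjugates of a slot that are no slots kill the skew part
-/

set_option autoImplicit false
set_option linter.unusedSectionVars false
set_option linter.unusedSimpArgs false
set_option linter.style.haveILetI false

namespace Cfsg.Lib.Classical.OrthPow

open Matrix Finset
open scoped Kronecker MatrixGroups
open Cfsg.Lib.Classical.TensorOrth (TForm sie sie_zero sum_zero_of_free)
open Cfsg.Lib.Classical.TensorPowLin (Rest toBig tens tens_apply tens_mul slot slot_eq slot_add slot_sub slot_smul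
  slot_zero slot_one slot_mul slot_comm slot_injective single_eq_tens ptr ptr_eq_zero trace_slot_conjM conjM conjM_apply
  conjM_mul conjM_one conjM_conjM conjM_id conjM_inv_conjM conjM_conjM_inv commute_conjM Eqj qop qop_apply qop_normal
  qop_left Orbit rep rep_mk rep_smul)

universe u

variable {τ γ : Type} [Fintype τ] [DecidableEq τ] [Fintype γ] [DecidableEq γ] {F : Type u} [Field F]

namespace Frm

variable {P : Frm γ F} {X : Subgroup (GL (τ → γ) F)}

/-- A slot element normalises every slot. -/
theorem Hyp.slot_normal (hX : P.Hyp X) {k : GL (τ → γ) F} (hk : k ∈ X) {j : τ} {h : Matrix γ γ F}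
    (hh : h ∈ P.Grp) (ek : (k : Matrix (τ → γ) (τ → γ) F) = slot j h) (l : τ) : Eqj k l l := by
  intro A
  by_cases hl : l = j
  · subst hl
    exact ⟨h * A * P.adj h, by rw [conjM_apply, hX.inv_eq hk, ek, P.dag_slot, slot_mul, slot_mul]⟩
  · refine ⟨A, ?_⟩
    rw [conjM_apply, hX.inv_eq hk, ek, P.dag_slot, (slot_comm (Ne.symm hl) h A).eq, mul_assoc, ← slot_mul,
      (Grp.iso hh).mul_adj, slot_one, mul_one]

variable [Fintype F]

/-- The classes of conjugates of slot `i` that are no slots. -/
noncomputable def bad [Nonempty γ] (X : Subgroup (GL (τ → γ) F)) (i : τ) [Fintype (Orbit X i)] :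
    Finset (Orbit X i) :=
  @Finset.filter _ (fun ω : Orbit X i => ∀ l, ¬ Eqj (rep i ω) i l) (_root_.Classical.decPred _) Finset.univ

theorem mem_bad [Nonempty γ] {i : τ} [Fintype (Orbit X i)] {ω : Orbit X i} :
    ω ∈ bad X i ↔ ∀ l, ¬ Eqj (rep i ω) i l := by
  classical
  simp [bad]

/-- The sum over them. -/
noncomputable def badOp [Nonempty γ] (X : Subgroup (GL (τ → γ) F)) (i : τ) [Fintype (Orbit X i)] :
    Matrix (τ → γ) (τ → γ) F →ₗ[F] Matrix (τ → γ) (τ → γ) F := ∑ ω ∈ bad X i, qop i (rep i ω)

theorem Hyp.badOp_conj [Nonempty γ] (hX : P.Hyp X) {i j : τ} [Fintype (Orbit X i)] {k : GL (τ → γ) F} (hk : k ∈ X)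
    {h : Matrix γ γ F} (hh : h ∈ P.Grp) (ek : (k : Matrix (τ → γ) (τ → γ) F) = slot j h)
    (M : Matrix (τ → γ) (τ → γ) F) : badOp X i (conjM k M) = conjM k (badOp X i M) := by
  classical
  rw [badOp, LinearMap.sum_apply, LinearMap.sum_apply, map_sum]
  set e : Equiv.Perm (Orbit X i) := MulAction.toPerm (⟨k, hk⟩ : X)
  have hn := hX.slot_normal hk hh ek
  have he : ∀ ω, (e ω ∈ bad X i ↔ ω ∈ bad X i) := fun ω => by
    obtain ⟨q, hq, eq⟩ := rep_smul i (⟨k, hk⟩ : X) ω
    rw [mem_bad, mem_bad]
    show (∀ l, ¬ Eqj (rep i ((⟨k, hk⟩ : X) • ω)) i l) ↔ _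
    rw [eq]
    refine ⟨fun h l hl => h l (hq.trans (hl.trans (hn l))), fun h l hl => h l ?_⟩
    have := (hq.inv.trans hl).trans (hn l).inv
    rwa [mul_inv_cancel_right, inv_mul_cancel_left] at this
  refine (Finset.sum_equiv e (fun ω => (he ω).symm) fun ω _ => ?_).symm
  obtain ⟨q, hq, eq⟩ := rep_smul i (⟨k, hk⟩ : X) ω
  show _ = qop i (rep i ((⟨k, hk⟩ : X) • ω)) _
  rw [eq, qop_normal hq, qop_left, conjM_inv_conjM]

theorem conj_slot {k : GL (τ → γ) F} (hX : P.Hyp X) (hk : k ∈ X) {j : τ} {h : Matrix γ γ F}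
    (ek : (k : Matrix (τ → γ) (τ → γ) F) = slot j h) {N : Matrix (τ → γ) (τ → γ) F} (hN : CM j N)
    (A : Matrix γ γ F) : conjM k (N * slot j A) = N * slot j (h * A * P.adj h) := by
  rw [conjM_apply, hX.inv_eq hk, ek, P.dag_slot, slot_mul, slot_mul, ← mul_assoc, (hN h).eq]
  simp only [mul_assoc]

theorem wedge_split {e f v : γ → F} (hp : P.Pair e f) (hv : P.Perp e f v) :
    ∃ Y Y' : Matrix γ γ F, P.wedge e v = P.E e * Y - Y' * P.E e ∧ Y * P.E e = 0 ∧ P.E e * Y' = 0 := by
  refine ⟨vecMulVec f (P.G *ᵥ v), vecMulVec v (P.G *ᵥ f), ext fun x => ?_, ext fun x => ?_, ext fun x => ?_⟩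
  · rw [sub_mulVec, ← mulVec_mulVec, ← mulVec_mulVec, wedge_mulVec, E_mulVec, E_mulVec,
      show vecMulVec f (P.G *ᵥ v) *ᵥ x = P.B v x • f from P.T.B₁_vec f v x,
      show vecMulVec v (P.G *ᵥ f) *ᵥ (P.B e x • e) = P.B f (P.B e x • e) • v from P.T.B₁_vec v f _, B_smul_right,
      B_smul_right, hp.ef, hp.fe, mul_one, mul_one]
  · rw [← mulVec_mulVec, E_mulVec, show vecMulVec f (P.G *ᵥ v) *ᵥ (P.B e x • e) = P.B v (P.B e x • e) • f from
      P.T.B₁_vec f v _, B_smul_right, hv.left', mul_zero, zero_smul, zero_mulVec]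
  · rw [← mulVec_mulVec, show vecMulVec v (P.G *ᵥ f) *ᵥ x = P.B f x • v from P.T.B₁_vec v f x, E_mulVec,
      B_smul_right, hv.left, mul_zero, zero_smul, zero_mulVec]

set_option maxHeartbeats 1000000 in
/-- The bad classes kill a root of the Lie algebra of any slot. -/
theorem Good.bad_wedge [Nonempty γ] (hG : P.Good X) (i j : τ) [Fintype (Orbit X i)] {e f v : γ → F}
    (hp : P.Pair e f) (hv : P.Perp e f v) (hvv : P.B v v ≠ 0) {N : Matrix (τ → γ) (τ → γ) F} (hN : CM j N) :
    badOp X i (N * slot j (P.wedge e v)) = 0 := by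
  classical
  have hX := hG.hyp
  obtain ⟨d, L, hL, hLne, κ, hsum⟩ := exists_root hp
  set M := N * slot j (P.wedge e v) with hM
  set SE : Matrix (τ → γ) (τ → γ) F := slot j (P.E e) with hSE
  -- classes commuting with the root
  have hpw : ∀ ω : Orbit X i, P.Pw (rep i ω) i j e → qop i (rep i ω) M = 0 := by
    intro ω hω
    rw [qop_apply, ptr_eq_zero, slot_zero, map_zero]
    intro A
    rw [trace_slot_conjM]
    set W := conjM (rep i ω) (slot i A)
    have hc : Commute (W * N) SE := (hω A).mul_left (hN (P.E e)).symm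
    obtain ⟨Y, Y', eY, hY, hY'⟩ := wedge_split hp hv
    rw [hM, ← mul_assoc, eY, slot_sub, mul_sub, Matrix.trace_sub, slot_mul, slot_mul, ← mul_assoc (W * N), hc.eq,
      Matrix.trace_mul_comm (SE * (W * N)) (slot j Y), ← mul_assoc, hSE, ← slot_mul, hY, slot_zero, zero_mul,
      Matrix.trace_zero, ← mul_assoc (W * N), Matrix.trace_mul_comm (W * N * slot j Y') (slot j (P.E e)), ← mul_assoc,
      ← hSE, ← hc.eq, mul_assoc (W * N), hSE, ← slot_mul, hY', slot_zero, mul_zero, Matrix.trace_zero, sub_zero]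
  -- the rest, freely permuted by a root group
  set C : Finset (Orbit X i) := Finset.univ.filter fun ω : Orbit X i =>
    (∀ l, ¬ Eqj (rep i ω) i l) ∧ ¬ P.Pw (rep i ω) i j e with hC
  let V : Submodule F (Matrix (τ → γ) (τ → γ) F) :=
    LinearMap.range ((LinearMap.mulLeft F SE).comp (LinearMap.mulRight F SE))
  have hrk : ∀ c : Fin d → F, ∃ r ∈ X, (r : Matrix (τ → γ) (τ → γ) F) = slot j (sie P.G e (L c)) := fun c =>
    hX.slotMem j _ (sie_mem hp.ee (hL c).left)
  choose r hrX hr using hrk
  have hrmul : ∀ a b, r (a + b) = r a * r b := fun a b => Units.ext (by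
    rw [Units.val_mul, hr, hr, hr, ← slot_mul, TensorOrth.sie_mul P.symm P.two hp.ee (hL a).left (hL b).left, map_add])
  let ρ : Multiplicative (Fin d → F) →* X :=
    { toFun := fun c => ⟨r c.toAdd, hrX _⟩
      map_one' := Subtype.ext (Units.ext (by
        show (r (0 : Fin d → F) : Matrix (τ → γ) (τ → γ) F) = 1
        rw [hr, map_zero, sie_zero, slot_one]))
      map_mul' := fun a b => Subtype.ext (hrmul a.toAdd b.toAdd) }
  letI : MulAction (Multiplicative (Fin d → F)) (Orbit X i) := MulAction.compHom _ ρ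
  have hrep : ∀ (c : Multiplicative (Fin d → F)) (ω : Orbit X i), ∃ k : GL (τ → γ) F, Eqj k i i ∧
      rep i (c • ω) = r c.toAdd * rep i ω * k := fun c ω => rep_smul i (ρ c) ω
  have hrn : ∀ c l, Eqj (r c) l l := fun c l => hX.slot_normal (hrX c) (sie_mem hp.ee (hL c).left) (hr c) l
  have hrE : ∀ c, Commute (r c : Matrix (τ → γ) (τ → γ) F) SE := fun c => by
    obtain ⟨h1, h2, -⟩ := wedge_E hp.ee (hL c).left
    rw [hr]
    show _ = _
    rw [hSE, ← slot_mul, ← slot_mul, sie_eq]
    simp only [add_mul, mul_add, sub_mul, mul_sub, one_mul, mul_one, h1, h2, smul_mul_assoc, mul_smul_comm]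
  have hfree : (∑ ω ∈ C, qop i (rep i ω) M) ∈ V := by
    rw [← Submodule.Quotient.mk_eq_zero, ← Submodule.mkQ_apply, map_sum]
    refine sum_zero_of_free (R := Multiplicative (Fin d → F)) (fun ω => V.mkQ (qop i (rep i ω) M)) _ ?_ ?_ ?_
    · intro c ω hω
      simp only [hC, Finset.mem_filter, Finset.mem_univ, true_and] at hω ⊢
      obtain ⟨k, hk, ek⟩ := hrep c ω
      rw [ek]
      refine ⟨fun l hl => hω.1 l ?_, fun hc => hω.2 fun A => ?_⟩
      · have := (hk.inv.trans hl).trans (hrn c.toAdd l).inv
        rwa [mul_inv_cancel_right, inv_mul_cancel_left] at this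
      · obtain ⟨A', hA'⟩ := hk.inv A
        have h1 := commute_conjM (r c.toAdd)⁻¹ (hc A')
        rw [conjM_conjM, conjM_fix (y := (r c.toAdd)⁻¹)] at h1
        swap
        · exact (hrE c.toAdd).units_inv_left
        rw [← hA', conjM_conjM, show (r c.toAdd)⁻¹ * (r c.toAdd * rep i ω * k) * k⁻¹ = rep i ω by group] at h1
        exact h1
    · intro c ω hω hfix
      by_contra hc
      simp only [hC, Finset.mem_filter, Finset.mem_univ, true_and] at hω
      obtain ⟨k, hk, ek⟩ := hrep c ω
      rw [hfix] at ek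
      set g := rep i ω with hg
      have hn : Eqj (g⁻¹ * r c.toAdd * g) i i := by
        have e2 : g⁻¹ * r c.toAdd * g = k⁻¹ := by
          calc g⁻¹ * r c.toAdd * g = g⁻¹ * (r c.toAdd * g * k) * k⁻¹ := by group
            _ = k⁻¹ := by rw [← ek, inv_mul_cancel, one_mul]
        rw [e2]
        exact hk.inv
      have hc0 : c.toAdd ≠ 0 := fun h0 => hc (Multiplicative.toAdd.injective h0)
      rcases hG.root_cases (ω.out : X).2 hp (hL c.toAdd) (hLne _ hc0) (hrX _) (hr _) hn with h | h
      · exact hω.1 j h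
      · exact hω.2 h
    · intro ω _
      set Y := qop i (rep i ω) M
      have e1 : ∀ c : Fin d → F, qop i (rep i (Multiplicative.ofAdd c • ω)) M = conjM (r c) Y := by
        intro c
        obtain ⟨k, hk, ek⟩ := hrep (Multiplicative.ofAdd c) ω
        rw [ek, qop_normal hk, qop_left]
        refine congrArg _ (congrArg _ (conjM_fix (Commute.units_inv_left ?_)))
        rw [hM, toAdd_ofAdd, hr]
        refine (hN _).mul_right ?_
        show _ = _
        rw [← slot_mul, ← slot_mul]
        congr 1
        have hw : sie P.G e (L c) * P.wedge e v * P.adj (sie P.G e (L c)) = P.wedge e v := by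
          rw [conj_wedge, sie_apply, sie_apply, hp.ee, hv.left, (hL c).left']
          simp only [zero_smul, mul_zero, sub_zero, add_zero]
          rw [wedge_add, wedge_smul, show P.wedge e e = 0 from P.T.wedge_self e, smul_zero, add_zero]
        conv_rhs => rw [← hw]
        rw [mul_assoc _ (P.adj _), show P.adj (sie P.G e (L c)) * sie P.G e (L c) = 1 from sie_iso hp.ee (hL c).left,
          mul_one]
      show ∑ c : Multiplicative (Fin d → F), V.mkQ (qop i (rep i (c • ω)) M) = 0
      rw [← (Multiplicative.ofAdd : (Fin d → F) ≃ Multiplicative (Fin d → F)).sum_comp, ← map_sum,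
        Submodule.mkQ_apply, Submodule.Quotient.mk_eq_zero]
      refine LinearMap.mem_range.mpr ⟨κ • Y, ?_⟩
      simp only [e1]
      have e2 : ∀ c, conjM (r c) Y = slotHom j (sie P.G e (L c)) * Y * slotHom j (sie P.G e (-(L c))) := fun c => by
        rw [conjM_apply, hX.inv_eq (hrX c), hr, P.dag_slot, adj_sie hp.ee (hL c).left]
        rfl
      simp only [e2]
      rw [hsum (τ → γ) (slotHom j) Y]
      show SE * (κ • Y * SE) = κ • (SE * Y * SE)
      rw [smul_mul_assoc, mul_smul_comm, mul_assoc]
  have hB : badOp X i M = ∑ ω ∈ C, qop i (rep i ω) M := by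
    rw [badOp, LinearMap.sum_apply]
    refine (Finset.sum_subset (fun ω hω => ?_) fun ω h1 h2 => ?_).symm
    · simp only [hC, mem_bad, Finset.mem_filter, Finset.mem_univ, true_and] at hω ⊢
      exact hω.1
    · simp only [hC, mem_bad, Finset.mem_filter, Finset.mem_univ, true_and, not_and, not_not] at h1 h2
      exact hpw ω (h2 h1)
  rw [← hB] at hfree
  obtain ⟨Y, hY⟩ := LinearMap.mem_range.mp hfree
  -- move by a Levi element
  obtain ⟨h, a, s, hl, hhv, hs, has⟩ := exists_shift hp hv hvv
  obtain ⟨k, hkX, ek⟩ := hX.slotMem j h hl.mem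
  have h1 : conjM k M = (a * s) • M := by
    rw [hM, conj_slot hX hkX ek hN, conj_wedge, hl.he, hhv, wedge_smul, wedge, P.T.wedge_smul_left, smul_smul,
      slot_smul, mul_smul_comm, mul_comm s a]
  have hB' : badOp X i M = SE * Y * SE := by
    rw [← hY, mul_assoc]
    rfl
  have hkE : conjM k SE = (a * a) • SE := by
    have h' := conj_slot (j := j) hX hkX ek CM.one (P.E e)
    rwa [one_mul, one_mul, conj_E, hl.he, E_smul, slot_smul] at h'
  have h2 : conjM k (SE * Y * SE) = (a * a) • (SE * Y * SE) := by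
    have hcomp : ∀ x y, ∃ c : F, comp j x y (SE * Y * SE) = c • P.E e := fun x y => by
      refine ⟨P.B e (comp j x y Y *ᵥ e), ?_⟩
      rw [hSE, comp_mul_slot, comp_slot_mul, E_mul_E]
    obtain ⟨N', hN', eN'⟩ := split hcomp
    rw [eN', conj_slot hX hkX ek hN', conj_E, hl.he, E_smul, slot_smul, mul_smul_comm]
  have h3 := hX.badOp_conj (i := i) hkX hl.mem ek M
  rw [h1, map_smul, hB', h2] at h3
  rw [hB']
  have h4 : (a * s - a * a) • (SE * Y * SE) = 0 := by rw [sub_smul, h3, sub_self]
  refine (smul_eq_zero.mp h4).resolve_left ?_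
  rw [← mul_sub]
  exact mul_ne_zero hl.ne (sub_ne_zero.mpr (Ne.symm has))

set_option maxHeartbeats 1000000 in
/-- The bad classes kill the skew maps. -/
theorem Good.bad_skew [Nonempty γ] (hG : P.Good X) (i : τ) [Fintype (Orbit X i)] {M : Matrix (τ → γ) (τ → γ) F}
    (hM : P.dag M = -M) : badOp X i M = 0 := by
  classical
  obtain ⟨e, f, hp⟩ := exists_pair' P
  obtain ⟨v, hv, hvv⟩ := exists_perp hp
  have hslot : ∀ (j : τ) (K : Matrix γ γ F), P.adj K = -K → ∀ N, CM j N → badOp X i (N * slot j K) = 0 := by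
    intro j K hK
    let S : AddSubgroup (Matrix γ γ F) :=
      { carrier := {K | ∀ N, CM j N → badOp X i (N * slot j K) = 0}
        zero_mem' := fun N _ => by rw [slot_zero, mul_zero, map_zero]
        add_mem' := fun ha hb N hN => by rw [slot_add, mul_add, map_add, ha N hN, hb N hN, add_zero]
        neg_mem' := fun ha N hN => by rw [TensorPowLin.slot_neg, mul_neg, map_neg, ha N hN, neg_zero] }
    refine skew_all S (fun h hh A hA N hN => ?_) hp hv hvv (fun s N hN => ?_) hK
    · obtain ⟨k, hk, ek⟩ := hG.hyp.slotMem j h hh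
      rw [← conj_slot hG.hyp hk ek hN, hG.hyp.badOp_conj hk hh ek, hA N hN, map_zero]
    · rw [slot_smul, mul_smul_comm, map_smul, hG.bad_wedge i j hp hv hvv hN, smul_zero]
  have hadj : ∀ g : τ → Matrix γ γ F, badOp X i (tens fun l => P.adj (g l)) = badOp X i (tens g) := by
    intro g
    have key : ∀ s : Finset τ, badOp X i (tens fun l => if l ∈ s then P.adj (g l) else g l) = badOp X i (tens g) := by
      intro s
      induction s using Finset.induction_on with
      | empty => simp
      | insert a s ha ih =>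
        rw [← ih]
        set g' : τ → Matrix γ γ F := fun l => if l ∈ s then P.adj (g l) else g l with hg'
        have e1 : (fun l => if l ∈ insert a s then P.adj (g l) else g l) = Function.update g' a (P.adj (g a)) := by
          funext l
          by_cases hla : l = a
          · subst hla; simp
          · simp [hg', hla]
        have e2 : g' = Function.update g' a (g a) := by
          funext l
          by_cases hla : l = a
          · subst hla; simp [hg', ha]
          · simp [hla]
        conv_rhs => rw [e2]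
        rw [e1, ← sub_eq_zero, ← map_sub, tens_update_sub]
        have e3 : tens (Function.update g' a (P.adj (g a) - g a)) =
            tens (Function.update g' a 1) * slot a (P.adj (g a) - g a) := by
          rw [tens_slot (Function.update_self a 1 g'), Function.update_idem]
        rw [e3]
        exact hslot a _ (by rw [adj, P.T.adjU_sub, P.T.adjU_adjU, neg_sub]) _ (cm_tens (Function.update_self a 1 g'))
    simpa using key Finset.univ
  have hall : ∀ N : Matrix (τ → γ) (τ → γ) F, badOp X i (P.dag N) = badOp X i N := by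
    intro N
    have e : ∀ x y : τ → γ, badOp X i (P.dag (Matrix.single x y (N x y))) = badOp X i (Matrix.single x y (N x y)) := by
      intro x y
      rw [show Matrix.single x y (N x y) = N x y • Matrix.single x y (1 : F) by
        rw [Matrix.smul_single, smul_eq_mul, mul_one], P.dag_smul, map_smul, map_smul, single_eq_tens, P.dag_tens, hadj]
    conv_rhs => rw [matrix_eq_sum_single N, map_sum]
    conv_lhs => rw [matrix_eq_sum_single N]
    rw [show P.dag (∑ x, ∑ y, Matrix.single x y (N x y)) = ∑ x, ∑ y, P.dag (Matrix.single x y (N x y)) by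
      let D : Matrix (τ → γ) (τ → γ) F →+ Matrix (τ → γ) (τ → γ) F :=
        AddMonoidHom.mk' (fun M => P.dag M) fun a b => P.dag_add a b
      show D _ = _
      rw [map_sum]
      exact Finset.sum_congr rfl fun x _ => map_sum D _ _, map_sum]
    exact Finset.sum_congr rfl fun x _ => by rw [map_sum, map_sum]; exact Finset.sum_congr rfl fun y _ => e x y
  have h1 := hall M
  rw [hM, map_neg, neg_eq_iff_add_eq_zero, ← two_smul F, smul_eq_zero] at h1
  exact h1.resolve_left P.two

end Frm

end Cfsg.Lib.Classical.OrthPow
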