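import Cfsg.Agent.Classical.OrthPow.Cross

/-!
# Kernels of tensor products of unipotent elements
-/

set_option autoImplicit false
set_option linter.unusedSectionVars false
set_option linter.unusedSimpArgs false
set_option linter.style.haveILetI false

namespace Cfsg.Lib.Classical.OrthPow

open Matrix Finset Module
open scoped Kronecker MatrixGroups
open Cfsg.Lib.Classical.TensorOrth (TForm sie)
open Cfsg.Lib.Classical.TensorPowLin (Rest toBig toBig_apply slot slot_eq conjM conjM_apply slotE)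

universe u

variable {α γ : Type} [Fintype α] [DecidableEq α] [Fintype γ] [DecidableEq γ] {F : Type u} [Field F]

/-- The dimension of the kernel. -/
noncomputable def nul {n : Type} [Fintype n] [DecidableEq n] (M : Matrix n n F) : ℕ :=
  finrank F (LinearMap.ker M.mulVecLin)

theorem mem_ker_mulVecLin {n : Type} [Fintype n] [DecidableEq n] {M : Matrix n n F} {v : n → F} :
    v ∈ LinearMap.ker M.mulVecLin ↔ M *ᵥ v = 0 := by
  rw [LinearMap.mem_ker, Matrix.mulVecLin_apply]

theorem nul_add_rank {n : Type} [Fintype n] [DecidableEq n] (M : Matrix n n F) :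
    nul M + M.rank = Fintype.card n := by
  rw [nul, Matrix.rank, add_comm, LinearMap.finrank_range_add_finrank_ker, Module.finrank_pi]

theorem nul_conj {n : Type} [Fintype n] [DecidableEq n] (g : GL n F) (M : Matrix n n F) :
    nul ((g : Matrix n n F) * M * ((g⁻¹ : GL n F) : Matrix n n F)) = nul M := by
  have h1 := nul_add_rank ((g : Matrix n n F) * M * ((g⁻¹ : GL n F) : Matrix n n F))
  have h2 := nul_add_rank M
  rw [Matrix.rank_mul_eq_left_of_isUnit_det _ _ ((Matrix.isUnit_iff_isUnit_det _).mp (g⁻¹).isUnit),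
    Matrix.rank_mul_eq_right_of_isUnit_det _ _ ((Matrix.isUnit_iff_isUnit_det _).mp g.isUnit)] at h1
  omega

/-- The kernel of a slot matrix. -/
theorem nul_kron (N : Matrix γ γ F) :
    nul ((1 : Matrix α α F) ⊗ₖ N) = Fintype.card α * nul N := by
  have hmv : ∀ (v : α × γ → F) (p : α) (q : γ),
      (((1 : Matrix α α F) ⊗ₖ N) *ᵥ v) (p, q) = (N *ᵥ fun c => v (p, c)) q := by
    intro v p q
    simp only [Matrix.mulVec, dotProduct, kroneckerMap_apply, Fintype.sum_prod_type]
    rw [Finset.sum_eq_single p (fun b _ hb => by simp [Matrix.one_apply_ne (Ne.symm hb)]) (by simp)]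
    simp
  let e : LinearMap.ker ((1 : Matrix α α F) ⊗ₖ N).mulVecLin ≃ₗ[F] (α → LinearMap.ker N.mulVecLin) :=
    { toFun := fun v p => ⟨fun c => v.1 (p, c), mem_ker_mulVecLin.mpr (funext fun q => by
        rw [← hmv, mem_ker_mulVecLin.mp v.2]; rfl)⟩
      invFun := fun w => ⟨fun x => (w x.1).1 x.2, mem_ker_mulVecLin.mpr (funext fun x => by
        obtain ⟨p, q⟩ := x
        rw [hmv, mem_ker_mulVecLin.mp (w p).2]; rfl)⟩
      map_add' := fun v w => rfl
      map_smul' := fun c v => rfl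
      left_inv := fun v => rfl
      right_inv := fun w => rfl }
  rw [nul, e.finrank_eq, Module.finrank_pi_fintype, Finset.sum_const, Finset.card_univ, smul_eq_mul, nul]

theorem nul_reindex {m n : Type} [Fintype m] [DecidableEq m] [Fintype n] [DecidableEq n] (e : m ≃ n)
    (M : Matrix m m F) : nul (Matrix.reindexAlgEquiv F F e M) = nul M := by
  have h1 := nul_add_rank (Matrix.reindexAlgEquiv F F e M)
  have h2 := nul_add_rank M
  rw [Matrix.reindexAlgEquiv_apply, Matrix.rank_reindex, ← Fintype.card_congr e] at h1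
  rw [Matrix.reindexAlgEquiv_apply]
  omega

theorem nul_toBig {τ : Type} [Fintype τ] [DecidableEq τ] (j : τ)
    (M : Matrix ((Rest j → γ) × γ) ((Rest j → γ) × γ) F) : nul (toBig j M) = nul M :=
  nul_reindex (slotE j).symm M

theorem nul_slot {τ : Type} [Fintype τ] [DecidableEq τ] (j : τ) (N : Matrix γ γ F) :
    nul (slot j N : Matrix (τ → γ) (τ → γ) F) = Fintype.card (Rest j → γ) * nul N := by
  rw [slot_eq, nul_toBig, nul_kron]

/-- The common kernel of a nilpotent matrix on one factor and one on the other is small. -/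
theorem fix_bound {M : Matrix α α F} (hM : IsNilpotent M) (hM0 : M ≠ 0) (N : Matrix γ γ F)
    (h : 3 ≤ N.rank ∨ (2 ≤ N.rank ∧ ∃ φ, Nᵀ *ᵥ φ = 0 ∧ ∀ ψ, Nᵀ *ᵥ ψ ≠ φ)) :
    nul (M ⊗ₖ (1 : Matrix γ γ F) - (1 : Matrix α α F) ⊗ₖ N) < Fintype.card α * (Fintype.card γ - 2) := by
  classical
  set S := LinearMap.ker (M ⊗ₖ (1 : Matrix γ γ F) - (1 : Matrix α α F) ⊗ₖ N).mulVecLin
  set R := LinearMap.range Nᵀ.mulVecLin
  have hR : finrank F R = N.rank := by rw [← Matrix.rank_transpose, Matrix.rank]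
  obtain ⟨φ₀, hφ₀⟩ : ∃ φ₀ : γ → F, (3 ≤ N.rank ∨ (Nᵀ *ᵥ φ₀ = 0 ∧ φ₀ ∉ R)) ∧ 2 ≤ N.rank ∧
      (φ₀ ∈ R → φ₀ = 0) := by
    rcases h with h | ⟨h2, φ, hφ, hψ⟩
    · exact ⟨0, Or.inl h, by omega, fun _ => rfl⟩
    · refine ⟨φ, Or.inr ⟨hφ, ?_⟩, h2, fun hm => ?_⟩
      · rintro ⟨ψ, hψ'⟩
        exact hψ ψ hψ'
      · obtain ⟨ψ, hψ'⟩ := hm
        exact absurd hψ' (hψ ψ)
  obtain ⟨hcase, h2, hφR⟩ := hφ₀
  obtain ⟨C, hC⟩ := Submodule.exists_isCompl (R ⊔ Submodule.span F {φ₀})
  set C₁ := C ⊔ Submodule.span F {φ₀}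
  have htop : C₁ ⊔ R = ⊤ := by
    rw [← hC.sup_eq_top]
    show C ⊔ Submodule.span F {φ₀} ⊔ R = R ⊔ Submodule.span F {φ₀} ⊔ C
    ac_rfl
  have hinf : C₁ ⊓ R = ⊥ := by
    rw [eq_bot_iff]
    intro x hx
    obtain ⟨hx1, hx2⟩ := Submodule.mem_inf.mp hx
    obtain ⟨c, hc, s, hs, rfl⟩ := Submodule.mem_sup.mp hx1
    have hc0 : c = 0 := by
      have hmem : c ∈ R ⊔ Submodule.span F {φ₀} := by
        have := Submodule.sub_mem (R ⊔ Submodule.span F {φ₀}) (Submodule.mem_sup_left hx2) (Submodule.mem_sup_right hs)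
        rwa [add_sub_cancel_right] at this
      have := Submodule.mem_inf.mpr ⟨hmem, hc⟩
      rwa [hC.inf_eq_bot, Submodule.mem_bot] at this
    rw [hc0, zero_add] at hx2 ⊢
    obtain ⟨a, rfl⟩ := Submodule.mem_span_singleton.mp hs
    rw [Submodule.mem_bot]
    by_cases ha : a = 0
    · rw [ha, zero_smul]
    · have := R.smul_mem a⁻¹ hx2
      rw [smul_smul, inv_mul_cancel₀ ha, one_smul] at this
      rw [hφR this, smul_zero]
  have hdim : finrank F C₁ + N.rank = Fintype.card γ := by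
    have := Submodule.finrank_sup_add_finrank_inf_eq C₁ R
    rw [htop, hinf, finrank_top, finrank_bot, Module.finrank_pi, hR] at this
    omega
  -- the partial contraction
  let ev : (γ → F) → (α × γ → F) → (α → F) := fun φ v p => φ ⬝ᵥ fun q => v (p, q)
  let Φ : S →ₗ[F] (C₁ →ₗ[F] (α → F)) :=
    { toFun := fun v =>
        { toFun := fun φ => ev φ.1 v.1
          map_add' := fun a b => funext fun p => add_dotProduct _ _ _
          map_smul' := fun c a => funext fun p => smul_dotProduct _ _ _ }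
      map_add' := fun v w => LinearMap.ext fun φ => funext fun p => dotProduct_add _ _ _
      map_smul' := fun c v => LinearMap.ext fun φ => funext fun p => dotProduct_smul _ _ _ }
  have hrel : ∀ v : S, ∀ ψ, ev (Nᵀ *ᵥ ψ) v.1 = M *ᵥ ev ψ v.1 := by
    intro v ψ
    have hv := mem_ker_mulVecLin.mp v.2
    rw [sub_mulVec, sub_eq_zero] at hv
    funext p
    have h1 : ∀ q, ((M ⊗ₖ (1 : Matrix γ γ F)) *ᵥ v.1) (p, q) = ∑ b, M p b * v.1 (b, q) := fun q => by
      simp only [Matrix.mulVec, dotProduct, kroneckerMap_apply, Fintype.sum_prod_type]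
      refine Finset.sum_congr rfl fun b _ => ?_
      rw [Finset.sum_eq_single q (fun c _ hc => by simp [Matrix.one_apply_ne (Ne.symm hc)]) (by simp)]
      simp
    have h2 : ∀ q, (((1 : Matrix α α F) ⊗ₖ N) *ᵥ v.1) (p, q) = (N *ᵥ fun c => v.1 (p, c)) q := fun q => by
      simp only [Matrix.mulVec, dotProduct, kroneckerMap_apply, Fintype.sum_prod_type]
      rw [Finset.sum_eq_single p (fun b _ hb => by simp [Matrix.one_apply_ne (Ne.symm hb)]) (by simp)]
      simp
    show (Nᵀ *ᵥ ψ) ⬝ᵥ (fun q => v.1 (p, q)) = ∑ b, M p b * (ψ ⬝ᵥ fun q => v.1 (b, q))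
    rw [mulVec_transpose, ← dotProduct_mulVec]
    have e : (N *ᵥ fun c => v.1 (p, c)) = fun q => ∑ b, M p b * v.1 (b, q) :=
      funext fun q => by rw [← h2, ← hv, h1]
    rw [e]
    simp only [dotProduct, Finset.mul_sum]
    rw [Finset.sum_comm]
    exact Finset.sum_congr rfl fun b _ => Finset.sum_congr rfl fun q _ => by ring
  have hinj : Function.Injective Φ := by
    refine (injective_iff_map_eq_zero Φ).mpr fun v hv => ?_
    have hW : ∀ φ, ∃ ψ, ev φ v.1 = M *ᵥ ev ψ v.1 := by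
      intro φ
      obtain ⟨c, hc, r, hr, rfl⟩ := Submodule.mem_sup.mp (htop ▸ Submodule.mem_top : φ ∈ C₁ ⊔ R)
      obtain ⟨ψ, rfl⟩ := hr
      refine ⟨ψ, ?_⟩
      have h0 : ev c v.1 = 0 := DFunLike.congr_fun hv ⟨c, hc⟩
      rw [← hrel v ψ]
      funext p
      show (c + Nᵀ.mulVecLin ψ) ⬝ᵥ _ = _
      rw [add_dotProduct, show c ⬝ᵥ (fun q => v.1 (p, q)) = 0 from congrFun h0 p, zero_add]
      rfl
    have hpow : ∀ n : ℕ, ∀ φ, ∃ ψ, ev φ v.1 = (M ^ n) *ᵥ ev ψ v.1 := by
      intro n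
      induction n with
      | zero => exact fun φ => ⟨φ, by rw [pow_zero, one_mulVec]⟩
      | succ n ih =>
        intro φ
        obtain ⟨ψ, e1⟩ := hW φ
        obtain ⟨χ, e2⟩ := ih ψ
        exact ⟨χ, by rw [e1, e2, mulVec_mulVec, ← pow_succ']⟩
    obtain ⟨n, hn⟩ := hM
    refine Subtype.ext (funext fun ⟨p, q⟩ => ?_)
    obtain ⟨ψ, e⟩ := hpow n (Pi.single q 1)
    rw [hn, zero_mulVec] at e
    simpa [ev] using congrFun e p
  have hfin : finrank F (C₁ →ₗ[F] (α → F)) = finrank F C₁ * Fintype.card α := by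
    rw [Module.finrank_linearMap, Module.finrank_pi]
  have hle : nul (M ⊗ₖ (1 : Matrix γ γ F) - (1 : Matrix α α F) ⊗ₖ N) ≤ finrank F C₁ * Fintype.card α :=
    hfin ▸ LinearMap.finrank_le_finrank_of_injective hinj
  have hαpos : 0 < Fintype.card α := Fintype.card_pos_iff.mpr (by
    by_contra hh
    exact hM0 (Matrix.ext fun a => absurd ⟨a⟩ hh))
  by_cases h3 : 3 ≤ N.rank
  · calc _ ≤ finrank F C₁ * Fintype.card α := hle
      _ < (Fintype.card γ - 2) * Fintype.card α := Nat.mul_lt_mul_of_pos_right (by omega) hαpos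
      _ = _ := mul_comm _ _
  obtain ⟨hφ, hφn⟩ := hcase.resolve_left h3
  have hφ0 : φ₀ ≠ 0 := fun h0 => hφn (h0 ▸ R.zero_mem)
  have hne : LinearMap.range Φ ≠ ⊤ := by
    intro htopΦ
    obtain ⟨a, ha⟩ : ∃ a, M *ᵥ a ≠ 0 := by
      by_contra hh
      push Not at hh
      exact hM0 (Matrix.ext_of_mulVec_single fun x => by rw [hh, zero_mulVec])
    let x₀ : C₁ := ⟨φ₀, Submodule.mem_sup_right (Submodule.mem_span_singleton_self φ₀)⟩
    obtain ⟨χ, hχ⟩ := Module.Projective.exists_dual_ne_zero F (show x₀ ≠ 0 from fun h => hφ0 (congrArg Subtype.val h))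
    obtain ⟨v, hv⟩ : (((χ x₀)⁻¹ • χ).smulRight a : C₁ →ₗ[F] (α → F)) ∈ LinearMap.range Φ := htopΦ ▸ Submodule.mem_top
    have h1 : ev φ₀ v.1 = a := by
      have := DFunLike.congr_fun hv x₀
      simpa [Φ, x₀, inv_mul_cancel₀ hχ] using this
    have h2 := hrel v φ₀
    rw [hφ, h1] at h2
    exact ha (by rw [← h2]; funext p; exact zero_dotProduct _)
  have hlt := Submodule.finrank_lt hne
  rw [LinearMap.finrank_range_of_inj hinj, hfin] at hlt
  calc _ < finrank F C₁ * Fintype.card α := hlt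
    _ ≤ (Fintype.card γ - 2) * Fintype.card α := Nat.mul_le_mul_right _ (by omega)
    _ = _ := mul_comm _ _

namespace Frm

variable {P : Frm γ F}

/-- Nilpotent and skew up to a commuting unipotent twist. -/
structure SkN (P : Frm γ F) (N : Matrix γ γ F) : Prop where
  nil : IsNilpotent N
  skew : ∃ U, P.adj N = -(N * U) ∧ Commute N U ∧ IsNilpotent (U - 1)

theorem SkN.of_skew {N : Matrix γ γ F} (hn : IsNilpotent N) (h : P.adj N = -N) : P.SkN N :=
  ⟨hn, 1, by rw [Matrix.mul_one]; exact h, Commute.one_right _, by rw [sub_self]; exact IsNilpotent.zero⟩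

theorem SkN.of_iso {a : Matrix γ γ F} (hi : P.Iso a) (hn : IsNilpotent (a - 1)) : P.SkN (a - 1) := by
  refine ⟨hn, P.adj a, ?_, ?_, ?_⟩
  · rw [Matrix.sub_mul, Matrix.one_mul, hi.mul_adj, adj, P.T.adjU_sub, P.T.adjU_one]
    exact (neg_sub _ _).symm
  · exact ((show Commute a (P.adj a) from hi.mul_adj.trans hi.symm)).sub_left (Commute.one_left _)
  · obtain ⟨n, hn⟩ := hn
    refine ⟨n, ?_⟩
    have e : P.adj a - 1 = P.adj (a - 1) := by simp only [adj, TForm.adjU_sub, TForm.adjU_one]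
    rw [e]
    have hp : ∀ m : ℕ, P.adj (a - 1) ^ m = P.adj ((a - 1) ^ m) := fun m => by
      induction m with
      | zero => rw [pow_zero, pow_zero, adj, P.T.adjU_one]
      | succ m ih =>
        simp only [adj] at ih ⊢
        rw [pow_succ', ih, pow_succ, P.T.adjU_mul]
    rw [hp, hn]
    simp [adj, TForm.adjU]

theorem SkN.range_perp {N : Matrix γ γ F} (hN : P.SkN N) {x y : γ → F} (hy : N *ᵥ y = 0) :
    P.B (N *ᵥ x) y = 0 := by
  obtain ⟨U, hU, hc, -⟩ := hN.skew
  show P.T.B₁ (N *ᵥ x) y = 0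
  rw [show N *ᵥ x = P.T.adjU (P.T.adjU N) *ᵥ x by rw [P.T.adjU_adjU], ← P.T.B₁_adjU,
    show P.T.adjU N = _ from hU, neg_mulVec, hc.eq, ← mulVec_mulVec, hy, mulVec_zero, neg_zero]
  exact P.B_zero_right x

theorem SkN.rank_two {N : Matrix γ γ F} (hN : P.SkN N) (h0 : N ≠ 0) : 2 ≤ N.rank := by
  obtain ⟨U, hU, hc, hUn⟩ := hN.skew
  by_contra hlt
  obtain ⟨x₀, hx₀⟩ : ∃ x, N *ᵥ x ≠ 0 := by
    by_contra hh
    push Not at hh
    exact h0 (Matrix.ext_of_mulVec_single fun x => by rw [hh, zero_mulVec])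
  set w := N *ᵥ x₀ with hw
  have hmem : w ∈ LinearMap.range N.mulVecLin := ⟨x₀, rfl⟩
  have hrange : LinearMap.range N.mulVecLin = Submodule.span F {w} := by
    refine (Submodule.eq_of_le_of_finrank_le ?_ ?_).symm
    · rw [Submodule.span_le, Set.singleton_subset_iff]; exact hmem
    · rw [finrank_span_singleton hx₀]
      show N.rank ≤ 1
      omega
  have hφ : ∀ x, ∃ c : F, N *ᵥ x = c • w := fun x => by
    have : N *ᵥ x ∈ Submodule.span F {w} := hrange ▸ ⟨x, rfl⟩
    obtain ⟨c, hc⟩ := Submodule.mem_span_singleton.mp this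
    exact ⟨c, hc.symm⟩
  have hBx : P.B w x₀ ≠ 0 := by
    intro h
    refine hx₀ (P.T.eq_zero₁ fun v => ?_)
    obtain ⟨c, hc⟩ := hφ v
    have h1 : N *ᵥ (v - c • x₀) = 0 := by rw [mulVec_sub, mulVec_smul, hc, hw, sub_self]
    have h2 := hN.range_perp (x := x₀) h1
    rw [← hw, B_sub_right, B_smul_right, h, mul_zero, sub_zero] at h2
    show P.B v w = 0
    rw [B_comm, h2]
  have hE : N = (P.B w x₀)⁻¹ • P.E w := ext fun v => by
    obtain ⟨c, hc⟩ := hφ v
    have h1 : N *ᵥ (v - c • x₀) = 0 := by rw [mulVec_sub, mulVec_smul, hc, hw, sub_self]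
    have h2 := hN.range_perp (x := x₀) h1
    rw [← hw, B_sub_right, B_smul_right, sub_eq_zero] at h2
    rw [hc, smul_mulVec, E_mulVec, h2, smul_smul, mul_comm c, ← mul_assoc, inv_mul_cancel₀ hBx, one_mul]
  have hadj : P.adj N = N := by rw [hE, adj, P.T.adjU_smul]; congr 1; exact P.adj_E w
  have hu : IsUnit (1 + U) := by
    have h2u : IsUnit ((2 : F) • (1 : Matrix γ γ F)) := by
      rw [← Algebra.algebraMap_eq_smul_one]
      exact (isUnit_iff_ne_zero.mpr P.two).map _
    have := hUn.isUnit_add_left_of_commute h2u ((Commute.one_right (U - 1)).smul_right _)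
    convert this using 1
    module
  have h3 : N * (1 + U) = 0 := by
    rw [Matrix.mul_add, Matrix.mul_one]
    conv_lhs => arg 1; rw [← hadj, hU]
    exact neg_add_cancel _
  obtain ⟨u, hu'⟩ := hu
  exact h0 (by rw [← Matrix.mul_one N, ← Units.mul_inv u, ← Matrix.mul_assoc, hu', h3, Matrix.zero_mul])

/-- The condition of `fix_bound` holds from dimension four on. -/
theorem SkN.bound_cond [Fintype F] {N : Matrix γ γ F} (hN : P.SkN N) (h0 : N ≠ 0) (h4 : 4 ≤ Fintype.card γ) :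
    3 ≤ N.rank ∨ (2 ≤ N.rank ∧ ∃ φ, Nᵀ *ᵥ φ = 0 ∧ ∀ ψ, Nᵀ *ᵥ ψ ≠ φ) := by
  refine (le_or_gt 3 N.rank).imp_right fun hlt => ⟨hN.rank_two h0, ?_⟩
  have hr : N.rank = 2 := by have := hN.rank_two h0; omega
  obtain ⟨U, hU, hc, hUn⟩ := hN.skew
  obtain ⟨v, hv, hvr⟩ : ∃ v, N *ᵥ v = 0 ∧ ∀ x, N *ᵥ x ≠ v := by
    by_contra hh
    push Not at hh
    have hsub : LinearMap.ker N.mulVecLin ≤ LinearMap.range N.mulVecLin := fun v hv => by
      obtain ⟨x, hx⟩ := hh v (mem_ker_mulVecLin.mp hv)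
      exact ⟨x, hx⟩
    have hd : nul N ≤ N.rank := Submodule.finrank_mono hsub
    have hk := nul_add_rank N
    have h4' : Fintype.card γ = 4 := by omega
    have heq : LinearMap.ker N.mulVecLin = LinearMap.range N.mulVecLin :=
      Submodule.eq_of_le_of_finrank_le hsub (show N.rank ≤ nul N by omega)
    have hiso : ∀ a ∈ LinearMap.range N.mulVecLin, ∀ b ∈ LinearMap.range N.mulVecLin, P.B a b = 0 := by
      rintro a ⟨x, rfl⟩ b hb
      rw [← heq] at hb
      exact hN.range_perp (mem_ker_mulVecLin.mp hb)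
    have hR2 : finrank F (LinearMap.range N.mulVecLin) = 2 := hr
    obtain ⟨e, he, he0⟩ := (Submodule.ne_bot_iff (LinearMap.range N.mulVecLin)).mp fun h => by
      rw [h, finrank_bot] at hR2; omega
    obtain ⟨f, hp⟩ := exists_partner' he0 (hiso e he e he)
    have hle : LinearMap.range N.mulVecLin ≤ Submodule.span F {e} := by
      intro z hz
      have hz' : P.Perp e f (z - P.B f z • e) := ⟨by rw [B_sub_right, B_smul_right, hp.ee, hiso e he z hz]; ring,
        by rw [B_sub_right, B_smul_right, hp.fe]; ring⟩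
      have hzz : P.B (z - P.B f z • e) (z - P.B f z • e) = 0 := hiso _ (sub_mem hz (Submodule.smul_mem _ _ he)) _
        (sub_mem hz (Submodule.smul_mem _ _ he))
      have := small' hp hz' h4' hzz
      exact Submodule.mem_span_singleton.mpr ⟨P.B f z, (sub_eq_zero.mp this).symm⟩
    have := Submodule.finrank_mono hle
    rw [finrank_span_singleton he0] at this
    omega
  have hNt : ∀ y, Nᵀ *ᵥ (P.G *ᵥ y) = P.G *ᵥ (P.adj N *ᵥ y) := fun y => by
    rw [mulVec_mulVec, mulVec_mulVec]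
    show _ = (P.G * (P.G⁻¹ * Nᵀ * P.G)) *ᵥ y
    rw [← Matrix.mul_assoc, ← Matrix.mul_assoc, show P.G * P.G⁻¹ = 1 from P.T.mul_inv₁, Matrix.one_mul]
  have hinjG : ∀ a b : γ → F, P.G *ᵥ a = P.G *ᵥ b → a = b := fun a b h => by
    have := congrArg (P.G⁻¹ *ᵥ ·) h
    simpa [mulVec_mulVec, show P.G⁻¹ * P.G = 1 from P.T.inv_mul₁] using this
  refine ⟨P.G *ᵥ v, ?_, fun ψ hψ => ?_⟩
  · rw [hNt, hU, neg_mulVec, hc.eq, ← mulVec_mulVec, hv, mulVec_zero, neg_zero, mulVec_zero]
  · have h1 : Nᵀ *ᵥ ψ = Nᵀ *ᵥ (P.G *ᵥ (P.G⁻¹ *ᵥ ψ)) := by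
      rw [mulVec_mulVec ψ P.G P.G⁻¹, show P.G * P.G⁻¹ = 1 from P.T.mul_inv₁, one_mulVec]
    rw [h1, hNt] at hψ
    have := hinjG _ _ hψ
    rw [hU, neg_mulVec, ← mulVec_mulVec, ← mulVec_neg] at this
    exact hvr _ this

/-- The kernel of a root element minus one. -/
theorem nul_root {e f u : γ → F} (hp : P.Pair e f) (hu : P.Perp e f u) (huu : P.B u u ≠ 0) :
    nul (sie P.G e u - 1) + 2 = Fintype.card γ := by
  let φ : (γ → F) →ₗ[F] (Fin 2 → F) :=
    { toFun := fun v => ![P.B e v, P.B u v]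
      map_add' := fun v w => by ext i; fin_cases i <;> simp [B_add_right]
      map_smul' := fun c v => by ext i; fin_cases i <;> simp [B_smul_right] }
  have hker : LinearMap.ker (sie P.G e u - 1).mulVecLin = LinearMap.ker φ := by
    ext v
    rw [mem_ker_mulVecLin, LinearMap.mem_ker, sub_mulVec, one_mulVec, sie_apply]
    constructor
    · intro h
      have h1 := congrArg (P.B u) h
      simp only [B_sub_right, B_add_right, B_smul_right, B_zero_right, show P.B u e = 0 from hu.left'] at h1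
      have he' : P.B e v = 0 := (mul_eq_zero.mp (show P.B e v * P.B u u = 0 by linear_combination -h1)).resolve_right huu
      rw [he', mul_zero, zero_smul, zero_smul, sub_zero, sub_zero, add_sub_cancel_left, smul_eq_zero] at h
      ext i; fin_cases i <;> simp [φ, he', h.resolve_right hp.ne]
    · intro h
      have h1 : P.B e v = 0 := by simpa [φ] using congrFun h 0
      have h2 : P.B u v = 0 := by simpa [φ] using congrFun h 1
      simp [h1, h2]
  have hsurj : LinearMap.range φ = ⊤ := by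
    refine eq_top_iff.mpr fun y _ => ⟨y 0 • f + ((y 1) / P.B u u) • u, ?_⟩
    ext i
    fin_cases i
    · simp [φ, B_add_right, B_smul_right, hp.ef, hu.left]
    · simp [φ, B_add_right, B_smul_right, hu.right', huu]
  have h := LinearMap.finrank_range_add_finrank_ker φ
  rw [hsurj, finrank_top, Module.finrank_pi, Module.finrank_pi, Fintype.card_fin] at h
  rw [nul, hker]
  omega

end Frm

end Cfsg.Lib.Classical.OrthPow
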