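import Cfsg.Agent.Classical.OrthPow.Three

/-!
# Conjugates of a slot against a root of another slot
-/

set_option autoImplicit false
set_option linter.unusedSectionVars false
set_option linter.unusedSimpArgs false
set_option linter.style.haveILetI false

namespace Cfsg.Lib.Classical.OrthPow

open Matrix Finset
open scoped Kronecker MatrixGroups
open Cfsg.Lib.Classical.TensorOrth (TForm sie sie_zero sie_mul Three Frame Uni)
open Cfsg.Lib.Classical.TensorPowLin (Rest toBig slot slot_eq slot_mul slot_one slot_smul slot_sub slot_zero conjM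
  conjM_apply conjM_mul conjM_one conjM_conjM conjM_inv_conjM conjM_conjM_inv commute_conjM Eqj)

universe u

variable {τ γ : Type} [Fintype τ] [DecidableEq τ] [Fintype γ] [DecidableEq γ] {F : Type u} [Field F] [Fintype F]

namespace Frm

variable {P : Frm γ F} {X : Subgroup (GL (τ → γ) F)}

theorem Iso.uni {a : Matrix γ γ F} (ha : P.Iso a) (hn : IsNilpotent (a - 1)) : Uni P.G a := by
  refine ⟨?_, hn⟩
  have h1 := congrArg (P.G * ·) (show P.adj a * a = 1 from ha)
  simp only [adj, TForm.adjU, ← Matrix.mul_assoc, Matrix.mul_one] at h1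
  rwa [show P.T.G₁ = P.G from rfl, show P.G * P.G⁻¹ = 1 from P.T.mul_inv₁, Matrix.one_mul] at h1

theorem Iso.adj_iso {a : Matrix γ γ F} (ha : P.Iso a) : P.Iso (P.adj a) := by
  rw [Iso, adj, adj, P.T.adjU_adjU]
  exact ha.mul_adj

theorem Iso.adj_nil {a : Matrix γ γ F} (hn : IsNilpotent (a - 1)) : IsNilpotent (P.adj a - 1) := by
  obtain ⟨n, hn⟩ := hn
  refine ⟨n, ?_⟩
  have e : P.adj a - 1 = P.adj (a - 1) := by simp only [adj, TForm.adjU_sub, TForm.adjU_one]
  have hp : ∀ m : ℕ, P.adj (a - 1) ^ m = P.adj ((a - 1) ^ m) := fun m => by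
    induction m with
    | zero => rw [pow_zero, pow_zero, adj, P.T.adjU_one]
    | succ m ih =>
      simp only [adj] at ih ⊢
      rw [pow_succ', ih, pow_succ, P.T.adjU_mul]
  rw [e, hp, hn]
  simp [adj, TForm.adjU]

set_option maxHeartbeats 1000000 in
/-- If the conjugate of a root element of slot `j` normalises slot `i`, then slot `i` is moved onto slot `j` or into
the centraliser of the root. -/
theorem Good.root_cases (hG : P.Good X) {g : GL (τ → γ) F} (hg : g ∈ X) {i j : τ} {e f u : γ → F} (hp : P.Pair e f)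
    (hu : P.Perp e f u) (huu : P.B u u ≠ 0) {r : GL (τ → γ) F} (hr : r ∈ X)
    (er : (r : Matrix (τ → γ) (τ → γ) F) = slot j (sie P.G e u)) (hn : Eqj (g⁻¹ * r * g) i i) :
    Eqj g i j ∨ P.Pw g i j e := by
  classical
  haveI : Nonempty γ := P.nonempty
  haveI : Nonempty (Rest i → γ) := inferInstance
  set h : GL (τ → γ) F := g⁻¹ * r * g with hh
  have hhp : h ^ ringChar F = 1 := by
    have h1 : ∀ n : ℕ, h ^ n = g⁻¹ * r ^ n * g := fun n => by
      simpa [hh] using (map_pow (MulAut.conj g⁻¹).toMonoidHom r n).symm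
    rw [h1, root_pow hp.ee hu.left er, mul_one, inv_mul_cancel]
  obtain ⟨A, a, hAa, hai, hAn, han⟩ := hG.hyp.unip_split (mul_mem (mul_mem (inv_mem hg) hr) hg) hn hhp
  have hconj : conjM g (h : Matrix (τ → γ) (τ → γ) F) = slot j (sie P.G e u) := by
    rw [← er, conjM_apply, hh, ← Units.val_mul, ← Units.val_mul]
    congr 1
    group
  have hpw : ∀ M, Commute (h : Matrix (τ → γ) (τ → γ) F) (slot i M) →
      Commute (conjM g (slot i M)) (slot j (sie P.G e u)) := fun M hM => by
    rw [← hconj]
    exact commute_conjM g hM.symm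
  by_cases ha : a = 1
  · refine Or.inr fun M => comm_E hp.ee hu.left huu (hpw M ?_)
    rw [hAa, ha]
    exact ((sie_cm (j := i) (A := A)) M).symm
  by_cases hA : A = 1
  · -- the root is moved to a root
    refine Or.inl ?_
    have hh' : (h : Matrix (τ → γ) (τ → γ) F) = slot i a := by rw [hAa, hA, slot_eq]
    have h1 : conjM g (slot i ((a - 1) * (a - 1))) = -(P.B u u) • slot j (P.E e) := by
      rw [← slot_sq hp.ee hu.left, slot_mul, slot_sub, slot_one, conjM_mul, map_sub, conjM_one, ← hh', hconj]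
    have huu' : -(P.B u u) ≠ 0 := neg_ne_zero.mpr huu
    set N := (a - 1) * (a - 1) with hN
    have hN2 : N * N = 0 := by
      refine TensorPowLin.slot_injective (F := F) i ?_
      rw [slot_zero, ← conjM_inv_conjM g (slot i (N * N)), slot_mul, conjM_mul, h1, smul_mul_smul_comm, ← slot_mul,
        (wedge_E hp.ee hp.ee).2.2, slot_zero, smul_zero, map_zero]
    have hrank : N.rank = 1 := by
      have h2 : nul (conjM g (slot i N)) = nul (slot j (P.E e)) := by rw [h1, nul_smul huu']
      rw [conjM_apply, nul_conj, nul_slot, nul_slot, card_rest i j] at h2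
      have h3 := nul_add_rank N
      have h4 := nul_add_rank (P.E e)
      rw [E_rank hp.ne] at h4
      have h5 : nul N = nul (P.E e) := Nat.eq_of_mul_eq_mul_left Fintype.card_pos h2
      omega
    have hperp : ∀ x y, N *ᵥ y = 0 → P.B (N *ᵥ x) y = 0 := by
      intro x y hy
      have hadjN : P.adj N = P.adj a * P.adj a * N := by
        have hc : Commute (P.adj a) a := (show P.adj a * a = a * P.adj a from hai.trans hai.mul_adj.symm)
        have e1 : P.adj (a - 1) = -(P.adj a * (a - 1)) := by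
          rw [adj, P.T.adjU_sub, P.T.adjU_one, Matrix.mul_sub, Matrix.mul_one, show P.T.adjU a * a = 1 from hai,
            neg_sub]
        have hc' : Commute (P.adj a) (a - 1) := hc.sub_right (Commute.one_right _)
        rw [hN, adj, P.T.adjU_mul, show P.T.adjU (a - 1) = _ from e1, neg_mul_neg, Matrix.mul_assoc,
          ← Matrix.mul_assoc (a - 1), ← hc'.eq, Matrix.mul_assoc, ← Matrix.mul_assoc]
      show P.T.B₁ (N *ᵥ x) y = 0
      rw [show N *ᵥ x = P.T.adjU (P.T.adjU N) *ᵥ x by rw [P.T.adjU_adjU], ← P.T.B₁_adjU,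
        show P.T.adjU N = _ from hadjN, ← mulVec_mulVec, hy, mulVec_zero]
      exact P.B_zero_right x
    obtain ⟨w, κ, hκ, hw0, hNw⟩ := form_of_rank_one hrank hperp
    have hww : P.B w w = 0 := by
      rw [hNw, smul_mul_smul_comm, smul_eq_zero] at hN2
      have h2 := hN2.resolve_left (mul_ne_zero hκ hκ)
      obtain ⟨z, hz⟩ : ∃ z, P.B w z ≠ 0 := by
        by_contra hz
        push Not at hz
        exact hw0 (P.T.eq_zero₁ fun z => by rw [← hz z]; exact P.B_comm z w)
      have h3 := congrArg (· *ᵥ z) h2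
      simp only [← mulVec_mulVec, E_mulVec, mulVec_smul, zero_mulVec, smul_smul] at h3
      exact (mul_eq_zero.mp ((smul_eq_zero.mp h3).resolve_right hw0)).resolve_left hz
    refine hG.cross hg hp.ne hp.ee hw0 hww (c := κ⁻¹ * -(P.B u u)) ?_
    rw [hNw, slot_smul, map_smul] at h1
    rw [← smul_smul, ← h1, smul_smul, inv_mul_cancel₀ hκ, one_smul]
  -- both factors are non-trivial
  rcases (P.card).lt_or_eq with h4 | h3
  · exfalso
    have hnul : nul ((h : Matrix (τ → γ) (τ → γ) F) - 1) = Fintype.card (Rest i → γ) * (Fintype.card γ - 2) := by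
      rw [← nul_conj g, ← conjM_apply, map_sub, conjM_one, hconj, ← slot_one j, ← slot_sub, nul_slot, card_rest i j]
      congr 1
      have := nul_root hp hu huu
      omega
    set U : Matrix ((Rest i → γ) × γ) ((Rest i → γ) × γ) F := (1 : Matrix (Rest i → γ) (Rest i → γ) F) ⊗ₖ a with hU
    have hUdet : IsUnit U.det := by
      refine Matrix.isUnit_det_of_left_inverse (B := (1 : Matrix (Rest i → γ) (Rest i → γ) F) ⊗ₖ P.adj a) ?_
      rw [hU, ← mul_kronecker_mul, show P.adj a * a = 1 from hai, Matrix.one_mul, one_kronecker_one]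
    have hfac : A ⊗ₖ a - 1 = ((A - 1) ⊗ₖ (1 : Matrix γ γ F) -
        (1 : Matrix (Rest i → γ) (Rest i → γ) F) ⊗ₖ (P.adj a - 1)) * U := by
      rw [hU, Matrix.sub_mul, ← mul_kronecker_mul, ← mul_kronecker_mul, Matrix.mul_one, Matrix.one_mul, Matrix.mul_one,
        Matrix.sub_mul (P.adj a), Matrix.one_mul, show P.adj a * a = 1 from hai]
      ext ⟨p, q⟩ ⟨p', q'⟩
      simp only [Matrix.sub_apply, kroneckerMap_apply, Matrix.one_apply, Prod.mk.injEq]
      split_ifs <;> simp_all <;> ring
    have hlt := fix_bound hAn (sub_ne_zero.mpr hA) (P.adj a - 1)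
      ((SkN.of_iso hai.adj_iso (Iso.adj_nil han)).bound_cond (sub_ne_zero.mpr fun h0 => ha (by
        rw [← hai.mul_adj, h0, Matrix.mul_one])) h4)
    have h1 := nul_add_rank (A ⊗ₖ a - 1)
    rw [hfac, Matrix.rank_mul_eq_left_of_isUnit_det _ _ hUdet, ← hfac] at h1
    have h2 := nul_add_rank ((A - 1) ⊗ₖ (1 : Matrix γ γ F) -
      (1 : Matrix (Rest i → γ) (Rest i → γ) F) ⊗ₖ (P.adj a - 1))
    rw [hAa, ← map_one (toBig i), ← map_sub, nul_toBig] at hnul
    omega
  · -- dimension three
    obtain ⟨v, x, w, s, hF, hs, hav⟩ := (hai.uni han).eq_sie ⟨P.symm, P.det, P.two, h3.symm⟩ ha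
    refine hG.root_three hg h3.symm hp hu huu hF fun c => hpw _ ?_
    rw [hAa, slot_eq, hav]
    show _ = _
    rw [← map_mul, ← map_mul, ← mul_kronecker_mul, ← mul_kronecker_mul, Matrix.mul_one, Matrix.one_mul,
      hF.sie_comm ⟨P.symm, P.det, P.two, h3.symm⟩]

end Frm

end Cfsg.Lib.Classical.OrthPow
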