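import Cfsg.Agent.Classical.TensorOrth.Big

/-!
# Centres at enough singular vectors of the second factor generate `Ω`
-/

set_option autoImplicit false
set_option linter.unusedSectionVars false
set_option linter.unusedSimpArgs false

namespace Cfsg.Lib.Classical.OrthPow

open Matrix
open scoped Kronecker MatrixGroups
open Cfsg.Lib.Classical.TensorOrth
open Cfsg.Lib.Classical.TensorOrth.TForm
open Cfsg.Lib.Classical.TensorMax (pure)

universe u

variable {α β : Type} [Fintype α] [DecidableEq α] [Fintype β] [DecidableEq β] {F : Type u} [Field F] [Fintype F]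
  {X : Subgroup (GL (α × β) F)}

set_option maxHeartbeats 1000000

/-- Centres at the vectors of a set `S` generate `Ω` if the ones seeing each of a pair span. -/
theorem omega_le_of_pairs (T : TForm α β F) (h2 : (2 : F) ≠ 0) (hc₁ : 3 ≤ Fintype.card α) (hc₂ : 3 ≤ Fintype.card β)
    (hiso : ∀ g ∈ X, T.IsIso (g : Matrix (α × β) (α × β) F)) (S : Set (β → F)) (hS : ∀ w ∈ S, T.B₂ w w = 0)
    (hall : ∀ w ∈ S, ∀ K, T.adjU K = -K → ∃ g ∈ X, (g : Matrix (α × β) (α × β) F) = T.ZM w K)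
    {e₀ f₀ : β → F} (he₀ : e₀ ∈ S) (hf₀ : f₀ ∈ S) (hef₀ : T.B₂ e₀ f₀ = 1)
    (hspan : ∀ e, e = e₀ ∨ e = f₀ → Submodule.span F {g | g ∈ S ∧ T.B₂ e g = 1} = ⊤) :
    Cfsg.Geo.omegaGL (⇑T.qf) ≤ X := by
  classical
  have hn : 5 ≤ Fintype.card (α × β) := le_trans (show 5 ≤ 3 * 3 by norm_num) (by rw [Fintype.card_prod]; exact Nat.mul_le_mul hc₁ hc₂)
  set K₀ := X.comap (Cfsg.isometryGroup F (⇑T.qf)).subtype with hK₀
  have hpol := T.qf_polar h2
  have hwsk : ∀ a c, T.adjU (T.wedge a c) = -T.wedge a c := fun a c => T.adjU_wedge a c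
  have hwap : ∀ a c v, T.wedge a c *ᵥ v = T.B₁ c v • a - T.B₁ a v • c := fun a c v => T.wedge_mulVec a c v
  -- vectors sharing the second factor
  have hsame : ∀ (x y : α → F) (e : β → F), e ∈ S → pure y e ∈ Refl.zset T.qf K₀ (pure x e) := by
    intro x y e heS
    have he := hS e heS
    have hq0 : ∀ v, T.qf (pure v e) = 0 := fun v => by rw [qf_apply, pure_dot_pure, he, mul_zero, mul_zero]
    refine ⟨by rw [hpol, pure_dot_pure, he, mul_zero], fun hu c hc => ?_⟩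
    obtain ⟨g, hg, eg⟩ := hall e heS (T.wedge (c • y) x) (hwsk _ _)
    show ((Refl.siegelG T.qf hu hc : Cfsg.isometryGroup F (⇑T.qf)) : GL (α × β) F) ∈ X
    rw [show ((Refl.siegelG T.qf hu hc : Cfsg.isometryGroup F (⇑T.qf)) : GL (α × β) F) = g from Units.ext ?_]
    · exact hg
    refine Matrix.ext_of_mulVec_single fun j => ?_
    rw [eg]
    show Refl.mat T.qf (Refl.siegelG T.qf hu hc) *ᵥ _ = _
    rw [Refl.mat_siegelG, Refl.siegelMap]
    simp only [← TensorMax.pure_smul_left, hq0, hpol, pure_dot, zero_mul, sub_zero]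
    rw [ZM, add_mulVec, one_mulVec, ← mulVec_mulVec, ← mulVec_mulVec, hwap, inc_mulVec, sub_eq_add_neg,
      TensorMax.pure_add_left, ← neg_smul, TensorMax.pure_smul_left, TensorMax.pure_smul_left, add_assoc,
      TensorMax.pure_smul_left]
  -- the orthogonal complement of `x` times the whole second factor
  have hperp : ∀ (x r : α → F) (e f : β → F), T.Pair₂ e f → e ∈ S → f ∈ S → T.B₁ x r = 0 →
      pure r f ∈ Refl.zset T.qf K₀ (pure x e) := by
    intro x r e f hp heS hfS hxr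
    by_cases hr0 : r = 0
    · rw [hr0, TensorMax.pure_zero_left]; exact zero_mem _
    obtain ⟨s, hxs, hrs⟩ : ∃ s, T.B₁ x s = 0 ∧ ∀ c : F, s ≠ c • r := by
      by_contra hh
      push Not at hh
      have hle : LinearMap.ker (dotProductBilin F F (T.G₁ *ᵥ x)) ≤ Submodule.span F {r} := fun s hs => by
        obtain ⟨c, hc⟩ := hh s (by rw [B₁_comm, B₁, dotProduct_comm]; exact hs)
        exact Submodule.mem_span_singleton.mpr ⟨c, hc.symm⟩
      have h1 := Submodule.finrank_mono hle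
      have h2 := (dotProductBilin F F (T.G₁ *ᵥ x)).finrank_range_add_finrank_ker
      have h3 := (LinearMap.range (dotProductBilin F F (T.G₁ *ᵥ x))).finrank_le
      rw [finrank_span_singleton hr0] at h1
      rw [Module.finrank_self] at h3
      rw [Module.finrank_pi] at h2
      have := hc₁
      omega
    obtain ⟨y, hry, hsy⟩ : ∃ y, T.B₁ r y = 0 ∧ T.B₁ s y = 1 := by
      have hli : LinearIndependent F ![T.G₁ *ᵥ r, T.G₁ *ᵥ s] := by
        rw [LinearIndependent.pair_iff]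
        intro a c hac
        rw [← mulVec_smul, ← mulVec_smul, ← mulVec_add] at hac
        have h0 := Matrix.eq_zero_of_mulVec_eq_zero T.det₁ hac
        by_cases hc : c = 0
        · rw [hc, zero_smul, add_zero] at h0
          exact ⟨(smul_eq_zero.mp h0).resolve_right hr0, hc⟩
        · exact absurd (show s = (-(c⁻¹ * a)) • r by
            rw [neg_smul, mul_smul, eq_neg_of_add_eq_zero_left h0, smul_neg, neg_neg, smul_smul, inv_mul_cancel₀ hc,
              one_smul]) (hrs _)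
      let M : Matrix (Fin 2) α F := Matrix.of ![T.G₁ *ᵥ r, T.G₁ *ᵥ s]
      have hrk : M.rank = 2 := by rw [(show LinearIndependent F M.row from hli).rank_matrix, Fintype.card_fin]
      have hsurj : Function.Surjective M.mulVecLin := by
        rw [← LinearMap.range_eq_top]
        exact Submodule.eq_top_of_finrank_eq (by rw [Module.finrank_fin_fun]; exact hrk)
      obtain ⟨y, hy⟩ := hsurj ![0, 1]
      refine ⟨y, ?_, ?_⟩
      · rw [B₁_comm, B₁, dotProduct_comm]; exact congrFun hy 0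
      · rw [B₁_comm, B₁, dotProduct_comm]; exact congrFun hy 1
    obtain ⟨g, hg, eg⟩ := hall f hfS (T.wedge r s) (hwsk _ _)
    let gI : Cfsg.isometryGroup F (⇑T.qf) :=
      ⟨g, (Refl.mem_iff T.qf).mpr ((T.isIso_iff_qf h2 _).mp (hiso _ hg))⟩
    have hgK : gI ∈ K₀ := hg
    have h1 := Refl.zset_map (hsame x y e heS) hgK
    have hmap : ∀ v, Refl.mat T.qf gI *ᵥ pure v e = pure v e + pure (T.wedge r s *ᵥ v) f := fun v => by
      show (g : Matrix (α × β) (α × β) F) *ᵥ _ = _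
      rw [eg, ZM, add_mulVec, one_mulVec, ← mulVec_mulVec, ← mulVec_mulVec, pr, ev_mulVec_pure, inc_mulVec,
        dotProduct_comm, ← TForm.B₂, T.B₂_comm, hp.fe, one_smul]
    have hx0 : T.wedge r s *ᵥ x = 0 := by
      rw [hwap, T.B₁_comm s x, hxs, T.B₁_comm r x, hxr, zero_smul, zero_smul, sub_zero]
    rw [hmap, hmap, hx0, TensorMax.pure_zero_left, add_zero, hwap, hry, hsy, one_smul, zero_smul, sub_zero] at h1
    have h2 := sub_mem h1 (hsame x y e heS)
    rwa [add_sub_cancel_left] at h2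
  have hperp' : ∀ (x r : α → F) (e : β → F), e ∈ S → Submodule.span F {g | g ∈ S ∧ T.B₂ e g = 1} = ⊤ →
      T.B₁ x r = 0 → ∀ w : β → F, pure r w ∈ Refl.zset T.qf K₀ (pure x e) := by
    intro x r e heS hsp hxr w
    let Z : Submodule F (β → F) :=
      { carrier := {w | pure r w ∈ Refl.zset T.qf K₀ (pure x e)}
        add_mem' := fun {a b} ha hb => by
          show pure r (a + b) ∈ Refl.zset T.qf K₀ (pure x e)
          rw [TensorMax.pure_add_right]; exact add_mem ha hb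
        zero_mem' := by
          show pure r 0 ∈ Refl.zset T.qf K₀ (pure x e)
          rw [TensorMax.pure_zero_right]; exact zero_mem _
        smul_mem' := fun c a ha => by
          show pure r (c • a) ∈ Refl.zset T.qf K₀ (pure x e)
          rw [TensorMax.pure_smul_right]; exact Submodule.smul_mem _ c ha }
    have hZ : Submodule.span F {g | g ∈ S ∧ T.B₂ e g = 1} ≤ Z :=
      Submodule.span_le.mpr fun g hg => hperp x r e g ⟨hS e heS, hS g hg.1, hg.2⟩ heS hg.1 hxr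
    exact hZ (hsp ▸ Submodule.mem_top)
  -- moving the first factor while fixing the complement of the pair
  have hmove : ∀ (x x₁ : α → F) (e f : β → F), T.Pair₂ e f → e ∈ S → f ∈ S → x ≠ 0 → x₁ ≠ 0 →
      ∃ gI ∈ K₀, Refl.mat T.qf gI *ᵥ pure x₁ e = pure x e ∧
        ∀ r w, T.B₂ e w = 0 → T.B₂ f w = 0 → Refl.mat T.qf gI *ᵥ pure r w = pure r w := by
    intro x x₁ e f hp heS hfS hx hx₁
    have hskew : ∀ p q : α → F, p ≠ 0 → T.B₁ q p = 0 → ∃ K, T.adjU K = -K ∧ K *ᵥ p = q := by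
      intro p q hp0 hqp
      obtain ⟨s, hs⟩ : ∃ s, T.B₁ s p ≠ 0 := by
        by_contra hh
        push Not at hh
        exact hp0 (T.eq_zero₁ hh)
      refine ⟨T.wedge q ((T.B₁ s p)⁻¹ • s), hwsk _ _, ?_⟩
      rw [hwap, B₁_smul_left, inv_mul_cancel₀ hs, one_smul, hqp, zero_smul, sub_zero]
    obtain ⟨r, hr0, hxr, hx₁r⟩ : ∃ r, r ≠ 0 ∧ T.B₁ r x = 0 ∧ T.B₁ r x₁ = 0 := by
      let M : Matrix (Fin 2) α F := Matrix.of ![T.G₁ *ᵥ x, T.G₁ *ᵥ x₁]
      obtain ⟨r, hr, hr0⟩ := Submodule.exists_mem_ne_zero_of_ne_bot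
        (LinearMap.ker_ne_bot_of_finrank_lt (f := M.mulVecLin) (by
          rw [Module.finrank_pi, Module.finrank_pi, Fintype.card_fin]; exact hc₁))
      refine ⟨r, hr0, ?_, ?_⟩
      · have := congrFun (LinearMap.mem_ker.mp hr) 0
        rw [B₁, dotProduct_comm]; exact this
      · have := congrFun (LinearMap.mem_ker.mp hr) 1
        rw [B₁, dotProduct_comm]; exact this
    obtain ⟨K₁, hK₁, hK₁r⟩ := hskew x₁ r hx₁ hx₁r
    obtain ⟨K₂, hK₂, hK₂r⟩ := hskew r (x - x₁) hr0 (by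
      rw [B₁_sub_left, T.B₁_comm x r, hxr, T.B₁_comm x₁ r, hx₁r, sub_zero])
    obtain ⟨K₃, hK₃, hK₃r⟩ := hskew x (-r) hx (by rw [B₁_neg_left, hxr, neg_zero])
    obtain ⟨g₁, hg₁, e₁⟩ := hall f hfS K₁ hK₁
    obtain ⟨g₂, hg₂, e₂⟩ := hall e heS K₂ hK₂
    obtain ⟨g₃, hg₃, e₃⟩ := hall f hfS K₃ hK₃
    have hgX : g₃ * g₂ * g₁ ∈ X := mul_mem (mul_mem hg₃ hg₂) hg₁
    refine ⟨⟨g₃ * g₂ * g₁, (Refl.mem_iff T.qf).mpr ((T.isIso_iff_qf h2 _).mp (hiso _ hgX))⟩, hgX, ?_, ?_⟩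
    · show ((g₃ * g₂ * g₁ : GL (α × β) F) : Matrix (α × β) (α × β) F) *ᵥ _ = _
      rw [Units.val_mul, Units.val_mul, e₁, e₂, e₃, ← mulVec_mulVec, ← mulVec_mulVec]
      simp only [ZM, add_mulVec, one_mulVec, ← mulVec_mulVec, mulVec_add, pr, ev_mulVec_pure, inc_mulVec,
        dotProduct_comm (T.G₂ *ᵥ _), show e ⬝ᵥ T.G₂ *ᵥ e = 0 from hp.ee, show f ⬝ᵥ T.G₂ *ᵥ f = 0 from hp.ff,
        show e ⬝ᵥ T.G₂ *ᵥ f = 1 from hp.ef, show f ⬝ᵥ T.G₂ *ᵥ e = 1 from hp.fe, zero_smul, one_smul, mulVec_zero,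
        TensorMax.pure_zero_left, add_zero, zero_add, hK₁r, hK₂r]
      ext ⟨i, k⟩
      simp only [Pi.add_apply, TensorMax.pure_apply, Pi.sub_apply, Pi.neg_apply]
      have hkey : (K₃ *ᵥ x₁) i + (K₃ *ᵥ (x - x₁)) i = -r i := by
        have := congrFun (show K₃ *ᵥ x₁ + K₃ *ᵥ (x - x₁) = -r by rw [← mulVec_add, add_sub_cancel, hK₃r]) i
        simpa using this
      linear_combination (f k) * hkey
    · intro r' w hew hfw
      show ((g₃ * g₂ * g₁ : GL (α × β) F) : Matrix (α × β) (α × β) F) *ᵥ _ = _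
      rw [Units.val_mul, Units.val_mul, e₁, e₂, e₃, ← mulVec_mulVec, ← mulVec_mulVec]
      have hfix : ∀ (g : β → F) (K : Matrix α α F), T.B₂ g w = 0 → T.ZM g K *ᵥ pure r' w = pure r' w := by
        intro g K hg
        rw [ZM, add_mulVec, one_mulVec, ← mulVec_mulVec, pr, ev_mulVec_pure, dotProduct_comm, ← TForm.B₂, B₂_comm,
          hg, zero_smul, mulVec_zero, add_zero]
      rw [hfix f K₁ hfw, hfix e K₂ hew, hfix f K₃ hfw]
  have hcent : ∀ (x : α → F) (e f : β → F), T.Pair₂ e f → e ∈ S → f ∈ S →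
      Submodule.span F {g | g ∈ S ∧ T.B₂ e g = 1} = ⊤ → x ≠ 0 → pure x e ∈ Refl.sCentres T.qf K₀ := by
    intro x e f hp heS hfS hsp hx
    refine Refl.sCentres_of_zset (by rw [qf_apply, pure_dot_pure, hp.ee, mul_zero, mul_zero]) fun z hz => ?_
    have hU0 : ∀ r w, T.B₂ e w = 0 → T.B₂ f w = 0 → pure r w ∈ Refl.zset T.qf K₀ (pure x e) := by
      intro r w hew hfw
      obtain ⟨x₁, hx₁, hrx₁⟩ : ∃ x₁, x₁ ≠ 0 ∧ T.B₁ x₁ r = 0 := by
        obtain ⟨x₁, hx₁, hx₁0⟩ := Submodule.exists_mem_ne_zero_of_ne_bot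
          (LinearMap.ker_ne_bot_of_finrank_lt (f := dotProductBilin F F (T.G₁ *ᵥ r)) (by
            rw [Module.finrank_self, Module.finrank_pi]; have := hc₁; omega))
        exact ⟨x₁, hx₁0, by rw [B₁, dotProduct_comm]; exact hx₁⟩
      obtain ⟨gI, hgI, hm, hfix⟩ := hmove x x₁ e f hp heS hfS hx hx₁
      have h1 := Refl.zset_map (hperp' x₁ r e heS hsp hrx₁ w) hgI
      rwa [hm, hfix r w hew hfw] at h1
    rw [← one_mulVec z, hp.res, add_mulVec, add_mulVec, sum_mulVec]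
    simp only [← mulVec_mulVec, inc_mulVec]
    refine add_mem (add_mem (hsame x _ e heS) (hperp x _ e f hp heS hfS ?_)) (sum_mem fun k _ => hU0 _ _ (hp.us_left k)
      (hp.us_right k))
    rw [← pure_dot, ← hpol]
    exact hz
  have hp : T.Pair₂ e₀ f₀ := ⟨hS e₀ he₀, hS f₀ hf₀, hef₀⟩
  obtain ⟨x, y, hxx, hyy, hxy⟩ := exists_pair T.symm₁ T.det₁ h2 hc₁
  have hxp : T.Pair₁ x y := ⟨hxx, hyy, hxy⟩
  have hle := DecompGen.omega_le_of_two (T.qf_nondeg h2) hn (hcent x e₀ f₀ hp he₀ hf₀ (hspan e₀ (Or.inl rfl)) hxp.ne)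
    (hcent y f₀ e₀ hp.symm hf₀ he₀ (hspan f₀ (Or.inr rfl)) hxp.symm.ne) (by rw [hpol, pure_dot_pure, hxp.xy, hp.ef, mul_one]; exact one_ne_zero)
  intro g hg
  obtain ⟨gI, hgI, rfl⟩ := (Refl.mem_omegaGL T.qf g).mp hg
  exact hle hgI


end Cfsg.Lib.Classical.OrthPow
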