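import Cfsg.Agent.Classical.OrthPow.Grow
import Cfsg.Agent.Classical.OrthPow.Pairs
import Cfsg.Agent.Classical.TensorOrth.Transfer

/-!
# A non-zero central element gives all of `Ω`
-/

set_option autoImplicit false
set_option linter.unusedSectionVars false
set_option linter.unusedSimpArgs false
set_option linter.style.haveILetI false

namespace Cfsg.Lib.Classical.OrthPow

open Matrix Finset
open scoped Kronecker MatrixGroups
open Cfsg.Lib.Classical.TensorOrth (sie TForm inc ev inc_mul_ev)
open Cfsg.Lib.Classical.TensorPowLin (Rest tens tens_apply tens_mul tens_one slot slot_mul slot_one slot_smul slot_comm In)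

universe u

section skew

variable {γ : Type} [Fintype γ] [DecidableEq γ] {F : Type u} [Field F] [Fintype F] {P : Frm γ F}

namespace Frm

set_option maxHeartbeats 1000000 in
/-- An invariant group containing all multiples of one wedge contains all skew maps. -/
theorem skew_all (S : AddSubgroup (Matrix γ γ F)) (hS : ∀ h ∈ P.Grp, ∀ K ∈ S, h * K * P.adj h ∈ S)
    {e₀ f₀ v₀ : γ → F} (hp₀ : P.Pair e₀ f₀) (hv₀ : P.Perp e₀ f₀ v₀) (hvv₀ : P.B v₀ v₀ ≠ 0)
    (h₀ : ∀ s : F, s • P.wedge e₀ v₀ ∈ S) {K : Matrix γ γ F} (hK : P.adj K = -K) : K ∈ S := by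
  let W : Submodule F (Matrix γ γ F) :=
    { carrier := {K | ∀ s : F, s • K ∈ S}
      add_mem' := fun {K K'} h h' s => by rw [smul_add]; exact S.add_mem (h s) (h' s)
      zero_mem' := fun s => by rw [smul_zero]; exact S.zero_mem
      smul_mem' := fun c K h s => by rw [smul_smul]; exact h _ }
  suffices hKW : K ∈ W by simpa using hKW 1
  have hW : ∀ h ∈ P.Grp, ∀ x y, P.wedge x y ∈ W → P.wedge (h *ᵥ x) (h *ᵥ y) ∈ W := fun h hh x y hxy s => by
    rw [← conj_wedge, ← smul_mul_assoc, ← mul_smul_comm]
    exact hS h hh _ (hxy s)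
  set e := e₀
  set f := f₀
  set v := v₀
  have hp := hp₀
  have hv := hv₀
  have hvW : P.wedge e v ∈ W := h₀
  have h2 := P.two
  have dE : ∀ z, P.Perp e f z → sie P.G f z *ᵥ e = e - z - (P.B z z / 2) • f := fun z hz => sie_f hp.symm' hz.symm'
  have dF : ∀ w, P.Perp e f w → sie P.G e w *ᵥ f = f - w - (P.B w w / 2) • e := fun w hw => sie_f hp hw
  have dfix : ∀ z u, P.Perp e f z → P.Perp e f u → sie P.G f z *ᵥ u = u + P.B z u • f ∧
      sie P.G e z *ᵥ u = u + P.B z u • e := fun z u hz hu => by
    constructor <;> simp [sie_apply, hu.left, hu.right]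
  have de : ∀ w, P.Perp e f w → sie P.G e w *ᵥ e = e := fun w hw => by simp [sie_apply, hw.left', hp.ee]
  have wl : ∀ (a b c : γ → F), P.wedge (a + b) c = P.wedge a c + P.wedge b c := fun a b c => P.T.wedge_add_left a b c
  -- the opposite root elements
  have hZ : ∀ u, P.Perp e f u → P.wedge e u ∈ W → ∀ z, P.Perp e f z →
      P.B u z • P.wedge e f - P.wedge z u ∈ W ∧ (P.B z u • P.wedge z f + (P.B z z / 2) • P.wedge f u) ∈ W := by
    intro u hu huW z hz
    have h1 := hW _ (sie_mem hp.ff hz.right) _ _ huW
    have h1' := hW _ (sie_mem hp.ff (hz.smul (-1)).right) _ _ huW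
    rw [dE z hz, (dfix z u hz hu).1] at h1
    rw [dE _ (hz.smul _), (dfix _ u (hz.smul _) hu).1, B_smul_left, B_smul_left, B_smul_right] at h1'
    constructor
    · convert W.smul_mem (2 : F)⁻¹ (sub_mem h1 h1') using 1
      simp only [P.B_comm u z, sub_eq_add_neg, ← neg_smul, ← neg_one_smul F z, wedge, TForm.wedge_add_left,
        TForm.wedge_add_right, TForm.wedge_smul_left, TForm.wedge_smul_right, TForm.wedge_self, smul_smul, smul_add,
        smul_zero, add_zero]
      match_scalars <;> field_simp <;> ring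
    · convert neg_mem (W.smul_mem (2 : F)⁻¹ (sub_mem (add_mem h1 h1') (W.smul_mem (2 : F) huW))) using 1
      simp only [sub_eq_add_neg, ← neg_smul, ← neg_one_smul F z, wedge, TForm.wedge_add_left,
        TForm.wedge_add_right, TForm.wedge_smul_left, TForm.wedge_smul_right, TForm.wedge_self, smul_smul, smul_add,
        smul_zero, add_zero, ← neg_one_smul F (_ : Matrix γ γ F)]
      match_scalars <;> field_simp <;> ring
  have hew : ∀ w, P.Perp e f w → P.wedge e w ∈ W := by
    intro w hw
    have h1 := (hZ v hv hvW v hv).1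
    have h2' : ∀ u, P.Perp e f u → P.wedge e u ∈ W → P.B u u • P.wedge e f ∈ W := fun u hu huW => by
      have := (hZ u hu huW u hu).1
      rwa [show P.wedge u u = 0 from P.T.wedge_self u, sub_zero] at this
    have hef : P.wedge e f ∈ W := by
      have := W.smul_mem (P.B v v)⁻¹ (h2' v hv hvW)
      rwa [smul_smul, inv_mul_cancel₀ hvv₀, one_smul] at this
    have := sub_mem hef (hW _ (sie_mem hp.ee hw.left) _ _ hef)
    rw [de w hw, dF w hw] at this
    convert this using 1
    simp only [sub_eq_add_neg, ← neg_smul, ← neg_one_smul F w, wedge, TForm.wedge_add_right, TForm.wedge_smul_right,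
      TForm.wedge_self, smul_zero, add_zero]
    match_scalars <;> ring
  have hef : P.wedge e f ∈ W := by
    have := (hZ v hv hvW v hv).1
    rw [show P.wedge v v = 0 from P.T.wedge_self v, sub_zero] at this
    have := W.smul_mem (P.B v v)⁻¹ this
    rwa [smul_smul, inv_mul_cancel₀ hvv₀, one_smul] at this
  have hzu : ∀ z u, P.Perp e f z → P.Perp e f u → P.wedge z u ∈ W := fun z u hz hu => by
    have := sub_mem (W.smul_mem (P.B u z) hef) (hZ u hu (hew u hu) z hz).1
    rwa [sub_sub_cancel] at this
  have hfu : ∀ u, P.Perp e f u → P.wedge f u ∈ W := by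
    let Wf : Submodule F (γ → F) :=
      { carrier := {u | P.wedge f u ∈ W}
        add_mem' := fun {a b} ha hb => by
          show P.wedge f (a + b) ∈ W
          rw [wedge_add]; exact add_mem ha hb
        zero_mem' := by
          show P.wedge f 0 ∈ W
          rw [← zero_smul F f, wedge_smul, zero_smul]; exact zero_mem W
        smul_mem' := fun c a ha => by
          show P.wedge f (c • a) ∈ W
          rw [wedge_smul]; exact W.smul_mem c ha }
    intro u hu
    refine perp_span hp Wf (fun x hx hxx => ?_) hu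
    show P.wedge f x ∈ W
    have := (hZ x hx (hew x hx) x hx).2
    rw [show P.wedge x f = -P.wedge f x from P.T.wedge_comm x f, smul_neg] at this
    have h3 := W.smul_mem (-(2 / P.B x x)) this
    convert h3 using 1
    match_scalars
    field_simp
    ring
  have hall : ∀ x y, P.wedge x y ∈ W := by
    intro x y
    obtain ⟨z, hz, hx⟩ := decomp hp x
    obtain ⟨u, hu, hy⟩ := decomp hp y
    rw [hx, hy]
    simp only [wedge, TForm.wedge_add_left, TForm.wedge_add_right, TForm.wedge_smul_left, TForm.wedge_smul_right,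
      TForm.wedge_self, smul_zero, add_zero, zero_add]
    have c1 : P.T.wedge f e ∈ W := by rw [P.T.wedge_comm f e]; exact neg_mem hef
    have c2 : P.T.wedge z e ∈ W := by rw [P.T.wedge_comm z e]; exact neg_mem (hew z hz)
    have c3 : P.T.wedge z f ∈ W := by rw [P.T.wedge_comm z f]; exact neg_mem (hfu z hz)
    refine add_mem (add_mem ?_ ?_) ?_ <;>
      repeat' first
        | exact hef | exact c1 | exact c2 | exact c3 | exact hew u hu | exact hfu u hu | exact hzu z u hz hu
        | apply Submodule.smul_mem | apply add_mem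
  have key : K = (2 : F)⁻¹ • ∑ k, P.wedge (K *ᵥ Pi.single k 1) (P.G⁻¹ *ᵥ Pi.single k 1) := by
    have hsum : ∑ k, vecMulVec (K *ᵥ Pi.single k 1) (P.G *ᵥ (P.G⁻¹ *ᵥ Pi.single k (1 : F))) = K := by
      ext i j
      rw [Matrix.sum_apply, Finset.sum_eq_single j (fun k _ hk => by
        rw [vecMulVec_apply, mulVec_mulVec, Matrix.mul_nonsing_inv _ (isUnit_iff_ne_zero.mpr P.det), one_mulVec,
          Pi.single_eq_of_ne (Ne.symm hk), mul_zero]) (by simp)]
      rw [vecMulVec_apply, mulVec_mulVec, Matrix.mul_nonsing_inv _ (isUnit_iff_ne_zero.mpr P.det), one_mulVec,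
        Pi.single_eq_same, mul_one, mulVec_single_one, Matrix.col_apply]
    have hsum' : ∑ k, vecMulVec (P.G⁻¹ *ᵥ Pi.single k (1 : F)) (P.G *ᵥ (K *ᵥ Pi.single k 1)) = -K := by
      rw [← hK]
      conv_rhs => rw [← hsum]
      rw [show P.adj (∑ k, vecMulVec (K *ᵥ Pi.single k 1) (P.G *ᵥ (P.G⁻¹ *ᵥ Pi.single k (1 : F)))) =
        ∑ k, P.adj (vecMulVec (K *ᵥ Pi.single k 1) (P.G *ᵥ (P.G⁻¹ *ᵥ Pi.single k (1 : F)))) from
          map_sum (AddMonoidHom.mk' P.T.adjU P.T.adjU_add) _ _]
      exact Finset.sum_congr rfl fun k _ => (P.T.adjU_vecMulVec _ _).symm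
    simp only [wedge, TForm.wedge, Finset.sum_sub_distrib]
    rw [show P.T.G₁ = P.G from rfl, hsum, hsum', sub_neg_eq_add, ← two_smul F K, smul_smul, inv_mul_cancel₀ h2,
      one_smul]
  rw [key]
  exact W.smul_mem _ (sum_mem fun k _ => hall _ _)

end Frm

end skew

section full

variable {τ γ : Type} [Fintype τ] [DecidableEq τ] [Fintype γ] [DecidableEq γ] {F : Type u} [Field F]

/-- Coordinates with one slot first. -/
def eps (a : τ) : (τ → γ) ≃ γ × (Rest a → γ) := (TensorPowLin.slotE a).trans (Equiv.prodComm _ _)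

theorem prod_split (a : τ) (g : τ → F) : ∏ l, g l = g a * ∏ l : Rest a, g l := by
  rw [← (Equiv.optionSubtypeNe a).prod_comp, Fintype.prod_option]
  simp [Equiv.optionSubtypeNe]

/-- A pure tensor. -/
def pten {κ : Type} [Fintype κ] (g : κ → γ → F) : (κ → γ) → F := fun x => ∏ l, g l (x l)

theorem tens_mulVec {κ : Type} [Fintype κ] [DecidableEq κ] (f : κ → Matrix γ γ F) (g : κ → γ → F) :
    tens f *ᵥ pten g = pten fun l => f l *ᵥ g l := by
  funext x
  simp only [Matrix.mulVec, dotProduct, pten, tens_apply, Fintype.prod_sum, ← Finset.prod_mul_distrib]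

theorem pten_dot {κ : Type} [Fintype κ] [DecidableEq κ] (g g' : κ → γ → F) :
    pten g ⬝ᵥ pten g' = ∏ l, g l ⬝ᵥ g' l := by
  simp only [dotProduct, pten, Fintype.prod_sum, ← Finset.prod_mul_distrib]

namespace Frm

variable {P : Frm γ F}

/-- The quadratic form of the tensor power. -/
def qft (P : Frm γ F) (τ : Type) [Fintype τ] [DecidableEq τ] (x : (τ → γ) → F) : F :=
  (2 : F)⁻¹ * (x ⬝ᵥ P.Gt τ *ᵥ x)

/-- The tensor product of one slot and the rest. -/
def Tat (P : Frm γ F) (a : τ) : TForm γ (Rest a → γ) F :=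
  ⟨P.G, P.Gt (Rest a), P.symm, P.Gt_symm, P.det, P.Gt_det⟩

theorem B₂_pten (a : τ) (g g' : Rest a → γ → F) :
    (P.Tat a).B₂ (pten g) (pten g') = ∏ l, P.B (g l) (g' l) := by
  show pten g ⬝ᵥ P.Gt (Rest a) *ᵥ pten g' = _
  rw [Gt, tens_mulVec, pten_dot]
  rfl

theorem Tat_G (a : τ) (x y : τ → γ) : (P.Tat a).G (eps a x) (eps a y) = P.Gt τ x y := by
  show (P.G ⊗ₖ P.Gt (Rest a)) _ _ = _
  rw [kroneckerMap_apply, Gt, Gt, tens_apply, tens_apply, prod_split a]
  rfl

theorem Tat_qf (a : τ) (v : γ × (Rest a → γ) → F) : (P.Tat a).qf v = P.qft τ (v ∘ eps a) := by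
  rw [TForm.qf_apply, qft]
  congr 1
  simp only [dotProduct, Matrix.mulVec, Finset.mul_sum]
  refine (Fintype.sum_equiv (eps a) _ _ fun x => Fintype.sum_equiv (eps a) _ _ fun y => ?_).symm
  simp only [Function.comp_apply, Tat_G]

variable [Fintype F] {X : Subgroup (GL (τ → γ) F)}

/-- The group in coordinates with one slot first. -/
def cmap (a : τ) : GL (γ × (Rest a → γ)) F ≃* GL (τ → γ) F := Cfsg.Geo.glReindex (eps a).symm

theorem cmap_val (a : τ) (g : GL (γ × (Rest a → γ)) F) (x y : τ → γ) :
    (cmap a g : Matrix (τ → γ) (τ → γ) F) x y =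
      (g : Matrix (γ × (Rest a → γ)) (γ × (Rest a → γ)) F) (eps a x) (eps a y) := rfl

theorem cmap_act (a : τ) (g : GL (γ × (Rest a → γ)) F) (v : γ × (Rest a → γ) → F) :
    (cmap a g : Matrix (τ → γ) (τ → γ) F) *ᵥ (v ∘ eps a) =
      ((g : Matrix (γ × (Rest a → γ)) (γ × (Rest a → γ)) F) *ᵥ v) ∘ eps a := by
  show ((g : Matrix (γ × (Rest a → γ)) (γ × (Rest a → γ)) F).submatrix (eps a) (eps a)) *ᵥ (v ∘ eps a) = _
  rw [Matrix.submatrix_mulVec_equiv, Function.comp_assoc, Equiv.self_comp_symm, Function.comp_id]

theorem omega_map (a : τ) :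
    (Cfsg.Geo.omegaGL (⇑(P.Tat a).qf)).map (cmap a).toMonoidHom = Cfsg.Geo.omegaGL (P.qft τ) := by
  rw [TensorOrth.omegaGL_comm, TensorOrth.omegaGL_comm, Subgroup.map_commutator]
  have hI : (Cfsg.isometryGroup F (⇑(P.Tat a).qf)).map (cmap a).toMonoidHom = Cfsg.isometryGroup F (P.qft τ) := by
    ext g
    rw [Subgroup.mem_map_equiv, TensorOrth.mem_isometry, TensorOrth.mem_isometry]
    constructor
    · intro h y
      have h1 := h (y ∘ (eps a).symm)
      rw [Tat_qf, Tat_qf, ← cmap_act, MulEquiv.apply_symm_apply, Function.comp_assoc, Equiv.symm_comp_self,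
        Function.comp_id] at h1
      exact h1
    · intro h v
      rw [Tat_qf, Tat_qf, ← cmap_act, MulEquiv.apply_symm_apply, h]
  rw [hI]

theorem pten_seeing_span (a : τ) {g : Rest a → γ → F} {g' : Rest a → γ → F} (hg : ∀ l, P.Pair (g l) (g' l))
    (S : Submodule F ((Rest a → γ) → F)) (h : ∀ u : Rest a → γ → F, (∀ l, P.Pair (g l) (u l)) → pten u ∈ S) :
    S = ⊤ := by
  classical
  have key : ∀ I : Finset (Rest a), ∀ u : Rest a → γ → F, (∀ l ∉ I, P.Pair (g l) (u l)) → pten u ∈ S := by
    intro I
    induction I using Finset.induction_on with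
    | empty => exact fun u hu => h u fun l => hu l (Finset.notMem_empty l)
    | insert i I hi ih =>
      intro u hu
      have hlin : ∀ v, pten (Function.update u i v) =
          fun x => v (x i) * ∏ l ∈ Finset.univ.erase i, u l (x l) := fun v => funext fun x => by
        rw [pten, ← Finset.mul_prod_erase _ _ (Finset.mem_univ i), Function.update_self]
        congr 1
        exact Finset.prod_congr rfl fun j hj => by rw [Function.update_of_ne (Finset.ne_of_mem_erase hj)]
      let Z : Submodule F (γ → F) :=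
        { carrier := {v | pten (Function.update u i v) ∈ S}
          add_mem' := fun {v w} hv hw => by
            show pten (Function.update u i (v + w)) ∈ S
            convert S.add_mem hv hw using 1
            rw [hlin, hlin, hlin]
            funext x
            simp [add_mul]
          zero_mem' := by
            show pten (Function.update u i 0) ∈ S
            convert S.zero_mem using 1
            rw [hlin]
            funext x
            simp
          smul_mem' := fun c v hv => by
            show pten (Function.update u i (c • v)) ∈ S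
            convert S.smul_mem c hv using 1
            rw [hlin, hlin]
            funext x
            simp [mul_assoc] }
      have hZ := seeing_span (hg i) Z fun v hv => ih _ fun l hl => by
        by_cases hli : l = i
        · subst hli; rw [Function.update_self]; exact hv
        · rw [Function.update_of_ne hli]; exact hu l (by simp [hli, hl])
      have : u i ∈ Z := hZ ▸ Submodule.mem_top
      simpa only [Z, Submodule.mem_mk, AddSubmonoid.mem_mk, AddSubsemigroup.mem_mk, Set.mem_setOf_eq,
        Function.update_eq_self] using this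
  refine eq_top_iff.mpr fun x _ => ?_
  rw [← Finset.univ_sum_single x]
  refine sum_mem fun y _ => ?_
  have e : (Pi.single y (x y) : (Rest a → γ) → F) = x y • pten fun l => Pi.single (y l) 1 := by
    funext z
    simp only [pten, Pi.smul_apply, smul_eq_mul]
    by_cases hz : z = y
    · subst hz; simp
    · obtain ⟨l, hl⟩ := Function.ne_iff.mp hz
      rw [Pi.single_eq_of_ne hz, Finset.prod_eq_zero (Finset.mem_univ l) (Pi.single_eq_of_ne hl _), mul_zero]
  rw [e]
  exact S.smul_mem _ (key Finset.univ _ fun l hl => absurd (Finset.mem_univ l) hl)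

namespace Hyp

variable (hX : P.Hyp X)
include hX

/-- The root elements with any skew map in slot `a` at pure singular tensors. -/
theorem skew_full {c : F} {f : τ → Matrix γ γ F} {a : τ} (hm : P.Single X c f a)
    (hall : ∀ l, l ≠ a → P.EK (f l)) (g : τ → Matrix γ γ F) (hg : ∀ l, l ≠ a → P.EK (g l))
    {K : Matrix γ γ F} (hK : P.adj K = -K) : In X (tens (Function.update g a K)) := by
  classical
  haveI : Nontrivial τ := Fintype.one_lt_card_iff_nontrivial.mp hX.two_slots
  obtain ⟨i, hia⟩ := exists_ne a
  have hz : ∀ K K' : Matrix γ γ F, tens (Function.update g a K) * tens (Function.update g a K') = 0 := fun K K' => by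
    rw [tens_mul]
    refine tens_eq_zero _ i ?_
    rw [Pi.mul_apply, Function.update_of_ne hia, Function.update_of_ne hia]
    exact (hg i hia).sq
  let S : AddSubgroup (Matrix γ γ F) :=
    { carrier := {K | In X (tens (Function.update g a K))}
      zero_mem' := ⟨1, one_mem X, by
        rw [tens_eq_zero _ a (Function.update_self _ _ _), add_zero, Units.val_one]⟩
      add_mem' := fun {K K'} h h' => by
        show In X (tens (Function.update g a (K + K')))
        have := h.add h' (hz K K')
        rwa [eq_comm.mp (sub_eq_iff_eq_add.mp (show tens (Function.update g a (K + K')) -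
          tens (Function.update g a K') = tens (Function.update g a K) by
            rw [tens_update_sub, add_sub_cancel_right]))] at this
      neg_mem' := fun {K} h => by
        show In X (tens (Function.update g a (-K)))
        rw [← neg_one_smul F K, tens_update_smul', neg_one_smul]
        exact In.neg' h (hz K K) }
  obtain ⟨e, e', v, hp, hv, hvv, hfa⟩ := hm.ak
  -- move the rank one factors
  have hmove : ∀ l, ∃ h ∈ P.Grp, l ≠ a → ∃ s : F, s ≠ 0 ∧ h * f l * P.adj h = s • g l := by
    intro l
    by_cases hl : l = a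
    · exact ⟨1, one_mem _, fun h => absurd hl h⟩
    obtain ⟨x, hx0, hx, ex⟩ := hall l hl
    obtain ⟨w, hw0, hw, ew⟩ := hg l hl
    obtain ⟨h, hh, t, ht, et⟩ := exists_move hx0 hx hw0 hw
    exact ⟨h, hh, fun _ => ⟨t * t, mul_ne_zero ht ht, by rw [ex, ew, conj_E, et, P.E_smul]⟩⟩
  choose h hh hs using hmove
  choose s hs0 hsg using hs
  set s' : τ → F := fun l => if hl : l = a then 1 else s l hl with hs'
  set H := Function.update h a 1 with hH
  have hHm : ∀ l, H l ∈ P.Grp := fun l => by
    by_cases hl : l = a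
    · subst hl; rw [hH, Function.update_self]; exact one_mem _
    · rw [hH, Function.update_of_ne hl]; exact hh l
  have h1 := hX.mono_conj H hHm hm.mem
  have e1 : (fun l => H l * f l * P.adj (H l)) = fun l => s' l • Function.update g a (P.wedge e v) l := by
    funext l
    by_cases hl : l = a
    · subst hl; simp [hH, hs', hfa, Frm.adj, P.T.adjU_one]
    · simp only [hH, hs', Function.update_of_ne hl, dif_neg hl]; exact hsg l hl
  rw [e1, tens_smul, smul_smul, ← tens_update_smul'] at h1
  set s0 := c * ∏ l, s' l with hs0def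
  have hs00 : s0 ≠ 0 := mul_ne_zero hm.c0 (Finset.prod_ne_zero_iff.mpr fun l _ => by
    simp only [hs']
    split_ifs with hl
    · exact one_ne_zero
    · exact hs0 l hl)
  obtain ⟨w, hw0, hw, ew⟩ := hg i hia
  obtain ⟨w', hpw⟩ := exists_partner' hw0 hw
  let W : AddSubgroup F := S.comap (AddMonoidHom.mk' (fun r : F => r • (s0 • P.wedge e v)) fun x y => add_smul x y _)
  have hW3 : ∀ r : F, r ^ 3 ∈ W := fun r => by
    by_cases hr : r = 0
    · rw [hr, zero_pow (by norm_num)]; exact zero_mem W
    show In X (tens (Function.update g a (r ^ 3 • (s0 • P.wedge e v))))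
    -- the pair torus, adapted to the vectors of both slots
    obtain ⟨d1, hd1⟩ := exists_move hp.ne hp.ee hw0 hw
    obtain ⟨hd1m, t, ht, hd1e⟩ := hd1
    have hiso := Grp.iso hd1m
    have hinv : P.adj d1 * d1 = 1 := hiso
    set ei := P.adj d1 *ᵥ w
    have hei : d1 *ᵥ ei = w := by rw [mulVec_mulVec, hiso.mul_adj, one_mulVec]
    have hei' : ei = t⁻¹ • e := by
      show P.adj d1 *ᵥ w = _
      have : w = t⁻¹ • (d1 *ᵥ e) := by rw [hd1e, smul_smul, inv_mul_cancel₀ ht, one_smul]
      rw [this, mulVec_smul, mulVec_mulVec, hinv, one_mulVec]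
    set b := P.diagTor e e' r
    obtain ⟨be, -, bx⟩ := diagTor_spec hp hr
    -- conjugate into the frame of `e`, turn, and back
    have k1 := hX.slot_conj i (Grp.adj_mem hd1m) h1
    have ed : P.adj (P.adj d1) = d1 := P.T.adjU_adjU d1
    have ee : P.adj d1 * P.E w * d1 = P.E (t⁻¹ • e) := by
      conv_lhs => arg 2; rw [← ed]
      rw [conj_E, ← hei']
    rw [ed, slot_sandwich, Function.update_of_ne hia, ew, ee] at k1
    have k2 := hX.pair_conj hia (b := b) (diagTor_iso hp hr) (diagTor_sq hp hr) k1
    rw [show slot i b * slot a b * tens (Function.update (Function.update g a (s0 • P.wedge e v)) i (P.E (t⁻¹ • e))) *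
        (slot a (P.adj b) * slot i (P.adj b)) = slot i b * (slot a b *
          tens (Function.update (Function.update g a (s0 • P.wedge e v)) i (P.E (t⁻¹ • e))) * slot a (P.adj b)) *
            slot i (P.adj b) by simp only [mul_assoc],
      slot_sandwich, Function.update_of_ne hia.symm, Function.update_self, slot_sandwich, Function.update_of_ne hia,
      Function.update_self, Matrix.mul_smul, Matrix.smul_mul, conj_E, conj_wedge, be, bx v hv, mulVec_smul, be,
      smul_smul] at k2
    have k3 := hX.slot_conj i hd1m k2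
    have upd : ∀ (K K' x y z : Matrix γ γ F),
        Function.update (Function.update (Function.update (Function.update (Function.update g a K) i x) a K') i y) i z =
          Function.update (Function.update g a K') i z := fun K K' x y z => funext fun l => by
      by_cases hli : l = i
      · subst hli; simp
      · by_cases hla : l = a
        · subst hla
          rw [Function.update_of_ne hli, Function.update_of_ne hli, Function.update_self, Function.update_of_ne hli,
            Function.update_self]
        · simp [hli, hla]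
    rw [slot_sandwich, Function.update_self, conj_E, mulVec_smul, hd1e, smul_smul,
      show t⁻¹ * r * t = r by field_simp, upd, P.E_smul r w, ← ew,
      show P.wedge (r • e) v = r • P.wedge e v from P.T.wedge_smul_left r e v, smul_smul, tens_update_smul'] at k3
    have e3 : Function.update (Function.update g a ((s0 * r) • P.wedge e v)) i (g i) =
        Function.update g a ((s0 * r) • P.wedge e v) := funext fun l => by
      by_cases hli : l = i
      · subst hli; simp [hia]
      · simp [hli]
    rw [e3, ← tens_update_smul', smul_smul] at k3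
    rw [smul_smul, show r ^ 3 * s0 = r * r * (s0 * r) by ring]
    exact k3
  refine skew_all S (fun k hk K hK => ?_) hp hv hvv (fun r => ?_) hK
  · show In X (tens (Function.update g a (k * K * P.adj k)))
    have := hX.slot_conj a hk (M := tens (Function.update g a K)) hK
    rwa [slot_sandwich, Function.update_self, Function.update_idem] at this
  · have hr : r / s0 ∈ W := by
      rw [eq_top_of_pow P.two (by norm_num) (by norm_num) (Or.inl le_rfl) W hW3]; exact AddSubgroup.mem_top _
    have : (r / s0) • (s0 • P.wedge e v) ∈ S := hr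
    rwa [smul_smul, div_mul_cancel₀ _ hs00] at this

set_option maxHeartbeats 1000000 in
/-- A non-zero central element gives `Ω`. -/
theorem omega_le_of_cen {i : τ} {e : γ → F} (he : P.B e e = 0) (he0 : e ≠ 0) {M : Matrix (τ → γ) (τ → γ) F}
    (hM : M ∈ hX.cen i he) (hM0 : M ≠ 0) : Cfsg.Geo.omegaGL (P.qft τ) ≤ X := by
  classical
  haveI := nonempty P
  haveI : Nontrivial τ := Fintype.one_lt_card_iff_nontrivial.mp hX.two_slots
  obtain ⟨c₀, f₀, hm₀⟩ := hX.exists_mono he he0 hM hM0
  obtain ⟨c, f, a, hm, hall⟩ := hX.exists_full hm₀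
  obtain ⟨i, hia⟩ := exists_ne a
  obtain ⟨x, y, hxy⟩ := exists_pair' P
  let S : Set ((Rest a → γ) → F) := {w | ∃ u : Rest a → γ → F, (∀ l, u l ≠ 0 ∧ P.B (u l) (u l) = 0) ∧ w = pten u}
  have hcard : 3 ≤ Fintype.card (Rest a → γ) := by
    rw [Fintype.card_fun]
    haveI : Nonempty (Rest a) := ⟨⟨i, hia⟩⟩
    calc 3 ≤ Fintype.card γ := P.card
      _ = Fintype.card γ ^ 1 := (pow_one _).symm
      _ ≤ _ := Nat.pow_le_pow_right (by have := P.card; omega) Fintype.card_pos
  have hle : Cfsg.Geo.omegaGL (⇑(P.Tat a).qf) ≤ X.comap (cmap a).toMonoidHom := by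
    refine omega_le_of_pairs (P.Tat a) P.two P.card hcard (fun g hg => ?_) S ?_ ?_
      (e₀ := pten fun _ => x) (f₀ := pten fun _ => y) ⟨_, fun _ => ⟨hxy.ne, hxy.ee⟩, rfl⟩
      ⟨_, fun _ => ⟨hxy.symm'.ne, hxy.ff⟩, rfl⟩ ?_ ?_
    · have h1 : P.dag (cmap a g : Matrix (τ → γ) (τ → γ) F) * (cmap a g : Matrix (τ → γ) (τ → γ) F) = 1 :=
        hX.iso _ hg
      refine ((P.Tat a).isIso_iff_qf P.two _).mpr fun v => ?_
      rw [Tat_qf, Tat_qf, ← cmap_act, qft, qft]
      congr 1
      have h2 := (P.big τ).B₁_adjU (cmap a g : Matrix (τ → γ) (τ → γ) F)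
        ((cmap a g : Matrix (τ → γ) (τ → γ) F) *ᵥ (v ∘ eps a)) (v ∘ eps a)
      rw [mulVec_mulVec, h1, one_mulVec] at h2
      exact h2
    · rintro w ⟨u, hu, rfl⟩
      obtain ⟨l⟩ : Nonempty (Rest a) := ⟨⟨i, hia⟩⟩
      rw [B₂_pten]
      exact Finset.prod_eq_zero (Finset.mem_univ l) (hu l).2
    · rintro w ⟨u, hu, rfl⟩ K hK
      obtain ⟨g, hg, eg⟩ := hX.skew_full hm hall (fun l => if hl : l = a then 0 else P.E (u ⟨l, hl⟩))
        (fun l hl => ⟨u ⟨l, hl⟩, (hu _).1, (hu _).2, dif_neg hl⟩) (show P.adj K = -K from hK)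
      refine ⟨(cmap a).symm g, by simpa using hg, Matrix.ext fun p q => ?_⟩
      obtain ⟨p, rfl⟩ := (eps a).surjective p
      obtain ⟨q, rfl⟩ := (eps a).surjective q
      rw [← cmap_val, MulEquiv.apply_symm_apply, eg, TForm.ZM, Matrix.add_apply, Matrix.add_apply, TForm.pr,
        inc_mul_ev, kroneckerMap_apply, tens_apply, prod_split a]
      congr 1
      · simp [Matrix.one_apply]
      · rw [Function.update_self]
        congr 1
        show _ = vecMulVec (pten u) (P.Gt (Rest a) *ᵥ pten u) _ _
        rw [Gt, tens_mulVec, vecMulVec_apply, pten, pten, ← Finset.prod_mul_distrib]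
        refine Finset.prod_congr rfl fun l _ => ?_
        rw [Function.update_of_ne l.2, dif_neg l.2]
        rfl
    · rw [B₂_pten]; exact Finset.prod_eq_one fun l _ => hxy.ef
    · rintro e₁ h₁
      have key : ∀ x y, P.Pair x y → Submodule.span F
          {g | g ∈ S ∧ (P.Tat a).B₂ (pten fun _ => x) g = 1} = ⊤ := fun x y hxy =>
        pten_seeing_span a (g := fun _ => x) (g' := fun _ => y) (fun _ => hxy) _ fun u hu =>
          Submodule.subset_span ⟨⟨u, fun l => ⟨(hu l).symm'.ne, (hu l).ff⟩, rfl⟩, by
            rw [B₂_pten]; exact Finset.prod_eq_one fun l _ => (hu l).ef⟩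
      rcases h₁ with rfl | rfl
      · exact key x y hxy
      · exact key y x hxy.symm'
  rw [← omega_map a]
  exact Subgroup.map_le_iff_le_comap.mpr hle

end Hyp

end Frm

end full

end Cfsg.Lib.Classical.OrthPow
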