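import Cfsg.Agent.Classical.OrthPow.Coord
import Cfsg.Agent.Classical.TensorOrth.Comp

/-!
# Without centres the components of a radical element are scalar
-/

set_option autoImplicit false
set_option linter.unusedSectionVars false
set_option linter.unusedSimpArgs false
set_option linter.style.haveILetI false

namespace Cfsg.Lib.Classical.OrthPow

open Matrix Finset
open scoped Kronecker MatrixGroups
open Cfsg.Lib.Classical.TensorOrth (TForm inc inc_sub inc_add inc_smul kron_mul_inc sie sie_mul sie_cube sie_mul_neg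
  sie_neg_mul exists_common conj_sub_nil)
open Cfsg.Lib.Classical.TensorPowLin (Rest slot slot_mul slot_comm slot_one slot_sub slot_smul slot_injective outer)

universe u

variable {τ γ : Type} [Fintype τ] [DecidableEq τ] [Fintype γ] [DecidableEq γ] {F : Type u} [Field F]

namespace Frm

set_option maxHeartbeats 1000000

variable {P : Frm γ F}

theorem pair₂ {j : τ} {e f : γ → F} (hp : P.Pair e f) : (P.Tj j).Pair₂ e f := ⟨hp.ee, hp.ff, hp.ef⟩

theorem small₁ (P : Frm γ F) : P.T.Small₁ := fun h4 x y u hp hx hy hu =>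
  P.small h4 x y u hp.xx hp.yy hp.xy hx hy hu

theorem Levi.adj' {e f : γ → F} {ρ : F} {h : Matrix γ γ F} (hl : P.Levi e f ρ h) :
    P.Levi e f ρ⁻¹ (P.adj h) := by
  have h1 : P.adj h * h = 1 := Grp.iso hl.mem
  refine ⟨Grp.adj_mem hl.mem, ?_, ?_, inv_ne_zero hl.ne⟩
  · conv_rhs => rw [← one_mulVec e, ← h1, ← mulVec_mulVec, hl.he, mulVec_smul, smul_smul, inv_mul_cancel₀ hl.ne, one_smul]
  · conv_rhs => rw [← one_mulVec f, ← h1, ← mulVec_mulVec, hl.hf, mulVec_smul, smul_smul, inv_inv,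
      mul_inv_cancel₀ hl.ne, one_smul]

variable [Fintype F] {X : Subgroup (GL (τ → γ) F)} {j : τ}

/-- Without centres the components are self-adjoint. -/
theorem Good.self_adj (hG : P.Good X) {e f : γ → F} (hp : P.Pair e f)
    {G : Matrix ((Rest j → γ) × γ) ((Rest j → γ) × γ) F} (hg : Mem X j G) (hr : (P.Tj j).IsRad e G) {z : γ → F}
    (hz : P.B e z = 0) : (P.Tj j).adjU ((P.Tj j).comp f G z) = (P.Tj j).comp f G z := by
  set T := P.Tj j with hT
  set Y := T.comp f G z with hY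
  have hp₂ : T.Pair₂ e f := pair₂ hp
  have hi : T.IsIso G := hg.iso hG.hyp
  have hz' : T.B₂ e z = 0 := hz
  set t := (1 : Matrix (Rest j → γ) (Rest j → γ) F) ⊗ₖ sie T.G₂ e z with ht'
  have ht : Mem X j t := Mem.slot₂ hG.hyp (sie_mem hp.ee hz)
  have hti : T.IsIso t := ht.iso hG.hyp
  have hmem : Mem X j (T.ZM e (T.adjU Y - Y)) := by
    have h1 := ((hg.mul ht).mul (hg.adj hG.hyp)).mul (ht.adj hG.hyp)
    convert h1 using 1
    rw [T.conj_sie z hi (A := 1) (by rw [hr.1, Matrix.mul_one])]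
    have e1 : G * inc (Rest j → γ) z = inc (Rest j → γ) z + inc (Rest j → γ) e * Y := hr.eq hp₂ hz'
    have hst : T.star (G * inc (Rest j → γ) z) = T.pr z + T.adjU Y * T.pr e := by
      rw [e1, TForm.star, transpose_add, Matrix.mul_add, Matrix.add_mul]
      exact congrArg₂ (· + ·) (T.star_inc z) ((T.star_mul_right _ _).trans (by rw [T.star_inc]))
    have e2 : (1 : Matrix ((Rest j → γ) × γ) ((Rest j → γ) × γ) F) +
        inc (Rest j → γ) e * (1 : Matrix (Rest j → γ) (Rest j → γ) F) * T.star (G * inc (Rest j → γ) z) -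
        G * inc (Rest j → γ) z * T.adjU 1 * T.pr e -
        (T.B₂ z z / 2) • (inc (Rest j → γ) e * (1 : Matrix (Rest j → γ) (Rest j → γ) F) * T.adjU 1 * T.pr e) =
          t + inc (Rest j → γ) e * (T.adjU Y - Y) * T.pr e := by
      rw [hst, e1, T.adjU_one, ht', T.one_kron_sie]
      simp only [Matrix.mul_one, Matrix.mul_add, Matrix.add_mul, Matrix.mul_sub, Matrix.sub_mul, Matrix.mul_assoc]
      abel
    rw [e2, Matrix.add_mul]
    have hfix : t * inc (Rest j → γ) e = inc (Rest j → γ) e := by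
      rw [ht', kron_mul_inc, show sie T.G₂ e z *ᵥ e = e by
        show sie P.G e z *ᵥ e = e
        rw [sie_apply, P.B_comm z e, hz, hp.ee]; simp, Matrix.mul_one]
    rw [mul_eq_one_comm.mp hti, Matrix.mul_assoc, show T.pr e * T.adjV t = T.pr e by
      rw [← T.star_inc e, ← T.star_mul_left, hfix], TForm.ZM]
  exact sub_eq_zero.mp (hG.ZM_zero hp.ee hp.ne (by rw [T.adjU_sub, T.adjU_adjU, neg_sub]) hmem)

/-- Two radical elements commute, so their components satisfy one equation. -/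
theorem Good.rad_comm (hG : P.Good X) {e f : γ → F} (hp : P.Pair e f)
    {G G' : Matrix ((Rest j → γ) × γ) ((Rest j → γ) × γ) F} (hg : Mem X j G) (hr : (P.Tj j).IsRad e G)
    (hg' : Mem X j G') (hr' : (P.Tj j).IsRad e G') :
    ∑ k, (P.Tj j).comp f G ((P.Tj j).us e f k) * (P.Tj j).comp f G' ((P.Tj j).us' e f k) =
      ∑ k, (P.Tj j).comp f G' ((P.Tj j).us e f k) * (P.Tj j).comp f G ((P.Tj j).us' e f k) := by
  set T := P.Tj j with hT
  have hp₂ : T.Pair₂ e f := pair₂ hp
  have hi : T.IsIso G := hg.iso hG.hyp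
  have hi' : T.IsIso G' := hg'.iso hG.hyp
  have h1 := hr.mul hp₂ hr'
  have h2 := h1.1.mul hp₂ (hr.adj hp₂ hi).1
  have h3 := h2.1.mul hp₂ (hr'.adj hp₂ hi').1
  have hmem := ((hg.mul hg').mul (hg.adj hG.hyp)).mul (hg'.adj hG.hyp)
  obtain ⟨K, hK, eK⟩ := h3.1.central hp₂ (hmem.iso hG.hyp) fun w hw => by
    rw [h3.2 w hw, h2.2 w hw, h1.2 w hw, (hr.adj hp₂ hi).2 w hw, (hr'.adj hp₂ hi').2 w hw]
    abel
  rw [eK] at hmem
  rw [hG.ZM_zero hp.ee hp.ne hK hmem, T.ZM_zero] at eK
  have hcomm : G * G' = G' * G := by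
    calc G * G' = G * G' * T.adjV G * T.adjV G' * (G' * G) := by
          rw [Matrix.mul_assoc (G * G' * T.adjV G), ← Matrix.mul_assoc (T.adjV G'), show T.adjV G' * G' = 1 from hi',
            Matrix.one_mul, Matrix.mul_assoc (G * G'), show T.adjV G * G = 1 from hi, Matrix.mul_one]
      _ = G' * G := by rw [eK, Matrix.one_mul]
  have hexp : ∀ (H : Matrix ((Rest j → γ) × γ) ((Rest j → γ) × γ) F), Mem X j H → T.IsRad e H →
      H * inc (Rest j → γ) f = inc (Rest j → γ) e * (T.pr f * (H * inc (Rest j → γ) f)) + inc (Rest j → γ) f -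
        ∑ k, inc (Rest j → γ) (T.us e f k) * T.comp f H (T.us' e f k) := by
    intro H hH hrH
    have hiH : T.IsIso H := hH.iso hG.hyp
    have hA : ∀ k, T.pr (T.us' e f k) * (H * inc (Rest j → γ) f) = -T.comp f H (T.us' e f k) := by
      intro k
      have e1 := congrArg (fun M => T.star M * (H * inc (Rest j → γ) f)) (hrH.eq hp₂ (hp₂.us'_left k))
      beta_reduce at e1
      rw [T.star_mul_left, T.star_inc, Matrix.mul_assoc, ← Matrix.mul_assoc (T.adjV H),
        show T.adjV H * H = 1 from hiH, Matrix.one_mul, T.pr_mul_inc, T.B₂_comm _ f, hp₂.us'_right, zero_smul] at e1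
      have hst : T.star (inc (Rest j → γ) (T.us' e f k) + inc (Rest j → γ) e * T.comp f H (T.us' e f k)) =
          T.pr (T.us' e f k) + T.comp f H (T.us' e f k) * T.pr e := by
        rw [TForm.star, transpose_add, Matrix.mul_add, Matrix.add_mul]
        refine congrArg₂ (· + ·) (T.star_inc _) ((T.star_mul_right _ _).trans ?_)
        rw [T.star_inc, hG.self_adj hp hH hrH (hp₂.us'_left k)]
      rw [hst, Matrix.add_mul, Matrix.mul_assoc _ (T.pr e), ← Matrix.mul_assoc (T.pr e), T.pr_fix hiH hrH.1,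
        T.pr_mul_inc, hp₂.ef, one_smul, Matrix.mul_one] at e1
      exact eq_neg_of_add_eq_zero_left e1.symm
    conv_lhs => rw [← Matrix.one_mul (H * inc (Rest j → γ) f), hp₂.res]
    rw [Matrix.add_mul, Matrix.add_mul, Matrix.sum_mul, Matrix.mul_assoc, Matrix.mul_assoc (inc (Rest j → γ) f),
      ← Matrix.mul_assoc (T.pr e), T.pr_fix hiH hrH.1, T.pr_mul_inc, hp₂.ef, one_smul, Matrix.mul_one]
    simp only [Matrix.mul_assoc, hA, Matrix.mul_neg, Finset.sum_neg_distrib]
    abel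
  have hval : ∀ (H H' : Matrix ((Rest j → γ) × γ) ((Rest j → γ) × γ) F), Mem X j H → T.IsRad e H → Mem X j H' →
      T.IsRad e H' → T.pr f * (H * H' * inc (Rest j → γ) f) = T.pr f * (H' * inc (Rest j → γ) f) + T.pr f * (H * inc (Rest j → γ) f) -
        ∑ k, T.comp f H (T.us e f k) * T.comp f H' (T.us' e f k) := by
    intro H H' hH hrH hH' hrH'
    conv_lhs => rw [Matrix.mul_assoc, hexp H' hH' hrH']
    rw [Matrix.mul_sub, Matrix.mul_add, ← Matrix.mul_assoc H, hrH.1, Matrix.mul_sub, Matrix.mul_add,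
      ← Matrix.mul_assoc (T.pr f) (inc (Rest j → γ) e), T.pr_mul_inc, hp₂.fe, one_smul, Matrix.one_mul, Matrix.mul_sum,
      Matrix.mul_sum]
    refine congrArg₂ (· - ·) rfl (Finset.sum_congr rfl fun k _ => ?_)
    rw [← Matrix.mul_assoc H, hrH.eq hp₂ (hp₂.us_left k), Matrix.add_mul, Matrix.mul_add,
      ← Matrix.mul_assoc (T.pr f) (inc (Rest j → γ) (T.us e f k)), T.pr_mul_inc, hp₂.us_right, zero_smul, Matrix.zero_mul,
      zero_add, Matrix.mul_assoc, ← Matrix.mul_assoc (T.pr f), T.pr_mul_inc, hp₂.fe, one_smul, Matrix.one_mul]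
  have h := hval G G' hg hr hg' hr'
  rw [hcomm, hval G' G hg' hr' hg hr] at h
  linear_combination (norm := abel) h

/-- A Levi element twists the components. -/
theorem rad_twist (hX : P.Hyp X) {e f : γ → F} (hp : P.Pair e f) {ρ : F} {h : Matrix γ γ F} (hl : P.Levi e f ρ h)
    {G : Matrix ((Rest j → γ) × γ) ((Rest j → γ) × γ) F} (hg : Mem X j G) (hr : (P.Tj j).IsRad e G) :
    ∃ G', Mem X j G' ∧ (P.Tj j).IsRad e G' ∧
      ∀ w, P.B e w = 0 → (P.Tj j).comp f G' w = ρ • (P.Tj j).comp f G (P.adj h *ᵥ w) := by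
  set T := P.Tj j with hT
  have hp₂ : T.Pair₂ e f := pair₂ hp
  have h1 : h * P.adj h = 1 := (Grp.iso hl.mem).mul_adj
  refine ⟨_, hg.conj₂ hX hl.mem, ?_⟩
  have hperp : ∀ w, P.B e w = 0 → P.B e (P.adj h *ᵥ w) = 0 := fun w hw => by
    have := (Grp.iso hl.adj'.mem).form e w
    rw [hl.adj'.he, B_smul_left, hw] at this
    exact (mul_eq_zero.mp this).resolve_left hl.adj'.ne
  have key : ∀ w, P.B e w = 0 →
      ((1 : Matrix (Rest j → γ) (Rest j → γ) F) ⊗ₖ h) * G * ((1 : Matrix (Rest j → γ) (Rest j → γ) F) ⊗ₖ P.adj h) *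
        inc (Rest j → γ) w = inc (Rest j → γ) w + inc (Rest j → γ) e * (ρ • T.comp f G (P.adj h *ᵥ w)) := by
    intro w hw
    rw [Matrix.mul_assoc, kron_mul_inc, Matrix.mul_one, Matrix.mul_assoc, hr.eq hp₂ (hperp w hw), Matrix.mul_add,
      ← Matrix.mul_assoc, kron_mul_inc, kron_mul_inc, Matrix.mul_one, Matrix.mul_one, mulVec_mulVec, h1, one_mulVec,
      hl.he, inc_smul, Matrix.smul_mul, Matrix.mul_smul]
  refine ⟨⟨?_, fun w hw => ⟨_, key w hw⟩⟩, fun w hw => ?_⟩
  · rw [Matrix.mul_assoc, kron_mul_inc, Matrix.mul_one, hl.adj'.he, inc_smul, Matrix.mul_smul, Matrix.mul_assoc,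
      hr.1, kron_mul_inc, Matrix.mul_one, hl.he, inc_smul, smul_smul, inv_mul_cancel₀ hl.ne, one_smul]
  · rw [TForm.comp, Matrix.mul_assoc, Matrix.sub_mul, Matrix.one_mul, key w hw, add_sub_cancel_left,
      ← Matrix.mul_assoc, T.pr_mul_inc, hp₂.fe, one_smul, Matrix.one_mul]

theorem rad_comp_e {e f : γ → F} {G : Matrix ((Rest j → γ) × γ) ((Rest j → γ) × γ) F}
    (hr : (P.Tj j).IsRad e G) : (P.Tj j).comp f G e = 0 := by
  rw [TForm.comp, Matrix.mul_assoc, Matrix.sub_mul, Matrix.one_mul, hr.1, sub_self, Matrix.mul_zero]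

/-- In the full case all components commute. -/
theorem Good.comp_comm (hG : P.Good X) (hF : P.Full) {e f : γ → F} (hp : P.Pair e f)
    {G G' : Matrix ((Rest j → γ) × γ) ((Rest j → γ) × γ) F} (hg : Mem X j G) (hr : (P.Tj j).IsRad e G)
    (hg' : Mem X j G') (hr' : (P.Tj j).IsRad e G') {a b : γ → F} (ha : P.B e a = 0) (hb : P.B e b = 0) :
    Commute ((P.Tj j).comp f G a) ((P.Tj j).comp f G' b) := by
  set T := P.Tj j with hT
  have hp₂ : T.Pair₂ e f := pair₂ hp
  have hadd : ∀ (H : Matrix ((Rest j → γ) × γ) ((Rest j → γ) × γ) F) (u v : γ → F),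
      T.comp f H (u + v) = T.comp f H u + T.comp f H v := fun H u v => T.comp_add f H u v
  let Y : Matrix ((Rest j → γ) × γ) ((Rest j → γ) × γ) F →
      (γ → F) →ₗ[F] Matrix (Rest j → γ) (Rest j → γ) F := fun H =>
    { toFun := fun w => T.comp f H w, map_add' := hadd H, map_smul' := fun c w => T.comp_smul f H c w }
  let S : Submodule F (Matrix γ γ F) :=
    { carrier := {m | ∑ k, Y G (T.us e f k) * Y G' (m *ᵥ T.us' e f k) =
        ∑ k, Y G' (m *ᵥ T.us' e f k) * Y G (T.us e f k)}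
      add_mem' := fun {m n} hm hn => by
        simp only [Set.mem_ofPred_eq, add_mulVec, map_add, Matrix.mul_add, Matrix.add_mul, Finset.sum_add_distrib] at hm hn ⊢
        rw [hm, hn]
      zero_mem' := by simp
      smul_mem' := fun c m hm => by
        simp only [Set.mem_ofPred_eq, smul_mulVec, map_smul, Matrix.mul_smul, Matrix.smul_mul, ← Finset.smul_sum] at hm ⊢
        rw [hm] }
  have hsym : ∀ (y y' : (γ → F) →ₗ[F] Matrix (Rest j → γ) (Rest j → γ) F),
      ∑ k, y (T.us e f k) * y' (T.us' e f k) = ∑ k, y (T.us' e f k) * y' (T.us e f k) := by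
    intro y y'
    have hus : ∀ k, T.us' e f k = ∑ l, T.B₂ (T.us' e f l) (T.us' e f k) • T.us e f l := fun k => by
      conv_lhs => rw [hp₂.expand (T.us' e f k), hp₂.us'_left, hp₂.us'_right, zero_smul, zero_smul, zero_add, zero_add]
    conv_lhs => arg 2; ext k; rw [hus k, map_sum, Matrix.mul_sum]
    conv_rhs => arg 2; ext k; rw [hus k, map_sum, Matrix.sum_mul]
    rw [Finset.sum_comm]
    simp only [map_smul, Matrix.mul_smul, Matrix.smul_mul]
    exact Finset.sum_congr rfl fun k _ => Finset.sum_congr rfl fun l _ => by rw [T.B₂_comm]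
  have hS : ∀ ρ h, P.Levi e f ρ h → h * P.proj e f ∈ S := by
    intro ρ h hl
    obtain ⟨G'', hg'', hr'', hY⟩ := rad_twist hG.hyp hp hl.adj' hg' hr'
    have hY' : ∀ w, P.B e w = 0 → Y G'' w = ρ⁻¹ • Y G' (h *ᵥ w) := fun w hw => by
      show T.comp f G'' w = _
      rw [hY w hw, show P.adj (P.adj h) = h from P.T.adjU_adjU h]
      rfl
    have hpj : ∀ k, (h * P.proj e f) *ᵥ T.us' e f k = h *ᵥ T.us' e f k := fun k => by
      rw [← mulVec_mulVec, proj_fix ⟨hp₂.us'_left k, hp₂.us'_right k⟩]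
    have h1 : ∑ k, Y G (T.us e f k) * Y G'' (T.us' e f k) = ∑ k, Y G'' (T.us e f k) * Y G (T.us' e f k) :=
      hG.rad_comm hp hg hr hg'' hr''
    rw [hsym (Y G'') (Y G)] at h1
    simp only [fun k => hY' _ (hp₂.us'_left k), Matrix.mul_smul, Matrix.smul_mul, ← Finset.smul_sum] at h1
    show ∑ k, Y G (T.us e f k) * Y G' ((h * P.proj e f) *ᵥ T.us' e f k) = _
    simp only [hpj]
    exact smul_right_injective _ (inv_ne_zero hl.ne) h1
  have hred : ∀ (H : Matrix ((Rest j → γ) × γ) ((Rest j → γ) × γ) F), T.IsRad e H → ∀ w, P.B e w = 0 →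
      ∃ w', P.Perp e f w' ∧ T.comp f H w = T.comp f H w' := by
    intro H hH w hw
    obtain ⟨w', hw', ew⟩ := decomp hp w
    refine ⟨w', hw', ?_⟩
    rw [hw, zero_smul, add_zero] at ew
    conv_lhs => rw [ew, hadd, T.comp_smul, rad_comp_e hH, smul_zero, zero_add]
  obtain ⟨a', ha', ea⟩ := hred G hr a ha
  obtain ⟨b', hb', eb⟩ := hred G' hr' b hb
  have hm : ∑ k, Y G (T.us e f k) * Y G' (vecMulVec b' (P.G *ᵥ a') *ᵥ T.us' e f k) =
      ∑ k, Y G' (vecMulVec b' (P.G *ᵥ a') *ᵥ T.us' e f k) * Y G (T.us e f k) :=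
    full_span hF hp S hS hb' ha'
  have hv : ∀ k, vecMulVec b' (P.G *ᵥ a') *ᵥ T.us' e f k = T.B₂ a' (T.us' e f k) • b' := fun k =>
    P.T.B₁_vec b' a' _
  simp only [hv, map_smul, Matrix.mul_smul, Matrix.smul_mul, ← Matrix.smul_mul, ← Matrix.mul_smul] at hm
  rw [ea, eb]
  have hsum : ∑ k, T.B₂ a' (T.us' e f k) • T.us e f k = a' := by
    conv_rhs => rw [hp₂.expand a', show T.B₂ f a' = 0 from ha'.right, show T.B₂ e a' = 0 from ha'.left, zero_smul,
      zero_smul, zero_add, zero_add]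
    exact Finset.sum_congr rfl fun k _ => by rw [T.B₂_comm]
  have ey : Y G a' = ∑ k, T.B₂ a' (T.us' e f k) • Y G (T.us e f k) := by
    conv_lhs => rw [← hsum, map_sum]
    simp only [map_smul]
  show Y G a' * Y G' b' = Y G' b' * Y G a'
  simp only [ey, Matrix.sum_mul, Matrix.mul_sum, Matrix.smul_mul, Matrix.mul_smul] at hm ⊢
  exact hm

/-- A self-adjoint map fixed modulo scalars by the root group of a singular vector is fixed. -/
theorem self_fixed {x y : γ → F} (hp : P.Pair x y) {C : Matrix γ γ F} (hC : P.adj C = C)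
    (hfix : ∀ z, P.B x z = 0 → ∃ c : F, sie P.G x z * C * sie P.G x (-z) - C = c • 1) :
    (∃ a b : F, C = a • 1 + b • P.E x) ∧ ∀ z, P.B x z = 0 → sie P.G x z * C * sie P.G x (-z) = C := by
  have hq : Fintype.card γ = 3 → Fintype.card F ≠ 3 := fun h => by rw [← Nat.card_eq_fintype_card]; exact P.ex h
  have h : C = P.B x (C *ᵥ y) • (1 : Matrix γ γ F) + P.B y (C *ᵥ y) • P.E x :=
    P.T.fixed_form P.two P.card (small₁ P) hq ⟨hp.ee, hp.ff, hp.ef⟩ hC hfix
  refine ⟨⟨_, _, h⟩, fun z hz => ?_⟩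
  have hE : sie P.G x z * P.E x * sie P.G x (-z) = P.E x := by
    rw [← adj_sie hp.ee hz, conj_E, sie_apply, P.B_comm z x, hz, hp.ee]
    simp
  rw [h, Matrix.mul_add, Matrix.add_mul, Matrix.mul_smul, Matrix.mul_smul, Matrix.smul_mul, Matrix.smul_mul, hE,
    Matrix.mul_one, sie_mul_neg P.symm P.two hp.ee hz]

/-- A rest slot element conjugates radical elements. -/
theorem rad_conj (hX : P.Hyp X) {e f : γ → F} (hp : P.Pair e f) (l : Rest j) {a : Matrix γ γ F} (ha : a ∈ P.Grp)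
    {G : Matrix ((Rest j → γ) × γ) ((Rest j → γ) × γ) F} (hg : Mem X j G) (hr : (P.Tj j).IsRad e G) :
    ∃ G', Mem X j G' ∧ (P.Tj j).IsRad e G' ∧
      ∀ w, P.B e w = 0 → (P.Tj j).comp f G' w = slot l a * (P.Tj j).comp f G w * slot l (P.adj a) := by
  set T := P.Tj j with hT
  have hp₂ : T.Pair₂ e f := pair₂ hp
  refine ⟨_, hg.conj₁ hX l ha, ?_⟩
  have h1 : slot l a * slot l (P.adj a) = (1 : Matrix (Rest j → γ) (Rest j → γ) F) := by
    rw [← slot_mul, (Grp.iso ha).mul_adj, slot_one]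
  have hk : ∀ (b : Matrix γ γ F) (w : γ → F), (slot l b ⊗ₖ (1 : Matrix γ γ F)) * inc (Rest j → γ) w = inc (Rest j → γ) w * slot l b :=
    fun b w => by rw [kron_mul_inc, one_mulVec]
  have key : ∀ w, P.B e w = 0 → (slot l a ⊗ₖ (1 : Matrix γ γ F)) * G * (slot l (P.adj a) ⊗ₖ (1 : Matrix γ γ F)) *
      inc (Rest j → γ) w = inc (Rest j → γ) w + inc (Rest j → γ) e * (slot l a * T.comp f G w * slot l (P.adj a)) := by
    intro w hw
    rw [Matrix.mul_assoc, hk, Matrix.mul_assoc, ← Matrix.mul_assoc G, hr.eq hp₂ hw, Matrix.add_mul, Matrix.mul_add,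
      ← Matrix.mul_assoc _ (inc (Rest j → γ) w), hk, Matrix.mul_assoc (inc (Rest j → γ) w), h1, Matrix.mul_one, ← Matrix.mul_assoc,
      ← Matrix.mul_assoc, hk]
    simp only [Matrix.mul_assoc]
  refine ⟨⟨?_, fun w hw => ⟨_, key w hw⟩⟩, fun w hw => ?_⟩
  · rw [key e hp.ee, rad_comp_e hr, Matrix.mul_zero, Matrix.zero_mul, Matrix.mul_zero, add_zero]
  · rw [TForm.comp, Matrix.mul_assoc, Matrix.sub_mul, Matrix.one_mul, key w hw, add_sub_cancel_left,
      ← Matrix.mul_assoc, T.pr_mul_inc, hp₂.fe, one_smul, Matrix.one_mul]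

/-- A radical element with fixed components modulo scalars has components commuting with the root groups. -/
theorem Good.fixed_comm (hG : P.Good X) {e f : γ → F} (hp : P.Pair e f) {x y : γ → F} (hxy : P.Pair x y)
    {G : Matrix ((Rest j → γ) × γ) ((Rest j → γ) × γ) F} (hg : Mem X j G) (hr : (P.Tj j).IsRad e G) {w : γ → F}
    (hw : P.B e w = 0)
    (hfix : ∀ (l : Rest j) z, P.B x z = 0 → ∃ c : F, slot l (sie P.G x z) * (P.Tj j).comp f G w *
      slot l (sie P.G x (-z)) - (P.Tj j).comp f G w = c • 1)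
    (l : Rest j) (z : γ → F) (hz : P.B x z = 0) :
    Commute (slot l (sie P.G x z)) ((P.Tj j).comp f G w) := by
  haveI : Nonempty γ := P.nonempty
  set Φ := (P.Tj j).comp f G w with hΦ
  obtain ⟨c, hc⟩ := hfix l z hz
  have hqq : slot l (sie P.G x (-z)) * slot l (sie P.G x z) = (1 : Matrix (Rest j → γ) (Rest j → γ) F) := by
    rw [← slot_mul, sie_neg_mul P.symm P.two hxy.ee hz, slot_one]
  suffices hc0 : c = 0 by
    rw [hc0, zero_smul, sub_eq_zero] at hc
    show slot l (sie P.G x z) * Φ = Φ * slot l (sie P.G x z)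
    conv_rhs => rw [← hc, Matrix.mul_assoc, hqq, Matrix.mul_one]
  obtain ⟨o⟩ := ‹Nonempty γ›
  set a : Rest l → γ := fun _ => o
  set C := comp l a a Φ + P.adj (comp l a a Φ) with hC'
  have hCs : P.adj C = C := by rw [hC', adj, P.T.adjU_add, P.T.adjU_adjU, add_comm]
  have hone : comp l a a (1 : Matrix (Rest j → γ) (Rest j → γ) F) = 1 := by
    have := comp_outer (F := F) (l := l) a a (1 : Matrix (Rest l → γ) (Rest l → γ) F)
    rwa [outer, one_kronecker_one, map_one, Matrix.one_apply_eq, one_smul] at this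
  have hstep : ∀ z', P.B x z' = 0 → ∀ c' : F, slot l (sie P.G x z') * Φ * slot l (sie P.G x (-z')) - Φ = c' • 1 →
      sie P.G x z' * C * sie P.G x (-z') - C = (2 * c') • 1 := by
    intro z' hz' c' hc'
    have h1 := congrArg (comp l a a) hc'
    rw [map_sub, comp_mul_slot, comp_slot_mul, map_smul, hone] at h1
    have h2 := congrArg P.adj h1
    simp only [adj, TForm.adjU_sub, TForm.adjU_smul, TForm.adjU_one, TForm.adjU_mul] at h2
    rw [show P.T.adjU (sie P.G x z') = _ from adj_sie hxy.ee hz',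
      show P.T.adjU (sie P.G x (-z')) = _ from adj_sie hxy.ee (show P.B x (-z') = 0 by rw [B_neg_right, hz', neg_zero]),
      neg_neg, ← Matrix.mul_assoc] at h2
    rw [hC', Matrix.mul_add, Matrix.add_mul, two_mul, add_smul]
    linear_combination (norm := abel) h1 + h2
  obtain ⟨-, hcomm⟩ := self_fixed hxy hCs fun z' hz' => by
    obtain ⟨c', hc'⟩ := hfix l z' hz'
    exact ⟨_, hstep z' hz' c' hc'⟩
  have h3 := hstep z hz c hc
  rw [hcomm z hz, sub_self] at h3
  exact (mul_eq_zero.mp ((smul_eq_zero.mp h3.symm).resolve_right one_ne_zero)).resolve_left P.two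

end Frm

end Cfsg.Lib.Classical.OrthPow
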