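import Cfsg.Agent.Classical.OrthPow.Irr
import Cfsg.Agent.Classical.TensorOrth.Frame

/-!
# The group in coordinates adapted to one slot
-/

set_option autoImplicit false
set_option linter.unusedSectionVars false
set_option linter.unusedSimpArgs false
set_option linter.style.haveILetI false

namespace Cfsg.Lib.Classical.OrthPow

open Matrix Finset
open scoped Kronecker MatrixGroups
open Cfsg.Lib.Classical.TensorOrth (TForm inc inc_mul_ev sie)
open Cfsg.Lib.Classical.TensorPowLin (Rest toBig toBig_apply tens tens_apply slot slot_eq outer outer_mul_slot In)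

universe u

variable {τ γ : Type} [Fintype τ] [DecidableEq τ] [Fintype γ] [DecidableEq γ] {F : Type u} [Field F]

theorem toBig_tens (j : τ) (f : τ → Matrix γ γ F) :
    toBig j ((tens fun l : Rest j => f l) ⊗ₖ f j) = tens f := by
  ext x y
  rw [toBig_apply, kroneckerMap_apply, tens_apply, tens_apply, prod_split j, mul_comm]

theorem toBig_transpose (j : τ) (M : Matrix ((Rest j → γ) × γ) ((Rest j → γ) × γ) F) :
    toBig j Mᵀ = (toBig j M)ᵀ := by
  ext x y
  rw [Matrix.transpose_apply, toBig_apply, toBig_apply, Matrix.transpose_apply]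

theorem slot_rest (j : τ) (l : Rest j) (a : Matrix γ γ F) :
    toBig j (slot l a ⊗ₖ (1 : Matrix γ γ F)) = slot l.1 a := by
  rw [slot, slot, ← toBig_tens j]
  congr 2
  · congr 1
    funext m
    by_cases hm : m = l
    · subst hm; simp
    · have : m.1 ≠ l.1 := fun h => hm (Subtype.ext h)
      simp [hm, this]
  · simp [l.2.symm]

namespace Frm

/-- The tensor product of the rest and one slot. -/
def Tj (P : Frm γ F) (j : τ) : TForm (Rest j → γ) γ F :=
  ⟨P.Gt (Rest j), P.G, P.Gt_symm, P.symm, P.Gt_det, P.det⟩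

variable (P : Frm γ F)

theorem toBig_G (j : τ) : toBig j (P.Tj j).G = P.Gt τ := toBig_tens j fun _ => P.G

theorem toBig_adjV (j : τ) (M : Matrix ((Rest j → γ) × γ) ((Rest j → γ) × γ) F) :
    toBig j ((P.Tj j).adjV M) = P.dag (toBig j M) := by
  have hinv : toBig j (P.Tj j).G⁻¹ = (P.Gt τ)⁻¹ := by
    refine (Matrix.inv_eq_left_inv ?_).symm
    rw [← P.toBig_G j, ← map_mul, (P.Tj j).inv_mul, map_one]
  show toBig j ((P.Tj j).G⁻¹ * Mᵀ * (P.Tj j).G) = (P.Gt τ)⁻¹ * (toBig j M)ᵀ * P.Gt τ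
  rw [map_mul, map_mul, hinv, toBig_G, toBig_transpose]

theorem Tj_adj_one (j : τ) (K : Matrix (Rest j → γ) (Rest j → γ) F) :
    (P.Tj j).adjV (K ⊗ₖ (1 : Matrix γ γ F)) = (P.Tj j).adjU K ⊗ₖ (1 : Matrix γ γ F) := by
  rw [TensorOrth.TForm.adjV_kron, transpose_one, Matrix.mul_one, (P.Tj j).inv_mul₂]

/-- Membership in coordinates adapted to a slot. -/
def Mem (X : Subgroup (GL (τ → γ) F)) (j : τ) (g : Matrix ((Rest j → γ) × γ) ((Rest j → γ) × γ) F) : Prop :=
  ∃ k ∈ X, (k : Matrix (τ → γ) (τ → γ) F) = toBig j g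

/-- The group has no central elements at singular vectors. -/
structure Good (X : Subgroup (GL (τ → γ) F)) : Prop where
  hyp : P.Hyp X
  zero : ∀ (i : τ) (e : γ → F), P.B e e = 0 → e ≠ 0 → ∀ M : Matrix (τ → γ) (τ → γ) F, CM i M → P.dag M = -M →
    In X (M * slot i (P.E e)) → M = 0

variable {P} {X : Subgroup (GL (τ → γ) F)} {j : τ}

namespace Mem

theorem one : Mem X j (1 : Matrix ((Rest j → γ) × γ) ((Rest j → γ) × γ) F) :=
  ⟨1, one_mem X, by rw [map_one, Units.val_one]⟩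

theorem mul {g g' : Matrix ((Rest j → γ) × γ) ((Rest j → γ) × γ) F} (h : Mem X j g) (h' : Mem X j g') :
    Mem X j (g * g') := by
  obtain ⟨k, hk, e⟩ := h
  obtain ⟨k', hk', e'⟩ := h'
  exact ⟨k * k', mul_mem hk hk', by rw [Units.val_mul, e, e', map_mul]⟩

variable (hX : P.Hyp X)
include hX

theorem iso {g : Matrix ((Rest j → γ) × γ) ((Rest j → γ) × γ) F} (h : Mem X j g) : (P.Tj j).IsIso g := by
  obtain ⟨k, hk, e⟩ := h
  refine (toBig (F := F) (γ := γ) j).injective ?_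
  rw [map_mul, P.toBig_adjV, map_one, ← e]
  exact hX.iso k hk

theorem adj {g : Matrix ((Rest j → γ) × γ) ((Rest j → γ) × γ) F} (h : Mem X j g) : Mem X j ((P.Tj j).adjV g) := by
  obtain ⟨k, hk, e⟩ := h
  exact ⟨k⁻¹, inv_mem hk, by rw [hX.inv_eq hk, e, P.toBig_adjV]⟩

theorem slot₂ {h : Matrix γ γ F} (hh : h ∈ P.Grp) :
    Mem X j ((1 : Matrix (Rest j → γ) (Rest j → γ) F) ⊗ₖ h) := by
  obtain ⟨k, hk, e⟩ := hX.slotMem j h hh
  exact ⟨k, hk, by rw [e, slot_eq]⟩

theorem slot₁ (l : Rest j) {h : Matrix γ γ F} (hh : h ∈ P.Grp) :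
    Mem X j (slot l h ⊗ₖ (1 : Matrix γ γ F)) := by
  obtain ⟨k, hk, e⟩ := hX.slotMem l.1 h hh
  exact ⟨k, hk, by rw [e, slot_rest]⟩

/-- A slot element conjugates. -/
theorem conj₁ (l : Rest j) {h : Matrix γ γ F} (hh : h ∈ P.Grp)
    {g : Matrix ((Rest j → γ) × γ) ((Rest j → γ) × γ) F} (hg : Mem X j g) :
    Mem X j ((slot l h ⊗ₖ (1 : Matrix γ γ F)) * g * (slot l (P.adj h) ⊗ₖ (1 : Matrix γ γ F))) :=
  ((slot₁ hX l hh).mul hg).mul (slot₁ hX l (Grp.adj_mem hh))

theorem conj₂ {h : Matrix γ γ F} (hh : h ∈ P.Grp)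
    {g : Matrix ((Rest j → γ) × γ) ((Rest j → γ) × γ) F} (hg : Mem X j g) :
    Mem X j (((1 : Matrix (Rest j → γ) (Rest j → γ) F) ⊗ₖ h) * g *
      ((1 : Matrix (Rest j → γ) (Rest j → γ) F) ⊗ₖ P.adj h)) :=
  ((slot₂ hX hh).mul hg).mul (slot₂ hX (Grp.adj_mem hh))

end Mem

theorem adjU_slot (l : Rest j) (a : Matrix γ γ F) :
    (P.Tj j).adjU (slot l a : Matrix (Rest j → γ) (Rest j → γ) F) = slot l (P.adj a) := P.dag_slot l a

/-- Without centres a skew central element is trivial. -/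
theorem Good.ZM_zero (hG : P.Good X) {e : γ → F} (he : P.B e e = 0) (he0 : e ≠ 0)
    {K : Matrix (Rest j → γ) (Rest j → γ) F} (hK : (P.Tj j).adjU K = -K) (hm : Mem X j ((P.Tj j).ZM e K)) :
    K = 0 := by
  obtain ⟨k, hk, ek⟩ := hm
  have h0 : outer j K = 0 := by
    refine hG.zero j e he he0 (outer j K) (fun A => (TensorPowLin.outer_comm j K A).symm) ?_ ⟨k, hk, ?_⟩
    · rw [outer, ← P.toBig_adjV, P.Tj_adj_one, hK, ← map_neg]
      congr 1
      ext ⟨a, b⟩ ⟨c, d⟩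
      simp
    · rw [ek, TensorOrth.TForm.ZM, TensorOrth.TForm.pr, inc_mul_ev, map_add, map_one, outer_mul_slot]
      rfl
  haveI : Nonempty γ := P.nonempty
  obtain ⟨o⟩ := ‹Nonempty γ›
  ext x y
  have h1 := (toBig (F := F) (γ := γ) j).injective (h0.trans (map_zero _).symm)
  simpa using congrFun (congrFun h1 (x, o)) (y, o)

end Frm

end Cfsg.Lib.Classical.OrthPow
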