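import Cfsg.Agent.Classical.OrthPow.Stab

/-!
# Elements moving a root of one slot to a root of another
-/

set_option autoImplicit false
set_option linter.unusedSectionVars false
set_option linter.unusedSimpArgs false
set_option linter.style.haveILetI false

namespace Cfsg.Lib.Classical.OrthPow

open Matrix Finset
open scoped Kronecker MatrixGroups
open Cfsg.Lib.Classical.TensorOrth (TForm inc inc_smul inc_mul_ev kron_mul_inc)
open Cfsg.Lib.Classical.TensorMax (isKron_of_mat)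
open Cfsg.Lib.Classical.TensorPowLin (Rest toBig slot slot_eq slot_mul slot_one slot_smul coord coord_val In conjM
  conjM_apply conjM_conjM Eqj normal_of_kron perm perm_slot perm_mul perm_one permGL permGL_val)

universe u

variable {τ γ : Type} [Fintype τ] [DecidableEq τ] [Fintype γ] [DecidableEq γ] {F : Type u} [Field F]

namespace Frm

variable {P : Frm γ F}

/-- The group conjugated by a permutation of the slots is of the same kind. -/
theorem Good.perm_conj {X : Subgroup (GL (τ → γ) F)} (hG : P.Good X) (π : Equiv.Perm τ) :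
    P.Good (X.map (MulAut.conj (permGL π)).toMonoidHom) := by
  have hmap : ∀ g : GL (τ → γ) F, g ∈ X → ∀ k : GL (τ → γ) F,
      (k : Matrix (τ → γ) (τ → γ) F) = perm π * (g : Matrix (τ → γ) (τ → γ) F) * perm π⁻¹ →
      k ∈ X.map (MulAut.conj (permGL π)).toMonoidHom := fun g hg k hk => ⟨g, hg, Units.ext (by
    rw [hk]; simp [MulAut.conj_apply, permGL])⟩
  have hget : ∀ k ∈ X.map (MulAut.conj (permGL π)).toMonoidHom, ∃ g ∈ X,
      (k : Matrix (τ → γ) (τ → γ) F) = perm π * (g : Matrix (τ → γ) (τ → γ) F) * perm π⁻¹ := by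
    rintro k ⟨g, hg, rfl⟩
    exact ⟨g, hg, by simp [MulAut.conj_apply, permGL]⟩
  have hdag : ∀ g : Matrix (τ → γ) (τ → γ) F,
      P.dag (perm π * g * perm π⁻¹) = perm π * P.dag g * perm π⁻¹ := fun g => by
    rw [P.dag_mul, P.dag_mul, P.dag_perm, P.dag_perm, inv_inv, mul_assoc]
  have hππ : (perm π⁻¹ * perm π : Matrix (τ → γ) (τ → γ) F) = 1 := by rw [perm_mul, inv_mul_cancel, perm_one]
  have hππ' : (perm π * perm π⁻¹ : Matrix (τ → γ) (τ → γ) F) = 1 := by rw [perm_mul, mul_inv_cancel, perm_one]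
  have hslot : ∀ (i : τ) (A : Matrix γ γ F), perm π * slot i A * perm π⁻¹ = slot (π i) A := fun i A => by
    rw [perm_slot, mul_assoc, hππ', mul_one]
  refine ⟨⟨fun k hk => ?_, fun i h hh => ?_, fun a b c hab hbc hac => ?_, fun i l hil b hb hbb => ?_, hG.hyp.full,
    hG.hyp.two_slots⟩, fun i e he he0 M hM hMs hMX => ?_⟩
  · obtain ⟨g, hg, e⟩ := hget k hk
    rw [e, hdag]
    calc _ = perm π * (P.dag (g : Matrix (τ → γ) (τ → γ) F) * (perm π⁻¹ * perm π) *
          (g : Matrix (τ → γ) (τ → γ) F)) * perm π⁻¹ := by simp only [mul_assoc]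
      _ = 1 := by rw [hππ, mul_one, hG.hyp.iso g hg, mul_one, hππ']
  · obtain ⟨g, hg, e⟩ := hG.hyp.slotMem (π⁻¹ i) h hh
    exact ⟨_, hmap g hg (permGL π * g * (permGL π)⁻¹) (by simp [permGL]), by
      simp [permGL, e, hslot]⟩
  · obtain ⟨g, hg, e⟩ := hG.hyp.cyc (π⁻¹ a) (π⁻¹ b) (π⁻¹ c) (by simpa using hab) (by simpa using hbc)
      (by simpa using hac)
    refine ⟨_, hmap g hg (permGL π * g * (permGL π)⁻¹) (by simp [permGL]), ?_⟩
    have hs : ∀ x y, π * Equiv.swap (π⁻¹ x) (π⁻¹ y) * π⁻¹ = Equiv.swap x y := fun x y => by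
      rw [← Equiv.swap_apply_apply]
      simp
    rw [Units.val_mul, Units.val_mul, permGL_val, e, show (((permGL π)⁻¹ : GL (τ → γ) F) : Matrix (τ → γ) (τ → γ) F) =
      perm π⁻¹ from rfl, perm_mul, perm_mul]
    congr 1
    rw [← hs a b, ← hs b c]
    group
  · obtain ⟨g, hg, e⟩ := hG.hyp.pair (π⁻¹ i) (π⁻¹ l) (by simpa using hil) b hb hbb
    refine ⟨_, hmap g hg (permGL π * g * (permGL π)⁻¹) (by simp [permGL]), ?_⟩
    rw [Units.val_mul, Units.val_mul, permGL_val, e, show (((permGL π)⁻¹ : GL (τ → γ) F) : Matrix (τ → γ) (τ → γ) F) =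
      perm π⁻¹ from rfl]
    calc _ = (perm π * slot (π⁻¹ i) b * perm π⁻¹) * (perm π * slot (π⁻¹ l) b * perm π⁻¹) := by
          simp only [mul_assoc]; rw [← mul_assoc (perm π⁻¹) (perm π), hππ, one_mul]
      _ = _ := by rw [hslot, hslot]; simp
  · obtain ⟨k, hk, ek⟩ := hMX
    obtain ⟨g, hg, eg⟩ := hget k hk
    have hg' : (g : Matrix (τ → γ) (τ → γ) F) = perm π⁻¹ * (k : Matrix (τ → γ) (τ → γ) F) * perm π := by
      rw [eg]
      calc (g : Matrix (τ → γ) (τ → γ) F) =
            (perm π⁻¹ * perm π) * (g : Matrix (τ → γ) (τ → γ) F) * (perm π⁻¹ * perm π) := by rw [hππ, one_mul, mul_one]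
        _ = _ := by simp only [mul_assoc]
    have h0 := hG.zero (π⁻¹ i) e he he0 (perm π⁻¹ * M * perm π) (fun A => ?_) ?_ ⟨g, hg, ?_⟩
    · calc M = (perm π * perm π⁻¹) * M * (perm π * perm π⁻¹) := by rw [hππ', one_mul, mul_one]
        _ = perm π * (perm π⁻¹ * M * perm π) * perm π⁻¹ := by simp only [mul_assoc]
        _ = 0 := by rw [h0, mul_zero, zero_mul]
    · show slot (π⁻¹ i) A * _ = _ * slot (π⁻¹ i) A
      have h1 : perm π * slot (π⁻¹ i) A = slot i A * perm π := by rw [perm_slot]; simp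
      have h2 : slot (π⁻¹ i) A * perm π⁻¹ = perm π⁻¹ * slot i A := by rw [perm_slot]
      rw [← mul_assoc, ← mul_assoc, h2, mul_assoc (perm π⁻¹) (slot i A), (hM A).eq, mul_assoc _ (perm π), h1]
      simp only [mul_assoc]
    · rw [P.dag_mul, P.dag_mul, P.dag_perm, P.dag_perm, inv_inv, hMs]
      simp only [neg_mul, mul_neg, mul_assoc]
    · rw [hg', ek, mul_add, mul_one, add_mul, hππ]
      congr 1
      have h1 : slot i (P.E e) * perm π = perm π * slot (π⁻¹ i) (P.E e) := by rw [perm_slot]; simp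
      rw [mul_assoc, mul_assoc, h1]
      simp only [mul_assoc]

variable [Fintype F]

/-- An element stabilising a root of a slot up to a scalar normalises the slot. -/
theorem Good.normal_of_E {X₁ X₂ : Subgroup (GL (τ → γ) F)} (h₁ : P.Good X₁) (h₂ : P.Good X₂) {y : GL (τ → γ) F}
    (hi : P.dag (y : Matrix (τ → γ) (τ → γ) F) * (y : Matrix (τ → γ) (τ → γ) F) = 1)
    (h12 : ∀ g ∈ X₁, y * g * y⁻¹ ∈ X₂) (h21 : ∀ g ∈ X₂, y⁻¹ * g * y ∈ X₁) {j : τ} {e : γ → F} (he0 : e ≠ 0)
    (he : P.B e e = 0) {c : F} (h : conjM y (slot j (P.E e)) = c • slot j (P.E e)) : Eqj y j j := by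
  haveI : Nonempty γ := P.nonempty
  set T := P.Tj j with hT
  set H : Matrix ((Rest j → γ) × γ) ((Rest j → γ) × γ) F :=
    ((coord j y : GL ((Rest j → γ) × γ) F) : Matrix ((Rest j → γ) × γ) ((Rest j → γ) × γ) F) with hH
  have hy : toBig j H = (y : Matrix (τ → γ) (τ → γ) F) := coord_val j y
  have hy' : toBig j (T.adjV H) = ((y⁻¹ : GL (τ → γ) F) : Matrix (τ → γ) (τ → γ) F) := by
    rw [P.toBig_adjV, hy, Units.inv_eq_of_mul_eq_one_left hi]
  have hHi : T.IsIso H := (toBig (F := F) (γ := γ) j).injective (by rw [map_mul, hy', hy, Units.inv_mul, map_one])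
  have t12 : ∀ g, Mem X₁ j g → Mem X₂ j (H * g * T.adjV H) := by
    rintro g ⟨k, hk, ek⟩
    exact ⟨_, h12 k hk, by rw [map_mul, map_mul, hy, hy', ← ek]; rfl⟩
  have t21 : ∀ g, Mem X₂ j g → Mem X₁ j (T.adjV H * g * H) := by
    rintro g ⟨k, hk, ek⟩
    exact ⟨_, h21 k hk, by rw [map_mul, map_mul, hy, hy', ← ek]; rfl⟩
  obtain ⟨f, hp⟩ := exists_partner' he0 he
  have hE : (1 : Matrix (Rest j → γ) (Rest j → γ) F) ⊗ₖ P.E e = inc (Rest j → γ) e * T.pr e := by
    conv_rhs => rw [← Matrix.mul_one (inc (Rest j → γ) e), TForm.pr, inc_mul_ev]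
    rfl
  have hrel : H * ((1 : Matrix (Rest j → γ) (Rest j → γ) F) ⊗ₖ P.E e) =
      c • (((1 : Matrix (Rest j → γ) (Rest j → γ) F) ⊗ₖ P.E e) * H) := by
    refine (toBig (F := F) (γ := γ) j).injective ?_
    rw [map_mul, map_smul, map_mul, ← slot_eq, hy]
    rw [conjM_apply] at h
    have h1 := congrArg (· * (y : Matrix (τ → γ) (τ → γ) F)) h
    beta_reduce at h1
    rwa [mul_assoc, Units.inv_mul, mul_one, smul_mul_assoc] at h1
  have hA : H * inc (Rest j → γ) e = inc (Rest j → γ) e * (c • (T.pr e * (H * inc (Rest j → γ) f))) := by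
    have h1 : ((1 : Matrix (Rest j → γ) (Rest j → γ) F) ⊗ₖ P.E e) * inc (Rest j → γ) f = inc (Rest j → γ) e := by
      rw [kron_mul_inc, Matrix.mul_one, E_mulVec, hp.ef, one_smul]
    calc H * inc (Rest j → γ) e = H * ((1 : Matrix (Rest j → γ) (Rest j → γ) F) ⊗ₖ P.E e) * inc (Rest j → γ) f := by
          rw [Matrix.mul_assoc, h1]
      _ = _ := by rw [hrel, Matrix.smul_mul, hE, Matrix.mul_smul]; simp only [Matrix.mul_assoc]
  obtain ⟨A, b, hAb⟩ := Good.stab h₁ h₂ hHi t12 t21 he0 he hA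
  exact normal_of_kron (isKron_of_mat _ _ _ hAb)

/-- An element of the group moving a root of one slot onto a root of another moves the slot. -/
theorem Good.cross {X : Subgroup (GL (τ → γ) F)} (hG : P.Good X) {g : GL (τ → γ) F} (hg : g ∈ X) {i j : τ}
    {e e' : γ → F} (he0 : e ≠ 0) (he : P.B e e = 0) (he0' : e' ≠ 0) (he' : P.B e' e' = 0) {c : F}
    (h : conjM g (slot i (P.E e')) = c • slot j (P.E e)) : Eqj g i j := by
  haveI : Nonempty γ := P.nonempty
  obtain ⟨a, ha, t, ht, hae⟩ := exists_move he0 he he0' he'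
  obtain ⟨sa, hsa, esa⟩ := hG.hyp.slotMem i a ha
  set π := Equiv.swap i j with hπ
  set q : GL (τ → γ) F := permGL π
  set y := q * g * sa with hy
  have hsa' : Eqj sa i i := fun A => ⟨a * A * P.adj a, by
    rw [conjM_apply, hG.hyp.inv_eq hsa, esa, P.dag_slot, slot_mul, slot_mul]⟩
  have hq : ∀ l A, conjM q (slot l A) = slot (π l) A := fun l A => by
    rw [conjM_apply, show (q : Matrix (τ → γ) (τ → γ) F) = perm π from rfl, perm_slot, mul_assoc,
      show ((q⁻¹ : GL (τ → γ) F) : Matrix (τ → γ) (τ → γ) F) = perm π⁻¹ from rfl, perm_mul, mul_inv_cancel, perm_one,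
      mul_one]
  have hy' : conjM y (slot i (P.E e)) = (t * t * c) • slot i (P.E e) := by
    rw [hy, ← conjM_conjM, ← conjM_conjM, conjM_apply sa, hG.hyp.inv_eq hsa, esa, P.dag_slot, ← slot_mul, ← slot_mul,
      conj_E, hae, E_smul, slot_smul, map_smul, map_smul, h, map_smul, hq, hπ, Equiv.swap_apply_right, smul_smul]
  have hi : P.dag (y : Matrix (τ → γ) (τ → γ) F) * (y : Matrix (τ → γ) (τ → γ) F) = 1 := by
    rw [hy, Units.val_mul, Units.val_mul, P.dag_mul, P.dag_mul,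
      show (q : Matrix (τ → γ) (τ → γ) F) = perm π from rfl, P.dag_perm]
    calc _ = P.dag (sa : Matrix (τ → γ) (τ → γ) F) * (P.dag (g : Matrix (τ → γ) (τ → γ) F) * (perm π⁻¹ * perm π) *
          (g : Matrix (τ → γ) (τ → γ) F)) * (sa : Matrix (τ → γ) (τ → γ) F) := by simp only [mul_assoc]
      _ = 1 := by rw [perm_mul, inv_mul_cancel, perm_one, mul_one, hG.hyp.iso g hg, mul_one, hG.hyp.iso sa hsa]
  have hn : Eqj y i i := by
    refine Good.normal_of_E hG (hG.perm_conj π) hi (fun k hk => ?_) (fun k hk => ?_) he0 he hy'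
    · refine ⟨g * sa * k * (g * sa)⁻¹, mul_mem (mul_mem (mul_mem hg hsa) hk) (inv_mem (mul_mem hg hsa)), ?_⟩
      show permGL π * (g * sa * k * (g * sa)⁻¹) * (permGL π)⁻¹ = y * k * y⁻¹
      simp only [hy, q]
      group
    · obtain ⟨k, hk', rfl⟩ := hk
      show y⁻¹ * (permGL π * k * (permGL π)⁻¹) * y ∈ X
      rw [show y⁻¹ * (permGL π * k * (permGL π)⁻¹) * y = (g * sa)⁻¹ * k * (g * sa) by simp only [hy, q]; group]
      exact mul_mem (mul_mem (inv_mem (mul_mem hg hsa)) hk') (mul_mem hg hsa)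
  have hqE : Eqj q⁻¹ i j := fun A => ⟨A, by
    have h1 := hq j A
    rw [hπ, Equiv.swap_apply_right] at h1
    rw [← h1, TensorPowLin.conjM_inv_conjM]⟩
  have hfin := (hsa'.inv.trans hn).trans hqE
  rwa [show q⁻¹ * (y * sa⁻¹) = g by rw [hy]; group] at hfin

end Frm

end Cfsg.Lib.Classical.OrthPow
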