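import Cfsg.Agent.Classical.OrthPow.Scalar

/-!
# A product of the slots' stabiliser and a central part has trivial central part
-/

set_option autoImplicit false
set_option linter.unusedSectionVars false
set_option linter.unusedSimpArgs false
set_option linter.style.haveILetI false

namespace Cfsg.Lib.Classical.OrthPow

open Matrix Finset
open scoped Kronecker MatrixGroups
open Cfsg.Lib.Classical.TensorOrth (TForm inc inc_sub inc_add inc_smul inc_mul_ev kron_mul_inc sie sie_mul sie_cube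
  sie_mul_neg sie_neg_mul sie_zero)
open Cfsg.Lib.Classical.TensorPowLin (Rest slot slot_mul slot_comm slot_one slot_sub)

universe u

variable {τ γ : Type} [Fintype τ] [DecidableEq τ] [Fintype γ] [DecidableEq γ] {F : Type u} [Field F]

/-- The fixed points of a conjugation of prime order. -/
theorem dvd_card_fixed {R : Type*} [Monoid R] [DecidableEq R] {p : ℕ} [Fact p.Prime] (s : Finset R) {q q' : R}
    (hq : q * q' = 1) (hq' : q' * q = 1) (hp : q ^ p = 1) (hs : ∀ x ∈ s, q * x * q' ∈ s) (hd : p ∣ s.card) :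
    p ∣ (s.filter fun x => q * x = x * q).card := by
  let f : Function.End s := fun x => ⟨q * x.1 * q', hs _ x.2⟩
  have hfn : ∀ (n : ℕ) (x : s), ((f ^ n) x).1 = q ^ n * x.1 * q' ^ n := by
    intro n
    induction n with
    | zero =>
      intro x
      rw [pow_zero, pow_zero, pow_zero, one_mul, mul_one]
      rfl
    | succ n ih =>
      intro x
      rw [pow_succ']
      show q * ((f ^ n) x).1 * q' = _
      rw [ih, pow_succ' q, pow_succ]
      simp only [mul_assoc]
  have hf : f ^ p ^ 1 = 1 := by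
    have hp' : q' ^ p = 1 := by
      have := (show Commute q q' from hq.trans hq'.symm).mul_pow p
      rwa [hq, one_pow, hp, one_mul, eq_comm] at this
    funext x
    refine Subtype.ext ?_
    show ((f ^ p ^ 1) x).1 = x.1
    rw [pow_one, hfn, hp, hp', one_mul, mul_one]
  have h1 : Fintype.card s ≡ Fintype.card (Function.fixedPoints f) [MOD p] := Equiv.Perm.card_fixedPoints_modEq hf
  have h2 : Fintype.card (Function.fixedPoints f) = (s.filter fun x => q * x = x * q).card := by
    rw [← Fintype.card_coe]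
    refine Fintype.card_congr ⟨fun x => ⟨x.1.1, Finset.mem_filter.mpr ⟨x.1.2, ?_⟩⟩,
      fun x => ⟨⟨x.1, (Finset.mem_filter.mp x.2).1⟩, ?_⟩, fun _ => rfl, fun _ => rfl⟩
    · have h3 := congrArg (fun y : s => y.1 * q) x.2
      simpa only [f, mul_assoc, hq', mul_one] using h3
    · refine Subtype.ext ?_
      show q * x.1 * q' = x.1
      rw [(Finset.mem_filter.mp x.2).2, mul_assoc, hq, mul_one]
  rw [← h2]
  rw [Fintype.card_coe] at h1
  exact (Nat.ModEq.dvd_iff h1 dvd_rfl).mp hd

namespace Frm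

set_option maxHeartbeats 1000000

variable {P : Frm γ F} {X : Subgroup (GL (τ → γ) F)} {j : τ}

theorem adjU_neg' (K : Matrix (Rest j → γ) (Rest j → γ) F) : (P.Tj j).adjU (-K) = -(P.Tj j).adjU K := by
  rw [← neg_one_smul F K, (P.Tj j).adjU_smul, neg_one_smul]

theorem adjU_pow' (K : Matrix (Rest j → γ) (Rest j → γ) F) (n : ℕ) : (P.Tj j).adjU (K ^ n) = (P.Tj j).adjU K ^ n := by
  induction n with
  | zero => rw [pow_zero, pow_zero, (P.Tj j).adjU_one]
  | succ n ih => rw [pow_succ, (P.Tj j).adjU_mul, ih, pow_succ']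

/-- Conjugating a central part by an element of the first factor. -/
theorem ZM_kron {e : γ → F} {A : Matrix (Rest j → γ) (Rest j → γ) F} (hA : (P.Tj j).adjU A * A = 1) (K : Matrix (Rest j → γ) (Rest j → γ) F) :
    (A ⊗ₖ (1 : Matrix γ γ F)) * (P.Tj j).ZM e K * ((P.Tj j).adjU A ⊗ₖ (1 : Matrix γ γ F)) =
      (P.Tj j).ZM e (A * K * (P.Tj j).adjU A) := by
  have hAA : A * (P.Tj j).adjU A = 1 := mul_eq_one_comm.mp hA
  rw [TForm.ZM, TForm.ZM, TForm.pr, inc_mul_ev, inc_mul_ev, Matrix.mul_add, Matrix.add_mul, Matrix.mul_one,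
    ← mul_kronecker_mul, ← mul_kronecker_mul, ← mul_kronecker_mul, hAA, Matrix.mul_one, Matrix.one_mul,
    Matrix.mul_one, one_kronecker_one]

theorem ZM_conj₂ {e : γ → F} (K : Matrix (Rest j → γ) (Rest j → γ) F) {h : Matrix γ γ F} (hh : h ∈ P.Grp) :
    ((1 : Matrix (Rest j → γ) (Rest j → γ) F) ⊗ₖ h) * (P.Tj j).ZM e K * ((1 : Matrix (Rest j → γ) (Rest j → γ) F) ⊗ₖ P.adj h) = (P.Tj j).ZM (h *ᵥ e) K := by
  rw [TForm.ZM, TForm.ZM, TForm.pr, TForm.pr, inc_mul_ev, inc_mul_ev, Matrix.mul_add, Matrix.add_mul, Matrix.mul_one,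
    ← mul_kronecker_mul, ← mul_kronecker_mul, ← mul_kronecker_mul, Matrix.one_mul, Matrix.one_mul, Matrix.mul_one,
    (Grp.iso hh).mul_adj, one_kronecker_one]
  congr 2
  exact conj_E e

variable (P)

/-- The central parts of the stabiliser. -/
def CK (X : Subgroup (GL (τ → γ) F)) (j : τ) (e : γ → F) : Set (Matrix (Rest j → γ) (Rest j → γ) F) :=
  {K | (P.Tj j).adjU K = -K ∧
    ∃ A : Matrix (Rest j → γ) (Rest j → γ) F, (P.Tj j).adjU A * A = 1 ∧ Mem X j ((A ⊗ₖ (1 : Matrix γ γ F)) * (P.Tj j).ZM e K)}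

variable {P}

theorem CK.zero {e : γ → F} : (0 : Matrix (Rest j → γ) (Rest j → γ) F) ∈ P.CK X j e := by
  refine ⟨by simp [TForm.adjU], 1, by rw [(P.Tj j).adjU_one, Matrix.one_mul], ?_⟩
  rw [(P.Tj j).ZM_zero, one_kronecker_one, Matrix.one_mul]
  exact Mem.one

theorem CK.map {e : γ → F} (he : P.B e e = 0) {K K' A' : Matrix (Rest j → γ) (Rest j → γ) F} (hK : K ∈ P.CK X j e) (hK' : (P.Tj j).adjU K' = -K')
    (hA' : (P.Tj j).adjU A' * A' = 1) (hm' : Mem X j ((A' ⊗ₖ (1 : Matrix γ γ F)) * (P.Tj j).ZM e K')) :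
    (P.Tj j).adjU A' * K * A' + K' ∈ P.CK X j e := by
  set T := P.Tj j with hT
  obtain ⟨hs, A, hA, hm⟩ := hK
  refine ⟨?_, A * A', ?_, ?_⟩
  · rw [T.adjU_add, T.adjU_mul, T.adjU_mul, T.adjU_adjU, hs, hK', Matrix.neg_mul, Matrix.mul_neg, ← Matrix.mul_assoc,
      neg_add]
  · rw [T.adjU_mul, Matrix.mul_assoc, ← Matrix.mul_assoc (T.adjU A), hA, Matrix.one_mul, hA']
  · have h1 := hm.mul hm'
    have hA'' : T.adjU (T.adjU A') * T.adjU A' = 1 := by rw [T.adjU_adjU]; exact mul_eq_one_comm.mp hA'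
    have h2 := ZM_kron (P := P) (e := e) hA'' K
    rw [T.adjU_adjU] at h2
    convert h1 using 1
    rw [← T.ZM_mul he, ← h2]
    simp only [← Matrix.mul_assoc]
    rw [← mul_kronecker_mul, Matrix.mul_assoc A, mul_eq_one_comm.mp hA', Matrix.mul_one, Matrix.one_mul]

variable [Fintype F]

theorem CK.slot_conj (hX : P.Hyp X) {e : γ → F} (he : P.B e e = 0) {K : Matrix (Rest j → γ) (Rest j → γ) F} (hK : K ∈ P.CK X j e) (l : Rest j)
    {a : Matrix γ γ F} (ha : a ∈ P.Grp) : slot l a * K * slot l (P.adj a) ∈ P.CK X j e := by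
  have h := CK.map he hK (K' := 0) (A' := slot l (P.adj a)) (by simp [TForm.adjU]) ?_ ?_
  · rwa [adjU_slot, show P.adj (P.adj a) = a from P.T.adjU_adjU a, add_zero] at h
  · rw [adjU_slot, show P.adj (P.adj a) = a from P.T.adjU_adjU a, ← slot_mul, (Grp.iso ha).mul_adj, slot_one]
  · rw [(P.Tj j).ZM_zero, Matrix.mul_one]
    exact Mem.slot₁ hX l (Grp.adj_mem ha)

theorem scalar_skew {c : F} (h : (P.Tj j).adjU (c • (1 : Matrix (Rest j → γ) (Rest j → γ) F)) = -(c • 1)) : c • (1 : Matrix (Rest j → γ) (Rest j → γ) F) = 0 := by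
  rw [(P.Tj j).adjU_smul, (P.Tj j).adjU_one, eq_neg_iff_add_eq_zero, ← two_smul F, smul_eq_zero] at h
  exact h.resolve_left P.two

/-- An element fixed by the root groups among the central parts is nilpotent. -/
theorem skew_nil {x : γ → F} (hx0 : x ≠ 0) (hx : P.B x x = 0) {K : Matrix (Rest j → γ) (Rest j → γ) F} (hK : (P.Tj j).adjU K = -K)
    (hq : ∀ (l : Rest j) z, P.B x z = 0 → Commute (TensorPowLin.slot l (sie P.G x z)) K) : IsNilpotent K := by
  haveI : Nonempty γ := P.nonempty
  obtain ⟨c, hc⟩ := fix_line (v := K *ᵥ pten fun _ : Rest j => x) hx0 hx fun l z hz => by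
    rw [mulVec_mulVec, (hq l z hz).eq, ← mulVec_mulVec, slot_mulVec_pten]
    congr 1
    rw [sie_apply, P.B_comm z x, hz, hx]
    simp
  have hD : IsNilpotent (K - c • 1) := nil_of_fix hx0 hx
    (fun l z hz => (hq l z hz).sub_right ((Commute.one_right _).smul_right _))
    (by rw [sub_mulVec, smul_mulVec, one_mulVec, hc, sub_self])
  have hD' : IsNilpotent (-K - c • 1) := by
    obtain ⟨n, hn⟩ := hD
    refine ⟨n, ?_⟩
    have h1 := congrArg (P.Tj j).adjU hn
    rw [adjU_pow', (P.Tj j).adjU_sub, (P.Tj j).adjU_smul, (P.Tj j).adjU_one, hK] at h1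
    rw [h1]
    simp [TForm.adjU]
  have hc2 : IsNilpotent ((-(2 * c)) • (1 : Matrix (Rest j → γ) (Rest j → γ) F)) := by
    have h := Commute.isNilpotent_add (((Commute.refl K).neg_right.sub_right ((Commute.one_right K).smul_right c)).sub_left
      ((Commute.one_left _).smul_left c)) hD hD'
    rw [show (-(2 * c)) • (1 : Matrix (Rest j → γ) (Rest j → γ) F) = K - c • 1 + (-K - c • 1) by module]
    exact h
  have hc0 : c = 0 := by
    obtain ⟨n, hn⟩ := hc2
    rw [smul_pow, one_pow, smul_eq_zero] at hn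
    have := eq_zero_of_pow_eq_zero (hn.resolve_right one_ne_zero)
    exact (mul_eq_zero.mp (neg_eq_zero.mp this)).resolve_left P.two
  rwa [hc0, zero_smul, sub_zero] at hD

/-- Either the central parts are trivial or one of them is nilpotent. -/
theorem CK.nilpotent (hX : P.Hyp X) {e : γ → F} (he : P.B e e = 0) {K' A' : Matrix (Rest j → γ) (Rest j → γ) F}
    (hK' : (P.Tj j).adjU K' = -K') (hA' : (P.Tj j).adjU A' * A' = 1)
    (hm' : Mem X j ((A' ⊗ₖ (1 : Matrix γ γ F)) * (P.Tj j).ZM e K')) (hne : K' ≠ 0) :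
    ∃ K ∈ P.CK X j e, K ≠ 0 ∧ IsNilpotent K := by
  classical
  haveI : Nonempty γ := P.nonempty
  set T := P.Tj j with hT
  haveI : Fintype (P.CK X j e) := Fintype.ofFinite _
  have hA'' : A' * T.adjU A' = 1 := mul_eq_one_comm.mp hA'
  let φ : P.CK X j e → P.CK X j e := fun K => ⟨_, CK.map he K.2 hK' hA' hm'⟩
  have hφ : Function.Bijective φ := by
    refine Finite.injective_iff_bijective.mp fun K L h => Subtype.ext ?_
    have h1 := add_right_cancel (congrArg Subtype.val h)
    have h2 := congrArg (fun M => A' * M * T.adjU A') h1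
    simpa only [← hT, ← Matrix.mul_assoc, hA'', Matrix.one_mul, Matrix.mul_assoc _ A' (T.adjU A'), Matrix.mul_one]
      using h2
  set K₀ := ∑ K : P.CK X j e, K.1 with hK₀
  have hsum : T.adjU A' * K₀ * A' + Fintype.card (P.CK X j e) • K' = K₀ := by
    conv_rhs => rw [hK₀, ← (Equiv.ofBijective φ hφ).sum_comp]
    simp only [Equiv.ofBijective_apply, φ, Finset.sum_add_distrib, ← Finset.sum_mul, ← Finset.mul_sum,
      Finset.sum_const, Finset.card_univ, ← hK₀]
    rfl
  have hcomm : ∀ (l : Rest j), ∀ a ∈ P.Grp, Commute (TensorPowLin.slot l a) K₀ := by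
    intro l a ha
    have h1 : TensorPowLin.slot l a * TensorPowLin.slot l (P.adj a) = (1 : Matrix (Rest j → γ) (Rest j → γ) F) := by
      rw [← slot_mul, (Grp.iso ha).mul_adj, slot_one]
    have h2 : TensorPowLin.slot l (P.adj a) * TensorPowLin.slot l a = (1 : Matrix (Rest j → γ) (Rest j → γ) F) := mul_eq_one_comm.mp h1
    let ψ : P.CK X j e → P.CK X j e := fun K => ⟨_, CK.slot_conj hX he K.2 l ha⟩
    have hψ : Function.Bijective ψ := by
      refine Finite.injective_iff_bijective.mp fun K L h => Subtype.ext ?_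
      have h4 := congrArg (fun M => TensorPowLin.slot l (P.adj a) * M * TensorPowLin.slot l a) (congrArg Subtype.val h)
      simpa only [ψ, ← Matrix.mul_assoc, h2, Matrix.one_mul,
        Matrix.mul_assoc _ (TensorPowLin.slot l (P.adj a)) (TensorPowLin.slot l a), Matrix.mul_one] using h4
    have h3 : TensorPowLin.slot l a * K₀ * TensorPowLin.slot l (P.adj a) = K₀ := by
      conv_rhs => rw [hK₀, ← (Equiv.ofBijective ψ hψ).sum_comp]
      simp only [Equiv.ofBijective_apply, ψ, ← Finset.sum_mul, ← Finset.mul_sum, ← hK₀]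
    show TensorPowLin.slot l a * K₀ = K₀ * TensorPowLin.slot l a
    conv_rhs => rw [← h3, Matrix.mul_assoc, h2, Matrix.mul_one]
  obtain ⟨c, hc⟩ := scalar_all (P := P) hcomm
  have hK₀s : T.adjU K₀ = -K₀ := by
    rw [hK₀, TForm.adjU, Matrix.transpose_sum, Matrix.mul_sum, Matrix.sum_mul, ← Finset.sum_neg_distrib]
    exact Finset.sum_congr rfl fun K _ => K.2.1
  have hc0 : c • (1 : Matrix (Rest j → γ) (Rest j → γ) F) = 0 := scalar_skew (P := P) (by rw [← hT, ← hc]; exact hK₀s)
  rw [hc, hc0, Matrix.mul_zero, Matrix.zero_mul, zero_add, ← Nat.cast_smul_eq_nsmul F, smul_eq_zero] at hsum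
  have hN : ((Fintype.card (P.CK X j e) : ℕ) : F) = 0 := hsum.resolve_right hne
  obtain ⟨p, hp⟩ := CharP.exists F
  haveI hpf : Fact p.Prime := ⟨CharP.char_is_prime F p⟩
  have hdvd : p ∣ Fintype.card (P.CK X j e) := (CharP.cast_eq_zero_iff F p _).mp hN
  obtain ⟨x, y, hxy⟩ := exists_pair' P
  let Ix := Rest j × {z : γ → F // P.B x z = 0}
  let q : Ix → Matrix (Rest j → γ) (Rest j → γ) F := fun k => TensorPowLin.slot k.1 (sie P.G x k.2.1)
  have hqc : ∀ k k' : Ix, q k * q k' = q k' * q k := by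
    rintro ⟨k, z, hz⟩ ⟨l, w, hw⟩
    by_cases hkl : k = l
    · subst hkl
      simp only [q, ← slot_mul]
      rw [sie_mul P.symm P.two hxy.ee hz hw, sie_mul P.symm P.two hxy.ee hw hz, add_comm]
    · exact (slot_comm hkl _ _).eq
  have hqp : ∀ k : Ix, q k ^ p = 1 := fun k => by
    have hp3 : 3 ≤ p := by
      rcases hpf.out.eq_two_or_odd with h | h
      · subst h
        exact absurd (CharP.cast_eq_zero F 2) (by exact_mod_cast P.two)
      · have := hpf.out.two_le
        omega
    set N := sie P.G x k.2.1 - 1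
    have hqe : q k = slotHom k.1 (1 + N) := by rw [slotHom_apply, add_sub_cancel]
    haveI := charP_of_injective_algebraMap (algebraMap F (Matrix γ γ F)).injective p
    rw [hqe, ← map_pow, add_pow_char_of_commute _ (Commute.one_left _), one_pow,
      pow_eq_zero_of_le hp3 (sie_cube P.symm hxy.ee k.2.2), add_zero, map_one]
  have hqi : ∀ k : Ix, q k * TensorPowLin.slot k.1 (P.adj (sie P.G x k.2.1)) = 1 := fun k => by
    simp only [q, ← slot_mul]
    rw [(sie_iso hxy.ee k.2.2).mul_adj, slot_one]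
  let q' : Ix → Matrix (Rest j → γ) (Rest j → γ) F := fun k => TensorPowLin.slot k.1 (P.adj (sie P.G x k.2.1))
  let C : Finset (Matrix (Rest j → γ) (Rest j → γ) F) := (P.CK X j e).toFinset
  have key : ∀ s : Finset Ix, p ∣ (C.filter fun K => ∀ k ∈ s, q k * K = K * q k).card := by
    intro s
    induction s using Finset.induction_on with
    | empty =>
      convert hdvd using 1
      rw [Finset.filter_true_of_mem (by simp), Set.toFinset_card]
    | insert a s ha ih =>
      have h1 := dvd_card_fixed (C.filter fun K => ∀ k ∈ s, q k * K = K * q k) (q := q a) (q' := q' a) (hqi a)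
        (mul_eq_one_comm.mp (hqi a)) (hqp a) (fun K hK => ?_) ih
      · convert h1 using 2
        ext K
        simp only [Finset.mem_filter, Finset.forall_mem_insert]
        tauto
      · simp only [Finset.mem_filter, C, Set.mem_toFinset] at hK ⊢
        refine ⟨CK.slot_conj hX he hK.1 a.1 (sie_mem hxy.ee a.2.2), fun k hk => ?_⟩
        have h2 : q k * q' a = q' a * q k := by
          calc q k * q' a = (q' a * q a) * q k * q' a := by rw [mul_eq_one_comm.mp (hqi a), Matrix.one_mul]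
            _ = _ := by rw [Matrix.mul_assoc _ (q a), hqc a k, ← Matrix.mul_assoc, Matrix.mul_assoc, hqi a, Matrix.mul_one]
        exact ((show Commute (q k) (q a) from hqc k a).mul_right (hK.2 k hk)).mul_right h2
  have hmem0 : (0 : Matrix (Rest j → γ) (Rest j → γ) F) ∈
      C.filter fun K => ∀ k ∈ (Finset.univ : Finset Ix), q k * K = K * q k := by
    simp only [Finset.mem_filter, C, Set.mem_toFinset]
    exact ⟨CK.zero, fun k _ => by rw [Matrix.mul_zero, Matrix.zero_mul]⟩
  obtain ⟨K, hK, hK0⟩ := Finset.exists_mem_ne (lt_of_lt_of_le hpf.out.one_lt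
    (Nat.le_of_dvd (Finset.card_pos.mpr ⟨0, hmem0⟩) (key Finset.univ))) 0
  simp only [Finset.mem_filter, C, Set.mem_toFinset] at hK
  exact ⟨K, hK.1, hK0, skew_nil hxy.ne hxy.ee hK.1.1 fun l z hz => hK.2 (l, ⟨z, hz⟩) (Finset.mem_univ _)⟩

end Frm

end Cfsg.Lib.Classical.OrthPow
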