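import Cfsg.Agent.Classical.TensorOrth.Centre

/-!
# One factor of an orthogonal tensor power: the group generated by its root elements

The root elements `sie e z` give Weyl elements `weyl e f z` (the reflection along `z` combined with the exchange
of `e` and `f`) and hence Levi elements `tor e f z v`.
-/

set_option autoImplicit false
set_option linter.unusedSectionVars false
set_option linter.unusedSimpArgs false
set_option linter.style.haveILetI false

namespace Cfsg.Lib.Classical.OrthPow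

open Matrix
open scoped MatrixGroups
open Cfsg.Lib.Classical.TensorOrth (TForm sie sie_mulVec sie_isom sie_mul sie_zero sie_fix sie_cube sie_mul_neg
  sie_neg_mul)

universe u

variable {γ : Type} [Fintype γ] [DecidableEq γ] {F : Type u} [Field F]

/-- One factor: a symmetric non-degenerate form of dimension at least three, anisotropic off a hyperbolic pair
in dimension four; `refl` says that the reflections are available in dimension four. -/
structure Frm (γ : Type) [Fintype γ] [DecidableEq γ] (F : Type u) [Field F] where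
  G : Matrix γ γ F
  symm : Gᵀ = G
  det : G.det ≠ 0
  two : (2 : F) ≠ 0
  card : 3 ≤ Fintype.card γ
  ex : Fintype.card γ = 3 → Nat.card F ≠ 3
  small : Fintype.card γ = 4 → ∀ e f u : γ → F, e ⬝ᵥ G *ᵥ e = 0 → f ⬝ᵥ G *ᵥ f = 0 → e ⬝ᵥ G *ᵥ f = 1 →
    e ⬝ᵥ G *ᵥ u = 0 → f ⬝ᵥ G *ᵥ u = 0 → u ⬝ᵥ G *ᵥ u = 0 → u = 0
  refl : Prop

namespace Frm

variable (P : Frm γ F)

/-- The factor as both sides of a tensor product. -/
def T : TForm γ γ F := ⟨P.G, P.G, P.symm, P.symm, P.det, P.det⟩

abbrev B (x y : γ → F) : F := P.T.B₁ x y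

noncomputable abbrev adj (A : Matrix γ γ F) : Matrix γ γ F := P.T.adjU A

abbrev wedge (x y : γ → F) : Matrix γ γ F := P.T.wedge x y

/-- The symmetric rank one operator of `e`. -/
def E (e : γ → F) : Matrix γ γ F := vecMulVec e (P.G *ᵥ e)

theorem E_mulVec (e v : γ → F) : P.E e *ᵥ v = P.B e v • e := P.T.B₁_vec e e v

theorem adj_E (e : γ → F) : P.adj (P.E e) = P.E e := P.T.adjU_vecMulVec e e

theorem wedge_mulVec (x y v : γ → F) : P.wedge x y *ᵥ v = P.B y v • x - P.B x v • y := P.T.wedge_mulVec x y v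

theorem adj_wedge (x y : γ → F) : P.adj (P.wedge x y) = -P.wedge x y := P.T.adjU_wedge x y

theorem B_comm (x y : γ → F) : P.B x y = P.B y x := P.T.B₁_comm x y

theorem B_add_left (a b w : γ → F) : P.B (a + b) w = P.B a w + P.B b w := P.T.B₁_add_left a b w

theorem B_add_right (w a b : γ → F) : P.B w (a + b) = P.B w a + P.B w b := P.T.B₁_add_right w a b

theorem B_sub_left (a b w : γ → F) : P.B (a - b) w = P.B a w - P.B b w := P.T.B₁_sub_left a b w

theorem B_sub_right (w a b : γ → F) : P.B w (a - b) = P.B w a - P.B w b := P.T.B₁_sub_right w a b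

theorem B_smul_left (c : F) (a w : γ → F) : P.B (c • a) w = c * P.B a w := P.T.B₁_smul_left c a w

theorem B_smul_right (c : F) (w a : γ → F) : P.B w (c • a) = c * P.B w a := P.T.B₁_smul_right c w a

theorem B_neg_left (a w : γ → F) : P.B (-a) w = -P.B a w := P.T.B₁_neg_left a w

theorem B_neg_right (w a : γ → F) : P.B w (-a) = -P.B w a := P.T.B₁_neg_right w a

theorem B_zero_left (w : γ → F) : P.B 0 w = 0 := P.T.B₁_zero_left w

theorem B_zero_right (w : γ → F) : P.B w 0 = 0 := P.T.B₁_zero_right w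

theorem ext {A C : Matrix γ γ F} (h : ∀ v, A *ᵥ v = C *ᵥ v) : A = C := TensorOrth.TForm.eq_of_mulVec h

/-- An isometry. -/
def Iso (A : Matrix γ γ F) : Prop := P.adj A * A = 1

theorem Iso.mul_adj {A : Matrix γ γ F} (h : P.Iso A) : A * P.adj A = 1 := mul_eq_one_comm.mp h

theorem Iso.mul {A C : Matrix γ γ F} (hA : P.Iso A) (hC : P.Iso C) : P.Iso (A * C) := by
  rw [Iso, adj, P.T.adjU_mul, Matrix.mul_assoc, ← Matrix.mul_assoc (P.T.adjU A), show P.T.adjU A * A = 1 from hA,
    Matrix.one_mul]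
  exact hC

theorem Iso.one : P.Iso (1 : Matrix γ γ F) := by rw [Iso, adj, P.T.adjU_one, Matrix.one_mul]

variable {P}

theorem Iso.form {A : Matrix γ γ F} (h : P.Iso A) (u v : γ → F) : P.B (A *ᵥ u) (A *ᵥ v) = P.B u v := by
  rw [B, P.T.B₁_adjU, mulVec_mulVec, show P.T.adjU A * A = 1 from h, one_mulVec]

theorem conj_E {A : Matrix γ γ F} (e : γ → F) : A * P.E e * P.adj A = P.E (A *ᵥ e) := P.T.conj_vec A e e

theorem conj_wedge {A : Matrix γ γ F} (x y : γ → F) : A * P.wedge x y * P.adj A = P.wedge (A *ᵥ x) (A *ᵥ y) :=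
  P.T.conj_wedge A x y

variable (P)

theorem E_smul (c : F) (e : γ → F) : P.E (c • e) = (c * c) • P.E e := by
  rw [E, E, mulVec_smul, vecMulVec_smul, smul_vecMulVec, smul_smul]

theorem sie_eq (e z : γ → F) :
    sie P.G e z = 1 + P.wedge e z - (P.B z z / 2) • P.E e := by
  rw [sie, wedge, TensorOrth.TForm.wedge, ← add_sub_assoc]
  rfl

/-- A hyperbolic pair. -/
structure Pair (e f : γ → F) : Prop where
  ee : P.B e e = 0
  ff : P.B f f = 0
  ef : P.B e f = 1

/-- Orthogonal to a pair. -/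
structure Perp (e f z : γ → F) : Prop where
  left : P.B e z = 0
  right : P.B f z = 0

variable {P}

theorem Pair.fe {e f : γ → F} (hp : P.Pair e f) : P.B f e = 1 := by rw [B_comm]; exact hp.ef

theorem Pair.symm' {e f : γ → F} (hp : P.Pair e f) : P.Pair f e := ⟨hp.ff, hp.ee, hp.fe⟩

theorem Pair.ne {e f : γ → F} (hp : P.Pair e f) : e ≠ 0 := fun h => by
  have := hp.ef
  rw [h, B_zero_left] at this
  exact zero_ne_one this

theorem Perp.left' {e f z : γ → F} (h : P.Perp e f z) : P.B z e = 0 := by rw [B_comm]; exact h.left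

theorem Perp.right' {e f z : γ → F} (h : P.Perp e f z) : P.B z f = 0 := by rw [B_comm]; exact h.right

theorem Perp.smul {e f z : γ → F} (h : P.Perp e f z) (c : F) : P.Perp e f (c • z) :=
  ⟨by rw [B_smul_right, h.left, mul_zero],
    by rw [B_smul_right, h.right, mul_zero]⟩

theorem Perp.add {e f z z' : γ → F} (h : P.Perp e f z) (h' : P.Perp e f z') : P.Perp e f (z + z') :=
  ⟨by rw [B_add_right, h.left, h'.left, add_zero],
    by rw [B_add_right, h.right, h'.right, add_zero]⟩

theorem Perp.sub {e f z z' : γ → F} (h : P.Perp e f z) (h' : P.Perp e f z') : P.Perp e f (z - z') :=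
  ⟨by rw [B_sub_right, h.left, h'.left, sub_zero],
    by rw [B_sub_right, h.right, h'.right, sub_zero]⟩

theorem Perp.symm' {e f z : γ → F} (h : P.Perp e f z) : P.Perp f e z := ⟨h.right, h.left⟩

theorem sie_apply (e z v : γ → F) :
    sie P.G e z *ᵥ v = v + P.B z v • e - P.B e v • z - (P.B z z / 2 * P.B e v) • e :=
  P.T.sie_apply e z v

theorem sie_iso {e z : γ → F} (he : P.B e e = 0) (hz : P.B e z = 0) : P.Iso (sie P.G e z) := by
  rw [Iso, adj, show P.G = P.T.G₁ from rfl, P.T.adjU_sie P.two he hz]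
  exact sie_neg_mul P.symm P.two he hz

theorem adj_sie {e z : γ → F} (he : P.B e e = 0) (hz : P.B e z = 0) : P.adj (sie P.G e z) = sie P.G e (-z) :=
  P.T.adjU_sie P.two he hz

variable (P)

/-- The generators: root elements, and the reflections in dimension four. -/
def gens : Set (Matrix γ γ F) :=
  {h | (∃ e z, P.B e e = 0 ∧ P.B e z = 0 ∧ h = sie P.G e z) ∨
    (Fintype.card γ = 4 ∧ P.refl ∧ ∃ v, P.B v v ≠ 0 ∧ h = 1 - (2 / P.B v v) • P.E v)}

/-- The group they generate. -/
def Grp : Submonoid (Matrix γ γ F) := Submonoid.closure P.gens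

variable {P}

theorem sie_mem {e z : γ → F} (he : P.B e e = 0) (hz : P.B e z = 0) : sie P.G e z ∈ P.Grp :=
  Submonoid.subset_closure (Or.inl ⟨e, z, he, hz, rfl⟩)

theorem refl_apply (v x : γ → F) :
    (1 - (2 / P.B v v) • P.E v) *ᵥ x = x - (2 / P.B v v * P.B v x) • v := by
  rw [sub_mulVec, one_mulVec, smul_mulVec, E_mulVec, smul_smul]

theorem refl_adj (v : γ → F) : P.adj (1 - (2 / P.B v v) • P.E v) = 1 - (2 / P.B v v) • P.E v := by
  rw [adj, P.T.adjU_sub, P.T.adjU_one, P.T.adjU_smul, ← adj, adj_E]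

theorem refl_iso {v : γ → F} (hv : P.B v v ≠ 0) : P.Iso (1 - (2 / P.B v v) • P.E v) := by
  rw [Iso, refl_adj]
  refine ext fun x => ?_
  rw [← mulVec_mulVec, refl_apply, refl_apply, one_mulVec, B_sub_right,
    B_smul_right]
  rw [show 2 / P.B v v * (P.B v x - 2 / P.B v v * P.B v x * P.B v v) =
    -(2 / P.B v v * P.B v x) by
      have : P.B v v ≠ 0 := hv
      field_simp
      ring, neg_smul, sub_neg_eq_add, sub_add_cancel]

theorem Grp.iso {h : Matrix γ γ F} (hh : h ∈ P.Grp) : P.Iso h := by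
  induction hh using Submonoid.closure_induction with
  | mem x hx =>
    rcases hx with ⟨e, z, he, hz, rfl⟩ | ⟨-, -, v, hv, rfl⟩
    · exact sie_iso he hz
    · exact refl_iso hv
  | one => exact Iso.one P
  | mul x y _ _ hx hy => exact Iso.mul P hx hy

theorem Grp.adj_mem {h : Matrix γ γ F} (hh : h ∈ P.Grp) : P.adj h ∈ P.Grp := by
  induction hh using Submonoid.closure_induction with
  | mem x hx =>
    rcases hx with ⟨e, z, he, hz, rfl⟩ | ⟨h4, hr, v, hv, rfl⟩
    · rw [adj_sie he hz]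
      exact sie_mem he (by rw [B_neg_right, neg_eq_zero]; exact hz)
    · rw [refl_adj]
      exact Submonoid.subset_closure (Or.inr ⟨h4, hr, v, hv, rfl⟩)
  | one => rw [adj, P.T.adjU_one]; exact one_mem _
  | mul x y _ _ hx hy => rw [adj, P.T.adjU_mul]; exact mul_mem hy hx

/-- The Weyl element of an anisotropic vector orthogonal to a pair. -/
def weyl (P : Frm γ F) (e f z : γ → F) : Matrix γ γ F :=
  sie P.G e z * sie P.G f ((2 / P.B z z) • z) * sie P.G e z

/-- A Levi element. -/
def tor (P : Frm γ F) (e f z v : γ → F) : Matrix γ γ F := P.weyl e f z * P.weyl e f v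

theorem weyl_mem {e f z : γ → F} (hp : P.Pair e f) (hz : P.Perp e f z) : P.weyl e f z ∈ P.Grp :=
  mul_mem (mul_mem (sie_mem hp.ee hz.left) (sie_mem hp.ff (hz.smul _).right)) (sie_mem hp.ee hz.left)

theorem weyl_apply {e f z : γ → F} (hp : P.Pair e f) (hz : P.Perp e f z) (hzz : P.B z z ≠ 0) :
    P.weyl e f z *ᵥ e = -(2 / P.B z z) • f ∧ P.weyl e f z *ᵥ f = -(P.B z z / 2) • e ∧
      ∀ x, P.Perp e f x → P.weyl e f z *ᵥ x = x - (2 / P.B z z * P.B z x) • z := by
  have h2 := P.two
  have hzz' : P.B z z ≠ 0 := hzz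
  refine ⟨?_, ?_, fun x hx => ?_⟩
  all_goals
    simp only [weyl, ← mulVec_mulVec, sie_apply, mulVec_add, mulVec_sub, mulVec_smul,
      B_add_right, B_sub_right, B_smul_right,
      B_smul_left]
  · simp only [show P.B e e = 0 from hp.ee, show P.B f e = 1 from hp.fe, show P.B z e = 0 from hz.left',
      show P.B e f = 1 from hp.ef, show P.B f f = 0 from hp.ff, show P.B z f = 0 from hz.right',
      show P.B e z = 0 from hz.left, show P.B f z = 0 from hz.right, smul_smul]
    match_scalars <;> field_simp <;> ring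
  · simp only [show P.B e e = 0 from hp.ee, show P.B f e = 1 from hp.fe, show P.B z e = 0 from hz.left',
      show P.B e f = 1 from hp.ef, show P.B f f = 0 from hp.ff, show P.B z f = 0 from hz.right',
      show P.B e z = 0 from hz.left, show P.B f z = 0 from hz.right, smul_smul]
    match_scalars <;> field_simp <;> ring
  · simp only [show P.B e e = 0 from hp.ee, show P.B f e = 1 from hp.fe, show P.B z e = 0 from hz.left',
      show P.B e f = 1 from hp.ef, show P.B f f = 0 from hp.ff, show P.B z f = 0 from hz.right',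
      show P.B e z = 0 from hz.left, show P.B f z = 0 from hz.right, show P.B e x = 0 from hx.left,
      show P.B f x = 0 from hx.right, smul_smul]
    match_scalars <;> field_simp <;> ring

theorem tor_mem {e f z v : γ → F} (hp : P.Pair e f) (hz : P.Perp e f z) (hv : P.Perp e f v) :
    P.tor e f z v ∈ P.Grp := mul_mem (weyl_mem hp hz) (weyl_mem hp hv)

theorem tor_apply {e f z v : γ → F} (hp : P.Pair e f) (hz : P.Perp e f z) (hzz : P.B z z ≠ 0) (hv : P.Perp e f v)
    (hvv : P.B v v ≠ 0) :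
    P.tor e f z v *ᵥ e = (P.B z z / P.B v v) • e ∧ P.tor e f z v *ᵥ f = (P.B v v / P.B z z) • f ∧
      ∀ x, P.Perp e f x → P.tor e f z v *ᵥ x =
        (x - (2 / P.B v v * P.B v x) • v) - (2 / P.B z z * P.B z (x - (2 / P.B v v * P.B v x) • v)) • z := by
  have h2 := P.two
  obtain ⟨ze, zf, zx⟩ := weyl_apply hp hz hzz
  obtain ⟨ve, vf, vx⟩ := weyl_apply hp hv hvv
  refine ⟨?_, ?_, fun x hx => ?_⟩
  · rw [tor, ← mulVec_mulVec, ve, mulVec_smul, zf, smul_smul]
    congr 1
    field_simp
  · rw [tor, ← mulVec_mulVec, vf, mulVec_smul, ze, smul_smul]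
    congr 1
    field_simp
  · rw [tor, ← mulVec_mulVec, vx x hx, zx _ (hx.sub (hv.smul _))]

/-- A Levi element of a pair. -/
structure Levi (P : Frm γ F) (e f : γ → F) (ρ : F) (h : Matrix γ γ F) : Prop where
  mem : h ∈ P.Grp
  he : h *ᵥ e = ρ • e
  hf : h *ᵥ f = ρ⁻¹ • f
  ne : ρ ≠ 0

theorem Levi.perp {e f x : γ → F} {ρ : F} {h : Matrix γ γ F} (hl : P.Levi e f ρ h) (hx : P.Perp e f x) :
    P.Perp e f (h *ᵥ x) := by
  have h1 := (Grp.iso hl.mem).form e x
  have h2 := (Grp.iso hl.mem).form f x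
  rw [hl.he, B_smul_left, hx.left] at h1
  rw [hl.hf, B_smul_left, hx.right] at h2
  exact ⟨(mul_eq_zero.mp h1).resolve_left hl.ne, (mul_eq_zero.mp h2).resolve_left (inv_ne_zero hl.ne)⟩

theorem Levi.mul {e f : γ → F} {ρ ρ' : F} {h h' : Matrix γ γ F} (hl : P.Levi e f ρ h) (hl' : P.Levi e f ρ' h') :
    P.Levi e f (ρ * ρ') (h * h') :=
  ⟨mul_mem hl.mem hl'.mem, by rw [← mulVec_mulVec, hl'.he, mulVec_smul, hl.he, smul_smul, mul_comm],
    by rw [← mulVec_mulVec, hl'.hf, mulVec_smul, hl.hf, smul_smul, mul_inv, mul_comm], mul_ne_zero hl.ne hl'.ne⟩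

theorem levi_tor {e f z v : γ → F} (hp : P.Pair e f) (hz : P.Perp e f z) (hzz : P.B z z ≠ 0) (hv : P.Perp e f v)
    (hvv : P.B v v ≠ 0) : P.Levi e f (P.B z z / P.B v v) (P.tor e f z v) :=
  ⟨tor_mem hp hz hv, (tor_apply hp hz hzz hv hvv).1, by rw [inv_div]; exact (tor_apply hp hz hzz hv hvv).2.1,
    div_ne_zero hzz hvv⟩

end Frm

end Cfsg.Lib.Classical.OrthPow
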