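import Cfsg.Agent.Classical.OrthPow.Form
import Cfsg.Agent.Classical.TensorOrth.SqGeom

/-!
# Geometry of one factor: anisotropic vectors, shifts, the span of the Levi group
-/

set_option autoImplicit false
set_option linter.unusedSectionVars false
set_option linter.unusedSimpArgs false
set_option linter.style.haveILetI false

namespace Cfsg.Lib.Classical.OrthPow

open Matrix
open scoped MatrixGroups
open Cfsg.Lib.Classical.TensorOrth (sie exists_aniso exists_aniso_pair exists_aniso_three exists_partner)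

universe u

variable {γ : Type} [Fintype γ] [DecidableEq γ] {F : Type u} [Field F]

namespace Frm

variable {P : Frm γ F}

/-- The functional of a vector. -/
def Bl (P : Frm γ F) (w : γ → F) : (γ → F) →ₗ[F] F where
  toFun v := P.B v w
  map_add' a b := P.B_add_left a b w
  map_smul' c a := P.B_smul_left c a w

theorem exists_pair' (P : Frm γ F) [Finite F] : ∃ e f, P.Pair e f := by
  obtain ⟨e, f, he, hf, hef⟩ := TensorOrth.exists_pair P.symm P.det P.two P.card
  exact ⟨e, f, he, hf, hef⟩

theorem exists_partner' {e : γ → F} (he0 : e ≠ 0) (he : P.B e e = 0) : ∃ f, P.Pair e f := by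
  obtain ⟨f, hff, hef⟩ := exists_partner P.symm P.det P.two he0 he
  exact ⟨f, he, hff, hef⟩

theorem exists_perp {e f : γ → F} (hp : P.Pair e f) : ∃ z, P.Perp e f z ∧ P.B z z ≠ 0 := by
  obtain ⟨z, h1, h2, h3⟩ := exists_aniso_pair P.symm P.det P.two P.card hp.ee hp.ff hp.ef
  exact ⟨z, ⟨h1, h2⟩, h3⟩

theorem exists_perp_orth {e f v : γ → F} (hp : P.Pair e f) (hv : P.Perp e f v) (hvv : P.B v v ≠ 0)
    (h4 : 4 ≤ Fintype.card γ) : ∃ w, P.Perp e f w ∧ P.B v w = 0 ∧ P.B w w ≠ 0 := by
  obtain ⟨z, h1, h2, h3, h4⟩ := exists_aniso_three P.symm P.det P.two h4 hp.ee hp.ff hp.ef hv.left hv.right hvv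
  exact ⟨z, ⟨h1, h2⟩, h3, h4⟩

theorem exists_perp_orth₂ {e f v w : γ → F} (hp : P.Pair e f) (hv : P.Perp e f v) (hvv : P.B v v ≠ 0)
    (hw : P.Perp e f w) (hww : P.B w w ≠ 0) (hvw : P.B v w = 0) (h5 : 5 ≤ Fintype.card γ) :
    ∃ u, P.Perp e f u ∧ P.B v u = 0 ∧ P.B w u = 0 ∧ P.B u u ≠ 0 := by
  have hwv : P.B w v = 0 := by rw [B_comm]; exact hvw
  obtain ⟨z, hz, hzz⟩ := exists_aniso P.symm P.det P.two ![e, f, v, w] (by omega) fun z =>
    ⟨![P.B f z, P.B e z, P.B v z / P.B v v, P.B w z / P.B w w], fun j => by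
      show P.B _ (z - ∑ i, _) = 0
      simp only [Fin.sum_univ_four, Matrix.cons_val_zero, Matrix.cons_val_one, Matrix.cons_val, B_sub_right,
        B_add_right, B_smul_right]
      fin_cases j <;>
        simp [hp.ee, hp.ff, hp.ef, hp.fe, hv.left, hv.right, hv.left', hv.right', hw.left, hw.right, hw.left',
          hw.right', hvw, hwv, hvv, hww]⟩
  exact ⟨z, ⟨hz 0, hz 1⟩, hz 2, hz 3, hzz⟩

/-- In dimension four nothing singular is orthogonal to a pair. -/
theorem small' {e f u : γ → F} (hp : P.Pair e f) (hu : P.Perp e f u) (h4 : Fintype.card γ = 4)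
    (huu : P.B u u = 0) : u = 0 := P.small h4 e f u hp.ee hp.ff hp.ef hu.left hu.right huu

theorem four_of_three (P : Frm γ F) [Fintype F] (h3 : Fintype.card F = 3) : 4 ≤ Fintype.card γ := by
  rcases Nat.lt_or_ge (Fintype.card γ) 4 with h | h
  · exfalso
    refine P.ex (by have := P.card; omega) ?_
    rw [Nat.card_eq_fintype_card, h3]
  · exact h

theorem three_or_five [Fintype F] (P : Frm γ F) : Fintype.card F = 3 ∨ 5 ≤ Fintype.card F := by
  have h1 : 1 < Fintype.card F := Fintype.one_lt_card
  have h2 : Fintype.card F ≠ 2 := fun h => P.two (by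
    have := FiniteField.cast_card_eq_zero F
    rw [h] at this
    exact_mod_cast this)
  by_contra hh
  have h4 : Fintype.card F = 4 := by omega
  refine P.two ?_
  have h0 := FiniteField.cast_card_eq_zero F
  rw [h4] at h0
  refine pow_eq_zero_iff (n := 2) two_ne_zero |>.mp ?_
  calc (2 : F) ^ 2 = ((4 : ℕ) : F) := by norm_num
    _ = 0 := h0

theorem three_pm [Fintype F] (h3 : Fintype.card F = 3) {x : F} (hx : x ≠ 0) : x = 1 ∨ x = -1 := by
  have h := FiniteField.pow_card_sub_one_eq_one x hx
  rw [h3, show 3 - 1 = 2 from rfl, sq] at h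
  exact mul_self_eq_one_iff.mp h

/-- Over three elements every anisotropic vector has an orthogonal partner of the same norm. -/
theorem exists_twin [Fintype F] (h3 : Fintype.card F = 3) {e f v : γ → F} (hp : P.Pair e f) (hv : P.Perp e f v)
    (hvv : P.B v v ≠ 0) : ∃ w, P.Perp e f w ∧ P.B v w = 0 ∧ P.B w w = P.B v v := by
  have h4 := four_of_three P h3
  obtain ⟨w, hw, hvw, hww⟩ := exists_perp_orth hp hv hvv h4
  by_cases hsame : P.B w w = P.B v v
  · exact ⟨w, hw, hvw, hsame⟩
  have hopp : ∀ w', P.B w' w' ≠ 0 → P.B w' w' ≠ P.B v v → P.B w' w' = -P.B v v := by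
    intro w' h hne
    rcases three_pm h3 h with a | a <;> rcases three_pm h3 hvv with b | b
    · exact absurd (a.trans b.symm) hne
    · rw [a, b, neg_neg]
    · rw [a, b]
    · exact absurd (a.trans b.symm) hne
  have hwneg := hopp w hww hsame
  have hwv : P.B w v = 0 := by rw [B_comm]; exact hvw
  rcases Nat.lt_or_ge (Fintype.card γ) 5 with h5 | h5
  · exfalso
    refine hvv ?_
    have h0 : v + w = 0 := small' hp (hv.add hw) (by omega) (by
      rw [B_add_left, B_add_right, B_add_right, hvw, hwv, hwneg]; ring)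
    have := congrArg (P.B v) h0
    rwa [B_add_right, hvw, add_zero, B_zero_right] at this
  obtain ⟨u, hu, hvu, hwu, huu⟩ := exists_perp_orth₂ hp hv hvv hw hww hvw h5
  by_cases husame : P.B u u = P.B v v
  · exact ⟨u, hu, hvu, husame⟩
  refine ⟨w + u, hw.add hu, by rw [B_add_right, hvw, hvu, add_zero], ?_⟩
  have huw : P.B u w = 0 := by rw [B_comm]; exact hwu
  have h3' : (3 : F) = 0 := by
    have := FiniteField.cast_card_eq_zero F
    rw [h3] at this
    exact_mod_cast this
  rw [B_add_left, B_add_right, B_add_right, hwu, huw, hwneg, hopp u huu husame]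
  linear_combination (-P.B v v) * h3'

/-- A Levi element acting on `v` by a sign different from its action on `e`. -/
theorem exists_shift [Fintype F] {e f v : γ → F} (hp : P.Pair e f) (hv : P.Perp e f v) (hvv : P.B v v ≠ 0) :
    ∃ (h : Matrix γ γ F) (ρ σ : F), P.Levi e f ρ h ∧ h *ᵥ v = σ • v ∧ σ * σ = 1 ∧ ρ ≠ σ := by
  rcases three_or_five P with h3 | h5
  · obtain ⟨w, hw, hvw, hww⟩ := exists_twin h3 hp hv hvv
    refine ⟨_, _, -1, levi_tor hp hv hvv hw (hww ▸ hvv), ?_, by ring, ?_⟩
    · rw [(tor_apply hp hv hvv hw (hww ▸ hvv)).2.2 v hv, show P.B w v = 0 by rw [B_comm]; exact hvw, mul_zero,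
        zero_smul, sub_zero, div_mul_cancel₀ _ hvv, neg_one_smul, two_smul]
      abel
    · rw [hww, div_self hvv]
      intro h
      exact P.two (by linear_combination h)
  · classical
    obtain ⟨c, hc0, hc⟩ : ∃ c : F, c ≠ 0 ∧ c * c ≠ 1 := by
      by_contra hh
      push Not at hh
      have hsub : (Finset.univ : Finset F) ⊆ {0, 1, -1} := fun x _ => by
        simp only [Finset.mem_insert, Finset.mem_singleton]
        by_cases hx : x = 0
        · exact Or.inl hx
        · exact Or.inr (mul_self_eq_one_iff.mp (hh x hx))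
      have := (Finset.card_le_card hsub).trans Finset.card_le_three
      rw [Finset.card_univ] at this
      omega
    have hcv : P.B (c • v) (c • v) ≠ 0 := by
      rw [B_smul_left, B_smul_right]; exact mul_ne_zero hc0 (mul_ne_zero hc0 hvv)
    refine ⟨_, _, 1, levi_tor hp (hv.smul c) hcv hv hvv, ?_, one_mul 1, ?_⟩
    · rw [(tor_apply hp (hv.smul c) hcv hv hvv).2.2 v hv, div_mul_cancel₀ _ hvv, one_smul, B_smul_left, B_smul_right,
        B_sub_right, B_smul_right, B_smul_left]
      match_scalars
      field_simp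
      ring
    · rw [B_smul_left, B_smul_right]
      intro h
      refine hc ?_
      field_simp at h
      linear_combination h

/-- The anisotropic vectors orthogonal to a pair span. -/
theorem perp_span {e f : γ → F} (hp : P.Pair e f) (S : Submodule F (γ → F))
    (h : ∀ v, P.Perp e f v → P.B v v ≠ 0 → v ∈ S) {z : γ → F} (hz : P.Perp e f z) : z ∈ S := by
  by_cases hzz : P.B z z ≠ 0
  · exact h z hz hzz
  push Not at hzz
  obtain ⟨a, ha, haa⟩ := exists_perp hp
  by_cases h1 : P.B (z + a) (z + a) ≠ 0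
  · have := sub_mem (h _ (hz.add ha) h1) (h a ha haa)
    rwa [add_sub_cancel_right] at this
  push Not at h1
  have h2 : P.B (z - a) (z - a) ≠ 0 := by
    intro h2
    rw [B_add_left, B_add_right, B_add_right, hzz, P.B_comm a z] at h1
    rw [B_sub_left, B_sub_right, B_sub_right, hzz, P.B_comm a z] at h2
    refine haa ((mul_eq_zero.mp (show (2 : F) * P.B a a = 0 by linear_combination h1 + h2)).resolve_left P.two)
  have := add_mem (h _ (hz.sub ha) h2) (h a ha haa)
  rwa [sub_add_cancel] at this

/-- Decomposition along a pair. -/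
theorem decomp {e f : γ → F} (hp : P.Pair e f) (v : γ → F) :
    ∃ z, P.Perp e f z ∧ v = P.B f v • e + P.B e v • f + z := by
  refine ⟨v - P.B f v • e - P.B e v • f, ⟨?_, ?_⟩, by abel⟩
  · rw [B_sub_right, B_sub_right, B_smul_right, B_smul_right, hp.ee, hp.ef]; ring
  · rw [B_sub_right, B_sub_right, B_smul_right, B_smul_right, hp.fe, hp.ff]; ring

theorem pair_span {e f : γ → F} (hp : P.Pair e f) (S : Submodule F (γ → F)) (he : e ∈ S) (hf : f ∈ S)
    (h : ∀ v, P.Perp e f v → P.B v v ≠ 0 → v ∈ S) : S = ⊤ := by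
  refine eq_top_iff.mpr fun v _ => ?_
  obtain ⟨z, hz, hv⟩ := decomp hp v
  rw [hv]
  exact add_mem (add_mem (S.smul_mem _ he) (S.smul_mem _ hf)) (perp_span hp S h hz)

/-- The conjugate of `f` by a root element at `e`. -/
theorem sie_f {e f z : γ → F} (hp : P.Pair e f) (hz : P.Perp e f z) :
    sie P.G e z *ᵥ f = f - z - (P.B z z / 2) • e := by
  rw [sie_apply, hz.right', hp.ef, zero_smul, mul_one, one_smul, add_zero]

theorem sie_pair {e f z : γ → F} (hp : P.Pair e f) (hz : P.Perp e f z) : P.Pair e (sie P.G e z *ᵥ f) := by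
  have hi := sie_iso hp.ee hz.left
  have he : sie P.G e z *ᵥ e = e := by
    simp [sie_apply, hz.left', hp.ee]
  refine ⟨hp.ee, by rw [hi.form, hp.ff], ?_⟩
  conv_lhs => arg 2; rw [← he]
  rw [hi.form, hp.ef]

/-- The singular vectors seeing a given one span. -/
theorem seeing_span {e f : γ → F} (hp : P.Pair e f) (S : Submodule F (γ → F))
    (h : ∀ g, P.Pair e g → g ∈ S) : S = ⊤ := by
  have hf := h f hp
  have key : ∀ v, P.Perp e f v → (P.B v v / 2) • e ∈ S ∧ v ∈ S := by
    intro v hv
    have h1 := h _ (sie_pair hp hv)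
    have h2 := h _ (sie_pair hp (hv.smul (-1)))
    rw [sie_f hp hv] at h1
    rw [sie_f hp (hv.smul _), B_smul_left, B_smul_right] at h2
    constructor
    · have := S.smul_mem (2 : F)⁻¹ (sub_mem (S.smul_mem (2 : F) hf) (add_mem h1 h2))
      have h2' := P.two
      convert this using 1
      match_scalars <;> field_simp <;> ring
    · have := S.smul_mem (2 : F)⁻¹ (sub_mem h2 h1)
      have h2' := P.two
      convert this using 1
      match_scalars <;> field_simp <;> ring
  refine pair_span hp S ?_ hf fun v hv _ => (key v hv).2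
  obtain ⟨v, hv, hvv⟩ := exists_perp hp
  have hc : P.B v v / 2 ≠ 0 := div_ne_zero hvv P.two
  have := S.smul_mem (P.B v v / 2)⁻¹ (key v hv).1
  rwa [smul_smul, inv_mul_cancel₀ hc, one_smul] at this

/-- A singular vector seeing two given ones. -/
theorem exists_seeing' [Fintype F] {e w : γ → F} (he0 : e ≠ 0) (he : P.B e e = 0) (hw0 : w ≠ 0)
    (hw : P.B w w = 0) : ∃ f, P.B f f = 0 ∧ P.B f e ≠ 0 ∧ P.B f w ≠ 0 := by
  obtain ⟨f, hp⟩ := exists_partner' he0 he
  by_contra hh
  push Not at hh
  by_cases hew : P.B e w = 0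
  · have hfw : P.B f w = 0 := hh f hp.ff (by rw [hp.fe]; exact one_ne_zero)
    refine hw0 (P.T.eq_zero₁ fun z => ?_)
    have hS := seeing_span hp (LinearMap.ker (P.Bl w)) (fun g hg =>
        hh g hg.ff (by rw [hg.fe]; exact one_ne_zero))
    have := LinearMap.mem_ker.mp (hS ▸ Submodule.mem_top : z ∈ _)
    exact this
  · -- the third point of the conic
    obtain ⟨v, hv, hvv⟩ := exists_perp (show P.Pair e ((P.B e w)⁻¹ • w) from
      ⟨he, by rw [B_smul_left, B_smul_right, hw]; ring, by rw [B_smul_right, inv_mul_cancel₀ hew]⟩)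
    have hp' : P.Pair ((P.B e w)⁻¹ • w) e :=
      ⟨by rw [B_smul_left, B_smul_right, hw]; ring, he, by
        rw [B_smul_left, P.B_comm w e, inv_mul_cancel₀ hew]⟩
    have hg := sie_pair hp' hv.symm'
    have h1 := hh _ hg.ff (by
      rw [sie_f hp' hv.symm', B_sub_left, B_sub_left, he, hv.left', B_smul_left, hp'.ef]
      simpa using div_ne_zero hvv P.two)
    rw [sie_f hp' hv.symm', B_sub_left, B_sub_left, B_smul_left, B_smul_left, hw] at h1
    have hvw : P.B v w = 0 := by
      have := hv.right'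
      rw [B_smul_right] at this
      exact (mul_eq_zero.mp this).resolve_left (inv_ne_zero hew)
    rw [hvw] at h1
    exact hew (by linear_combination h1)

/-- The group generated by the root elements permutes the singular lines transitively. -/
theorem exists_move [Fintype F] {e w : γ → F} (he0 : e ≠ 0) (he : P.B e e = 0) (hw0 : w ≠ 0) (hw : P.B w w = 0) :
    ∃ h ∈ P.Grp, ∃ t : F, t ≠ 0 ∧ h *ᵥ e = t • w := by
  obtain ⟨f, hff, hfe, hfw⟩ := exists_seeing' he0 he hw0 hw
  set t := P.B f e / P.B f w with ht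
  set z := (P.B f e)⁻¹ • (e - t • w) with hz
  have hfz : P.B f z = 0 := by
    rw [hz, B_smul_right, B_sub_right, B_smul_right, ht, div_mul_cancel₀ _ hfw, sub_self, mul_zero]
  refine ⟨_, sie_mem hff hfz, t, div_ne_zero hfe hfw, ?_⟩
  have hsm : P.B f e • z = e - t • w := by rw [hz, smul_smul, mul_inv_cancel₀ hfe, one_smul]
  have hcoef : P.B z e = P.B z z / 2 * P.B f e := by
    have h2 := P.two
    simp only [hz, B_smul_left, B_smul_right, B_sub_left, B_sub_right, he, hw, P.B_comm w e]
    field_simp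
    ring
  rw [sie_apply, hsm, hcoef]
  abel

/-- The Levi group of a pair spans all maps of the complement. -/
def Full (P : Frm γ F) : Prop := Fintype.card γ ≠ 4 ∨ P.refl

/-- The projection on the complement of a pair. -/
def proj (P : Frm γ F) (e f : γ → F) : Matrix γ γ F := 1 - vecMulVec e (P.G *ᵥ f) - vecMulVec f (P.G *ᵥ e)

theorem proj_apply {e f : γ → F} (v : γ → F) : P.proj e f *ᵥ v = v - P.B f v • e - P.B e v • f := by
  rw [proj, sub_mulVec, sub_mulVec, one_mulVec, show vecMulVec e (P.G *ᵥ f) *ᵥ v = _ from P.T.B₁_vec e f v,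
    show vecMulVec f (P.G *ᵥ e) *ᵥ v = _ from P.T.B₁_vec f e v]

theorem proj_perp {e f : γ → F} (hp : P.Pair e f) (v : γ → F) : P.Perp e f (P.proj e f *ᵥ v) := by
  rw [proj_apply]
  constructor
  · rw [B_sub_right, B_sub_right, B_smul_right, B_smul_right, hp.ee, hp.ef]; ring
  · rw [B_sub_right, B_sub_right, B_smul_right, B_smul_right, hp.fe, hp.ff]; ring

theorem proj_fix {e f x : γ → F} (hx : P.Perp e f x) : P.proj e f *ᵥ x = x := by
  rw [proj_apply, hx.left, hx.right, zero_smul, zero_smul, sub_zero, sub_zero]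

set_option maxHeartbeats 1000000 in
theorem full_span [Fintype F] (hF : P.Full) {e f : γ → F} (hp : P.Pair e f) (S : Submodule F (Matrix γ γ F))
    (hS : ∀ ρ h, P.Levi e f ρ h → h * P.proj e f ∈ S) {u w : γ → F} (hu : P.Perp e f u) (hw : P.Perp e f w) :
    vecMulVec u (P.G *ᵥ w) ∈ S := by
  classical
  set π := P.proj e f with hπ
  set S₀ := Submodule.span F {m | ∃ ρ h, P.Levi e f ρ h ∧ m = h * π} with hS₀
  suffices vecMulVec u (P.G *ᵥ w) ∈ S₀ from (Submodule.span_le.mpr fun m hm => by
    obtain ⟨ρ, h, hl, rfl⟩ := hm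
    exact hS ρ h hl) this
  have hmul : ∀ a ∈ S₀, ∀ b ∈ S₀, a * b ∈ S₀ := by
    intro a ha
    induction ha using Submodule.span_induction with
    | mem a ha =>
      obtain ⟨ρ, h, hl, rfl⟩ := ha
      intro b hb
      induction hb using Submodule.span_induction with
      | mem b hb =>
        obtain ⟨ρ', h', hl', rfl⟩ := hb
        refine Submodule.subset_span ⟨_, h * h', hl.mul hl', ext fun x => ?_⟩
        simp only [← mulVec_mulVec]
        rw [hπ, proj_fix (hl'.perp (proj_perp hp x))]
      | zero => rw [mul_zero]; exact zero_mem _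
      | add x y _ _ hx hy => rw [mul_add]; exact add_mem hx hy
      | smul c x _ hx => rw [mul_smul_comm]; exact S₀.smul_mem c hx
    | zero => intro b _; rw [zero_mul]; exact zero_mem _
    | add x y _ _ hx hy => intro b hb; rw [add_mul]; exact add_mem (hx b hb) (hy b hb)
    | smul c x _ hx => intro b hb; rw [smul_mul_assoc]; exact S₀.smul_mem c (hx b hb)
  have hπE : ∀ v, P.Perp e f v → P.E v * π = P.E v := fun v hv => ext fun x => by
    rw [← mulVec_mulVec, E_mulVec, E_mulVec, hπ, proj_apply, B_sub_right, B_sub_right, B_smul_right, B_smul_right,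
      hv.left', hv.right', mul_zero, mul_zero, sub_zero, sub_zero]
  have hone : π ∈ S₀ := Submodule.subset_span ⟨1, 1, ⟨one_mem _, by rw [one_mulVec, one_smul],
    by rw [one_mulVec, inv_one, one_smul], one_ne_zero⟩, by rw [one_mul]⟩
  have htor : ∀ a b, P.Perp e f a → P.B a a ≠ 0 → P.Perp e f b → P.B b b ≠ 0 → P.B a b = 0 →
      (2 / P.B a a) • P.E a + (2 / P.B b b) • P.E b ∈ S₀ := by
    intro a b ha haa hb hbb hab
    have h1 : P.tor e f a b * π ∈ S₀ := Submodule.subset_span ⟨_, _, levi_tor hp ha haa hb hbb, rfl⟩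
    have e1 : P.tor e f a b * π = π - ((2 / P.B a a) • P.E a + (2 / P.B b b) • P.E b) := by
      refine ext fun x => ?_
      rw [← mulVec_mulVec, (tor_apply hp ha haa hb hbb).2.2 _ (proj_perp hp x), sub_mulVec, add_mulVec, smul_mulVec,
        smul_mulVec, E_mulVec, E_mulVec, B_sub_right, B_smul_right, hab, mul_zero, sub_zero]
      have e2 : ∀ c, P.Perp e f c → P.B c (π *ᵥ x) = P.B c x := fun c hc => by
        rw [hπ, proj_apply, B_sub_right, B_sub_right, B_smul_right, B_smul_right, hc.left', hc.right', mul_zero,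
          mul_zero, sub_zero, sub_zero]
      rw [e2 a ha, e2 b hb, smul_smul, smul_smul]
      abel
    have := sub_mem hone h1
    rwa [e1, sub_sub_cancel] at this
  by_cases h3 : Fintype.card γ = 3
  · -- a one-dimensional complement
    obtain ⟨v, hv, hvv⟩ := exists_perp hp
    have hline : ∀ x, P.Perp e f x → x = (P.B v x / P.B v v) • v := by
      intro x hx
      have hf3 : TensorOrth.Frame P.G e v f := ⟨hp.ee, hp.ff, hp.ef, hv.left, hv.right, hvv⟩
      have := hf3.expand ⟨P.symm, P.det, P.two, h3⟩ x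
      rwa [show f ⬝ᵥ P.G *ᵥ x = 0 from hx.right, show e ⬝ᵥ P.G *ᵥ x = 0 from hx.left, zero_smul, zero_smul,
        zero_add, add_zero] at this
    have e1 : vecMulVec u (P.G *ᵥ w) = (P.B v u / P.B v v * (P.B v w / P.B v v) * P.B v v) • π := by
      refine ext fun x => ?_
      rw [smul_mulVec, show vecMulVec u (P.G *ᵥ w) *ᵥ x = _ from P.T.B₁_vec u w x, hline _ (proj_perp hp x),
        smul_smul]
      conv_lhs => rw [hline u hu, hline w hw]
      show P.B _ x • _ = _
      rw [B_smul_left, smul_smul]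
      congr 1
      have hx : P.B v (π *ᵥ x) = P.B v x := by
        rw [hπ, proj_apply, B_sub_right, B_sub_right, B_smul_right, B_smul_right, hv.left', hv.right', mul_zero,
          mul_zero, sub_zero, sub_zero]
      rw [hx]
      field_simp
    rw [e1]
    exact S₀.smul_mem _ hone
  -- all rank one projections
  have hE : ∀ v, P.Perp e f v → P.B v v ≠ 0 → P.E v ∈ S₀ := by
    intro v hv hvv
    rcases Nat.lt_or_ge (Fintype.card γ) 5 with h5 | h5
    · have h4 : Fintype.card γ = 4 := by have := P.card; omega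
      have hr : P.refl := hF.resolve_left (not_not.mpr h4)
      have hl : P.Levi e f 1 (1 - (2 / P.B v v) • P.E v) :=
        ⟨Submonoid.subset_closure (Or.inr ⟨h4, hr, v, hvv, rfl⟩), by
          rw [refl_apply, hv.left', mul_zero, zero_smul, sub_zero, one_smul], by
          rw [refl_apply, hv.right', mul_zero, zero_smul, sub_zero, inv_one, one_smul], one_ne_zero⟩
      have h1 : (1 - (2 / P.B v v) • P.E v) * π ∈ S₀ := Submodule.subset_span ⟨_, _, hl, rfl⟩
      rw [Matrix.sub_mul, Matrix.one_mul, Matrix.smul_mul, hπE v hv] at h1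
      have := S₀.smul_mem (2 / P.B v v)⁻¹ (sub_mem hone h1)
      rwa [sub_sub_cancel, smul_smul, inv_mul_cancel₀ (div_ne_zero P.two hvv), one_smul] at this
    · obtain ⟨a, ha, hva, haa⟩ := exists_perp_orth hp hv hvv (by omega)
      obtain ⟨b, hb, hvb, hab, hbb⟩ := exists_perp_orth₂ hp hv hvv ha haa hva h5
      have h1 := sub_mem (add_mem (htor v a hv hvv ha haa hva) (htor v b hv hvv hb hbb hvb))
        (htor a b ha haa hb hbb hab)
      have := S₀.smul_mem ((2 / P.B v v) * 2)⁻¹ h1
      have h2 := P.two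
      convert this using 1
      match_scalars
      all_goals
        field_simp
        ring
  -- rank one maps
  have hM : ∀ a b, P.Perp e f a → P.B a a ≠ 0 → P.Perp e f b → P.B b b ≠ 0 → vecMulVec a (P.G *ᵥ b) ∈ S₀ := by
    intro a b ha haa hb hbb
    have hprod : ∀ c d, vecMulVec c (P.G *ᵥ c) * vecMulVec d (P.G *ᵥ d) = P.B c d • vecMulVec c (P.G *ᵥ d) :=
      fun c d => ext fun x => by
        rw [← mulVec_mulVec, show vecMulVec d (P.G *ᵥ d) *ᵥ x = _ from P.T.B₁_vec d d x, mulVec_smul,
          show vecMulVec c (P.G *ᵥ c) *ᵥ d = _ from P.T.B₁_vec c c d, smul_mulVec,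
          show vecMulVec c (P.G *ᵥ d) *ᵥ x = _ from P.T.B₁_vec c d x, smul_comm]
    by_cases hab : P.B a b ≠ 0
    · have := S₀.smul_mem (P.B a b)⁻¹ (hmul _ (hE a ha haa) _ (hE b hb hbb))
      rwa [E, E, hprod, smul_smul, inv_mul_cancel₀ hab, one_smul] at this
    push Not at hab
    obtain ⟨c, hc, hcc, hac, hcb⟩ : ∃ c, P.Perp e f c ∧ P.B c c ≠ 0 ∧ P.B a c ≠ 0 ∧ P.B c b ≠ 0 := by
      have hba : P.B b a = 0 := by rw [B_comm]; exact hab
      by_cases h1 : P.B (a + b) (a + b) ≠ 0
      · exact ⟨a + b, ha.add hb, h1, by rw [B_add_right, hab, add_zero]; exact haa,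
          by rw [B_add_left, hab, zero_add]; exact hbb⟩
      push Not at h1
      rcases Nat.lt_or_ge (Fintype.card γ) 5 with h5 | h5
      · exfalso
        refine haa ?_
        have h0 := small' hp (ha.add hb) (by have := P.card; omega) h1
        have := congrArg (P.B a) h0
        rwa [B_add_right, hab, add_zero, B_zero_right] at this
      obtain ⟨d, hd, had, hbd, hdd⟩ := exists_perp_orth₂ hp ha haa hb hbb hab h5
      have hda : P.B d a = 0 := by rw [B_comm]; exact had
      have hdb : P.B d b = 0 := by rw [B_comm]; exact hbd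
      refine ⟨a + b + d, (ha.add hb).add hd, ?_, (by rw [B_add_right, B_add_right, hab, had, add_zero, add_zero]; exact haa),
        (by rw [B_add_left, B_add_left, hab, hdb, zero_add, add_zero]; exact hbb)⟩
      rw [B_add_left, B_add_right, h1, B_add_left, B_add_right, B_add_right, had, hbd, hda, hdb]
      simpa using hdd
    have := S₀.smul_mem (P.B a c * P.B c b)⁻¹ (hmul _ (hmul _ (hE a ha haa) _ (hE c hc hcc)) _ (hE b hb hbb))
    have e2 : P.E a * P.E c * P.E b = (P.B a c * P.B c b) • vecMulVec a (P.G *ᵥ b) := ext fun x => by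
      simp only [← mulVec_mulVec, E_mulVec, mulVec_smul, smul_mulVec, smul_smul,
        show vecMulVec a (P.G *ᵥ b) *ᵥ x = _ from P.T.B₁_vec a b x]
      congr 1
      ring
    rwa [e2, smul_smul, inv_mul_cancel₀ (mul_ne_zero hac hcb), one_smul] at this
  have hM' : ∀ a, P.Perp e f a → P.B a a ≠ 0 → vecMulVec a (P.G *ᵥ w) ∈ S₀ := fun a ha haa =>
    perp_span hp { carrier := {b | vecMulVec a (P.G *ᵥ b) ∈ S₀}
                   add_mem' := fun h h' => by simpa [mulVec_add, vecMulVec_add] using add_mem h h'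
                   zero_mem' := by simp [vecMulVec_zero]
                   smul_mem' := fun c b h => by simpa [mulVec_smul, vecMulVec_smul] using S₀.smul_mem c h }
      (fun b hb hbb => hM a b ha haa hb hbb) hw
  exact perp_span hp { carrier := {a | vecMulVec a (P.G *ᵥ w) ∈ S₀}
                       add_mem' := fun h h' => by simpa [add_vecMulVec] using add_mem h h'
                       zero_mem' := by simp [zero_vecMulVec]
                       smul_mem' := fun c b h => by simpa [smul_vecMulVec] using S₀.smul_mem c h }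
    hM' hu

end Frm

end Cfsg.Lib.Classical.OrthPow
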