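import Cfsg.Agent.Classical.OrthPow.Mono

/-!
# A monomial with one skew factor and rank one factors everywhere else
-/

set_option autoImplicit false
set_option linter.unusedSectionVars false
set_option linter.unusedSimpArgs false
set_option linter.style.haveILetI false

namespace Cfsg.Lib.Classical.OrthPow

open Matrix Finset
open scoped Kronecker MatrixGroups
open Cfsg.Lib.Classical.TensorOrth (sie)
open Cfsg.Lib.Classical.TensorPowLin (Rest tens tens_mul tens_one slot slot_mul slot_one slot_smul slot_comm In)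

universe u

variable {τ γ : Type} [Fintype τ] [DecidableEq τ] [Fintype γ] [DecidableEq γ] {F : Type u} [Field F]

theorem co2_tens (l : τ) (N M : Matrix γ γ F) (u : τ → Matrix γ γ F) :
    co2 (slot l N) (slot l M) (tens u) = tens (Function.update u l (co2 N M (u l))) := by
  have e1 : slot l M * tens u = tens (Function.update u l (M * u l)) := by
    simpa [slot_one] using slot_sandwich u l M 1
  have e2 : tens u * slot l M = tens (Function.update u l (u l * M)) := by
    simpa [slot_one] using slot_sandwich u l 1 M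
  have e3 : ∀ x y : Matrix γ γ F, tens (Function.update u l x) + tens (Function.update u l y) =
      tens (Function.update u l (x + y)) := fun x y => by
    rw [eq_comm, ← sub_eq_iff_eq_add, tens_update_sub, add_sub_cancel_right]
  rw [co2, co2, e1, e2, slot_sandwich, e3, tens_update_sub]

namespace Frm

variable {P : Frm γ F}

theorem EK.sq {x : Matrix γ γ F} (h : P.EK x) : x * x = 0 := by
  obtain ⟨e, -, he, rfl⟩ := h
  exact (wedge_E he he).2.2

theorem EK.ne_one {x : Matrix γ γ F} (h : P.EK x) : x ≠ 1 := fun h1 => by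
  haveI := nonempty P
  have := h.sq
  rw [h1, one_mul] at this
  exact one_ne_zero this

theorem E_mul_wedge {e f v : γ → F} (hp : P.Pair e f) (hv : P.Perp e f v) :
    P.wedge e v * P.wedge f v - P.wedge f v * P.wedge e v = -(P.B v v) • P.wedge e f := by
  refine ext fun x => ?_
  simp only [sub_mulVec, smul_mulVec, ← mulVec_mulVec, wedge_mulVec, B_sub_right, B_smul_right, hp.fe, hp.ef,
    hv.left, hv.right, hv.left', hv.right', smul_smul]
  match_scalars <;> ring

variable [Fintype F]

/-- The partner of one slot of a monomial. -/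
structure Other (P : Frm γ F) (x h q y : Matrix γ γ F) (r : F) : Prop where
  mem : h ∈ P.Grp
  qok : q = 1 ∨ ∃ g f, P.Pair g f ∧ q = P.E g
  yok : y = 1 ∨ P.EK y
  r0 : r ≠ 0
  left : q * (x * (h * x * P.adj h)) * q = r • y
  right : q * ((h * x * P.adj h) * x) * q = r • y
  ofA : P.AK x → h = 1 ∧ q = 1 ∧ x * x * x = 0 ∧ ∃ e, e ≠ 0 ∧ P.B e e = 0 ∧ x * x = r • P.E e
  ofE : P.EK x → (h * x * P.adj h) * (h * x * P.adj h) = 0 ∧ P.EK y

theorem exists_other {x : Matrix γ γ F} (hx : P.Fac x) : ∃ h q y r, P.Other x h q y r := by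
  have a1 : P.adj (1 : Matrix γ γ F) = 1 := P.T.adjU_one
  cases hx with
  | one =>
    exact ⟨1, 1, 1, 1, one_mem _, Or.inl rfl, Or.inl rfl, one_ne_zero, by simp [a1], by simp [a1],
      fun h => absurd h (not_ak (Or.inl rfl)), fun h => absurd rfl h.ne_one⟩
  | @E e h0 he =>
    obtain ⟨f, hp⟩ := exists_partner' h0 he
    obtain ⟨z, hz, hzz⟩ := exists_perp hp
    have hg := sie_pair hp hz
    set g := sie P.G e z *ᵥ f with hgdef
    have hfg : P.B f g = -(P.B z z / 2) := by
      rw [hgdef, sie_f hp hz, B_sub_right, B_sub_right, B_smul_right, hp.ff, hz.right, hp.fe]; ring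
    set s : F := (2 / P.B z z) * (2 / P.B z z) with hs
    have hx' : P.weyl e f z * P.E e * P.adj (P.weyl e f z) = s • P.E f := by
      rw [conj_E, (weyl_apply hp hz hzz).1, P.E_smul, hs, neg_mul_neg]
    have hs0 : s ≠ 0 := mul_ne_zero (div_ne_zero P.two hzz) (div_ne_zero P.two hzz)
    refine ⟨P.weyl e f z, P.E g, P.E g, s * -(P.B z z / 2), weyl_mem hp hz, Or.inr ⟨g, e, hg.symm', rfl⟩,
      Or.inr ⟨g, hg.symm'.ne, hg.ff, rfl⟩, mul_ne_zero hs0 (neg_ne_zero.mpr (div_ne_zero hzz P.two)), ?_, ?_,
      fun h => absurd h (not_ak (Or.inr ⟨e, h0, he, rfl⟩)), fun _ => ⟨?_, g, hg.symm'.ne, hg.ff, rfl⟩⟩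
    · rw [hx', mul_smul_comm, mul_smul_comm, smul_mul_assoc, E_mul_E, smul_smul]
      congr 2
      simp only [← mulVec_mulVec, E_mulVec, mulVec_smul, B_smul_right, hp.ef, hfg, hg.fe]
      ring
    · rw [hx', smul_mul_assoc, mul_smul_comm, smul_mul_assoc, E_mul_E, smul_smul]
      congr 2
      simp only [← mulVec_mulVec, E_mulVec, mulVec_smul, B_smul_right, hp.fe, P.B_comm g f, hfg, hg.ef]
      ring
    · rw [hx', smul_mul_smul_comm, (wedge_E hp.ff hp.ff).2.2, smul_zero]
  | @A e f v hp hv hvv =>
    refine ⟨1, 1, P.E e, -(P.B v v), one_mem _, Or.inl rfl, Or.inr ⟨e, hp.ne, hp.ee, rfl⟩, neg_ne_zero.mpr hvv,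
      by simp [a1, wedge_sq hp.ee hv.left], by simp [a1, wedge_sq hp.ee hv.left], fun _ => ⟨rfl, rfl, ?_, e, hp.ne,
      hp.ee, wedge_sq hp.ee hv.left⟩, fun h => absurd ⟨e, f, v, hp, hv, hvv, rfl⟩ (not_ak (Or.inr h))⟩
    rw [wedge_sq hp.ee hv.left, smul_mul_assoc, (wedge_E hp.ee hv.left).2.1, smul_zero]

variable {X : Subgroup (GL (τ → γ) F)}

/-- A monomial with a single skew factor. -/
structure Single (P : Frm γ F) (X : Subgroup (GL (τ → γ) F)) (c : F) (f : τ → Matrix γ γ F) (a : τ) : Prop
    extends P.Mono X c f where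
  ak : P.AK (f a)
  rest : ∀ l, l ≠ a → f l = 1 ∨ P.EK (f l)

theorem dag_conj_tens (h : τ → Matrix γ γ F) {c : F} {f : τ → Matrix γ γ F}
    (hf : P.dag (c • tens f) = -(c • tens f)) :
    P.dag (c • tens fun l => h l * f l * P.adj (h l)) = -(c • tens fun l => h l * f l * P.adj (h l)) := by
  have e : c • (tens fun l => h l * f l * P.adj (h l)) = tens h * (c • tens f) * P.dag (tens h) := by
    rw [dag_tens, mul_smul_comm, smul_mul_assoc, tens_mul, tens_mul]
    rfl
  rw [e, P.dag_mul, P.dag_mul, P.dag_dag, hf, neg_mul, mul_neg, mul_assoc]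

namespace Hyp

variable (hX : P.Hyp X)
include hX

set_option maxHeartbeats 1000000 in
theorem exists_single {c : F} {f : τ → Matrix γ γ F} (hm : P.Mono X c f) :
    ∃ c' g a, P.Single X c' g a := by
  obtain ⟨a, ha⟩ := hm.exists_ak
  by_cases hone : ∀ l, l ≠ a → ¬ P.AK (f l)
  · exact ⟨c, f, a, hm, ha, fun l hl => (hm.fac l).cases.elim Or.inl fun h => h.elim Or.inr
      fun h => absurd h (hone l hl)⟩
  push Not at hone
  obtain ⟨b, hba, hb⟩ := hone
  choose h q y r hd using fun l => exists_other (hm.fac l)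
  obtain ⟨i, hi⟩ := hm.hasE
  have hia : i ≠ a := fun e => not_ak (Or.inr hi) (e ▸ ha)
  obtain ⟨e, e', v, hp, hv, hvv, hfa⟩ := ha
  obtain ⟨hb1, hq1, hb3, eb, heb0, heb, hbsq⟩ := (hd b).ofA hb
  set H := Function.update h a (P.weyl e e' v) with hH
  have hHm : ∀ l, H l ∈ P.Grp := fun l => by
    by_cases hl : l = a
    · subst hl; rw [hH, Function.update_self]; exact weyl_mem hp hv
    · rw [hH, Function.update_of_ne hl]; exact (hd l).mem
  set f' := fun l => H l * f l * P.adj (H l) with hf'
  have hf'ne : ∀ l, l ≠ a → f' l = h l * f l * P.adj (h l) := fun l hl => by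
    simp only [hf', hH, Function.update_of_ne hl]
  have hf'b : f' b = f b := by rw [hf'ne b hba, hb1]; simp [Frm.adj, P.T.adjU_one]
  have hf'a : f' a = (2 / P.B v v) • P.wedge e' v := by
    obtain ⟨we, -, wx⟩ := weyl_apply hp hv hvv
    simp only [hf', hH, Function.update_self, hfa]
    rw [conj_wedge, we, wx v hv, div_mul_cancel₀ _ hvv, two_smul, sub_add_cancel_left, ← neg_one_smul F v, wedge,
      P.T.wedge_smul_left, P.T.wedge_smul_right, smul_smul]
    congr 1
    ring
  have hi' := (hd i).ofE hi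
  set Q := Function.update q a 1 with hQ
  set Y := Function.update y b 1 with hY
  obtain ⟨k, hk, hin⟩ := hX.step (a := a) (b := b) hba.symm heb heb0 hm.c0 hm.c0 (f := f) (f' := f') (q := Q) (y := Y)
    (r := r) (fun l _ => (hd l).r0) hm.mem (hX.mono_conj H hHm hm.mem) hm.skew (dag_conj_tens H hm.skew)
    ⟨i, hi.sq⟩ ⟨i, by rw [hf'ne i hia]; exact hi'.1⟩ ⟨b, by rw [hf'b]; exact hb3⟩ ⟨b, by rw [hf'b]; exact hb3⟩
    (fun l => by
      by_cases hl : l = a
      · subst hl; rw [hQ, Function.update_self]; exact Or.inl rfl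
      · rw [hQ, Function.update_of_ne hl]; exact (hd l).qok)
    (by rw [hQ, Function.update_of_ne hba]; exact hq1) (by rw [hY, Function.update_self])
    (by rw [hf'b]; exact hbsq) (by rw [hf'b]; exact hbsq)
    (fun l hla hlb => by rw [hQ, hY, Function.update_of_ne hla, Function.update_of_ne hlb, hf'ne l hla]; exact (hd l).left)
    (fun l hla hlb => by rw [hQ, hY, Function.update_of_ne hla, Function.update_of_ne hlb, hf'ne l hla]; exact (hd l).right)
  have hK : Q a * (f a * f' a - f' a * f a) * Q a = (-2 : F) • P.wedge e e' := by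
    rw [hQ, Function.update_self, one_mul, mul_one, hf'a, hfa, mul_smul_comm, smul_mul_assoc, ← smul_sub,
      E_mul_wedge hp hv, smul_smul]
    congr 1
    field_simp
  rw [hK] at hin
  -- the middle coefficient
  have hg := (sie_pair hp hv).symm'
  set g := sie P.G e v *ᵥ e' with hgdef
  set v' := v + P.B v v • e with hv'
  have hge : g = e' - v - (P.B v v / 2) • e := sie_f hp hv
  have hvp : P.Perp g e v' := by
    constructor
    · rw [hge, hv']
      simp only [B_sub_left, B_add_right, B_smul_left, B_smul_right, hp.fe, hp.ee, hv.left, hv.left', hv.right]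
      ring
    · rw [hv', B_add_right, B_smul_right, hv.left, hp.ee]; ring
  have hQv : P.B v' v' = P.B v v := by
    rw [hv']
    simp only [B_add_left, B_add_right, B_smul_left, B_smul_right, hp.ee, hv.left, hv.left']
    ring
  have hsk : P.adj ((-2 : F) • P.wedge e e') = -((-2 : F) • P.wedge e e') := by
    rw [Frm.adj, P.T.adjU_smul, ← Frm.adj, adj_wedge, smul_neg]
  have hco : co2 (P.wedge g v') (-(P.B v' v' / 2) • P.E g) ((-2 : F) • P.wedge e e') =
      (-(P.B v v)) • P.wedge g v' := by
    rw [co2_skew hg hvp hsk, ← wedge_smul g v']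
    congr 1
    have h2 := P.two
    simp only [hQv, smul_mulVec, wedge_mulVec, hge, hv', proj_apply, B_add_left, B_add_right, B_sub_left, B_sub_right,
      B_smul_left, B_smul_right, hp.ee, hp.ff, hp.ef, hp.fe, hv.left, hv.left', hv.right, hv.right', mulVec_add,
      mulVec_smul]
    match_scalars <;> field_simp <;> ring
  have hcen := (hX.cen_inv hba heb heb0).co2_mem hg.ee hvp.left hin (by
    rw [slotHom_apply, mul_smul_comm, smul_mul_assoc, slot_sandwich, Function.update_idem, Function.update_self,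
      mul_smul_comm, smul_mul_assoc, E_mul_E, show P.B g (P.wedge e e' *ᵥ g) = 0 by
        rw [wedge_mulVec, B_sub_right, B_smul_right, B_smul_right, P.B_comm g e, P.B_comm g e']; ring,
      zero_smul, smul_zero, tens_eq_zero _ a (by rw [Function.update_self]), smul_zero])
  rw [slotHom_apply, slotHom_apply, ← slot_smul] at hcen
  have hlin : ∀ (n m x : Matrix (τ → γ) (τ → γ) F), co2 n m (k • x) = k • co2 n m x := fun n m x => by
    simp only [co2, mul_smul_comm, smul_mul_assoc, smul_add, smul_sub]
  rw [hlin, co2_tens, Function.update_self, Function.update_idem, hco, tens_update_smul', smul_smul] at hcen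
  have hgood : ∀ l, l ≠ a → Y l = 1 ∨ P.EK (Y l) := fun l hl => by
    by_cases hlb : l = b
    · subst hlb; rw [hY, Function.update_self]; exact Or.inl rfl
    · rw [hY, Function.update_of_ne hlb]; exact (hd l).yok
  refine ⟨k * -P.B v v, _, a, hX.mono_of_cen heb heb0 (mul_ne_zero hk (neg_ne_zero.mpr hvv)) ?_ ?_ hcen, ?_,
    fun l hl => ?_⟩
  · rw [Function.update_of_ne hba, hY, Function.update_self]
  · intro l
    by_cases hl : l = a
    · subst hl; rw [Function.update_self]; exact Fac.A hg hvp (by rw [hQv]; exact hvv)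
    · rw [Function.update_of_ne hl]
      exact (hgood l hl).elim (fun h => h ▸ Fac.one) EK.fac
  · rw [Function.update_of_ne hba.symm, Function.update_self]
    exact ⟨g, e, v', hg, hvp, by rw [hQv]; exact hvv, rfl⟩
  · by_cases hlb : l = b
    · subst hlb; rw [Function.update_self]; exact Or.inr ⟨eb, heb0, heb, rfl⟩
    · rw [Function.update_of_ne hlb, Function.update_of_ne hl]; exact hgood l hl

set_option maxHeartbeats 1000000 in
theorem grow {c : F} {f : τ → Matrix γ γ F} {a s : τ} (hm : P.Single X c f a) (hs : f s = 1) :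
    ∃ c' g a', P.Single X c' g a' ∧ ∀ l, g l = 1 → f l = 1 ∧ l ≠ s := by
  haveI := nonempty P
  obtain ⟨m, hmE⟩ := hm.hasE
  have hma : m ≠ a := fun e => not_ak (Or.inr hmE) (e ▸ hm.ak)
  have hsa : s ≠ a := fun e => not_ak (Or.inl hs) (e ▸ hm.ak)
  have hms : m ≠ s := fun e => hmE.ne_one (e ▸ hs)
  choose h q y r hd using fun l => exists_other (hm.fac l)
  obtain ⟨e, e', v, hp, hv, hvv, hfa⟩ := hm.ak
  obtain ⟨em, hem0, hem, hfm⟩ := hmE
  obtain ⟨ha', hha', t, ht, hmove⟩ := exists_move hem0 hem hp.symm'.ne hp.ff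
  set σ := Equiv.swap m a * Equiv.swap a s with hσ
  have σm : σ.symm a = m := by
    rw [Equiv.symm_apply_eq, hσ, Equiv.Perm.mul_apply, Equiv.swap_apply_of_ne_of_ne hma hms,
      Equiv.swap_apply_left]
  have σs : σ.symm s = a := by
    rw [Equiv.symm_apply_eq, hσ, Equiv.Perm.mul_apply, Equiv.swap_apply_left,
      Equiv.swap_apply_of_ne_of_ne hms.symm hsa]
  have σ1 : σ.symm m = s := by
    rw [Equiv.symm_apply_eq, hσ, Equiv.Perm.mul_apply, Equiv.swap_apply_right, Equiv.swap_apply_right]
  have σo : ∀ l, l ≠ a → l ≠ m → l ≠ s → σ.symm l = l := fun l h1 h2 h3 => by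
    rw [Equiv.symm_apply_eq, hσ, Equiv.Perm.mul_apply, Equiv.swap_apply_of_ne_of_ne h1 h3,
      Equiv.swap_apply_of_ne_of_ne h2 h1]
  set H := fun l => if l = a then ha' else if l = m ∨ l = s then 1 else h l with hH
  have hHm : ∀ l, H l ∈ P.Grp := fun l => by
    simp only [hH]
    split_ifs
    · exact hha'
    · exact one_mem _
    · exact (hd l).mem
  set f' := fun l => H l * f (σ.symm l) * P.adj (H l) with hf'
  have a1 : P.adj (1 : Matrix γ γ F) = 1 := P.T.adjU_one
  have fa' : f' a = (t * t) • P.E e' := by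
    simp only [hf', hH, if_pos, σm, hfm]
    rw [conj_E, hmove, P.E_smul]
  have fs' : f' s = f a := by simp [hf', hH, hsa, σs, a1]
  have fm' : f' m = 1 := by simp [hf', hH, hma, σ1, hs, a1]
  have fo' : ∀ l, l ≠ a → l ≠ m → l ≠ s → f' l = h l * f l * P.adj (h l) := fun l h1 h2 h3 => by
    simp [hf', hH, h1, h2, h3, σo l h1 h2 h3]
  have hg := (sie_pair hp hv).symm'
  set g := sie P.G e v *ᵥ e' with hgdef
  have hge : g = e' - v - (P.B v v / 2) • e := sie_f hp hv
  set Q := fun l => if l = a then P.E g else if l = m ∨ l = s then 1 else q l with hQ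
  set Y := fun l => if l = m then 1 else if l = s then f a else y l with hY
  set R := fun l => if l = m ∨ l = s then 1 else r l with hR
  have hperm := hX.mono_perm hma hsa.symm hms hm.mem
  have hsk' : P.dag (c • tens fun l => f (σ.symm l)) = -(c • tens fun l => f (σ.symm l)) := by
    have e0 : (c • tens fun l => f (σ.symm l)) =
        TensorPowLin.perm σ * (c • tens f) * P.dag (TensorPowLin.perm σ) := by
      rw [P.dag_perm, mul_smul_comm, smul_mul_assoc, TensorPowLin.perm_tens, mul_assoc, TensorPowLin.perm_mul,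
        mul_inv_cancel, TensorPowLin.perm_one, mul_one]
    rw [e0, P.dag_mul, P.dag_mul, P.dag_dag, hm.skew, neg_mul, mul_neg, mul_assoc]
  obtain ⟨k, hk, hin⟩ := hX.step (a := a) (b := m) hma.symm hem hem0 hm.c0 hm.c0 (f := f) (f' := f') (q := Q) (y := Y)
    (r := R) (fun l _ => by
      simp only [hR]
      split_ifs
      · exact one_ne_zero
      · exact (hd l).r0)
    hm.mem (hX.mono_conj H hHm hperm) hm.skew (dag_conj_tens H hsk')
    ⟨m, by rw [hfm]; exact (wedge_E hem hem).2.2⟩
    ⟨a, by rw [fa', smul_mul_smul_comm, (wedge_E hp.ff hp.ff).2.2, smul_zero]⟩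
    ⟨m, by rw [fm', hfm, mul_one]; exact (wedge_E hem hem).2.2⟩
    ⟨a, by
      rw [fa', smul_mul_assoc, smul_mul_assoc, mul_smul_comm, smul_smul, E_mul_E, hfa,
        show P.B e' (P.wedge e v *ᵥ e') = 0 by
          rw [wedge_mulVec, B_sub_right, B_smul_right, B_smul_right, hv.right, hv.right']; ring,
        zero_smul, smul_zero]⟩
    (fun l => by
      simp only [hQ]
      split_ifs
      · exact Or.inr ⟨g, e, hg, rfl⟩
      · exact Or.inl rfl
      · exact (hd l).qok)
    (by simp [hQ, hma]) (by simp [hY])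
    (by simp [hR, fm', hfm]) (by simp [hR, fm', hfm])
    (fun l h1 h2 => by
      by_cases h3 : l = s
      · subst h3; simp [hQ, hR, hY, h1, h2, fs', hs]
      · simp only [hQ, hR, hY, h1, h2, h3, if_false, or_self, fo' l h1 h2 h3]; exact (hd l).left)
    (fun l h1 h2 => by
      by_cases h3 : l = s
      · subst h3; simp [hQ, hR, hY, h1, h2, fs', hs]
      · simp only [hQ, hR, hY, h1, h2, h3, if_false, or_self, fo' l h1 h2 h3]; exact (hd l).right)
  have hK : Q a * (f a * f' a - f' a * f a) * Q a = (-(t * t * (P.B v v * P.B v v))) • P.E g := by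
    have hQa : Q a = P.E g := by simp [hQ]
    rw [hQa, fa', hfa, E_mul_E]
    congr 1
    have h2 := P.two
    simp only [sub_mulVec, ← mulVec_mulVec, smul_mulVec, E_mulVec, wedge_mulVec, mulVec_smul, mulVec_sub, hge,
      B_sub_left, B_sub_right, B_smul_left, B_smul_right, hp.ee, hp.ff, hp.ef, hp.fe, hv.left, hv.left', hv.right,
      hv.right', smul_smul]
    field_simp
    ring
  rw [hK, tens_update_smul', smul_smul] at hin
  have hmono := hX.mono_of_cen hem hem0
    (mul_ne_zero hk (neg_ne_zero.mpr (mul_ne_zero (mul_ne_zero ht ht) (mul_ne_zero hvv hvv))))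
    (g := Function.update Y a (P.E g)) (by rw [Function.update_of_ne hma]; simp [hY]) (fun l => by
      by_cases h1 : l = a
      · subst h1; rw [Function.update_self]; exact Fac.E hg.ne hg.ee
      · rw [Function.update_of_ne h1]
        simp only [hY]
        split_ifs
        · exact Fac.one
        · exact hm.fac a
        · exact (hd l).yok.elim (fun h => h ▸ Fac.one) EK.fac) hin
  refine ⟨_, _, s, ⟨hmono, ?_, fun l hl => ?_⟩, fun l hl => ?_⟩
  · rw [Function.update_of_ne hms.symm, Function.update_of_ne hsa]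
    simp only [hY, if_neg hms.symm, if_pos]
    exact hm.ak
  · by_cases h2 : l = m
    · subst h2; rw [Function.update_self]; exact Or.inr ⟨em, hem0, hem, rfl⟩
    · rw [Function.update_of_ne h2]
      by_cases h1 : l = a
      · subst h1; rw [Function.update_self]; exact Or.inr ⟨g, hg.ne, hg.ee, rfl⟩
      · rw [Function.update_of_ne h1]
        simp only [hY, if_neg h2, if_neg hl]
        exact (hd l).yok
  · by_cases h2 : l = m
    · subst h2; rw [Function.update_self] at hl; exact absurd hl (EK.ne_one ⟨em, hem0, hem, rfl⟩)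
    rw [Function.update_of_ne h2] at hl
    by_cases h1 : l = a
    · subst h1; rw [Function.update_self] at hl; exact absurd hl (EK.ne_one ⟨g, hg.ne, hg.ee, rfl⟩)
    rw [Function.update_of_ne h1] at hl
    simp only [hY, if_neg h2] at hl
    by_cases h3 : l = s
    · subst h3
      rw [if_pos rfl] at hl
      exact absurd (hl ▸ hm.ak) (not_ak (Or.inl rfl))
    rw [if_neg h3] at hl
    refine ⟨(hm.rest l h1).resolve_right fun hE => ?_, h3⟩
    exact ((hd l).ofE hE).2.ne_one hl

/-- A monomial with one skew factor and rank one factors everywhere else. -/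
theorem exists_full {c : F} {f : τ → Matrix γ γ F} (hm : P.Mono X c f) :
    ∃ c' g a, P.Single X c' g a ∧ ∀ l, l ≠ a → P.EK (g l) := by
  classical
  suffices key : ∀ n : ℕ, ∀ c f a, P.Single X c f a → (Finset.univ.filter fun l => f l = 1).card = n →
      ∃ c' g a', P.Single X c' g a' ∧ ∀ l, l ≠ a' → P.EK (g l) by
    obtain ⟨c', g, a, h⟩ := hX.exists_single hm
    exact key _ c' g a h rfl
  intro n
  induction n using Nat.strong_induction_on with
  | h n ih =>
    intro c f a h hn
    by_cases hall : ∀ l, f l ≠ 1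
    · exact ⟨c, f, a, h, fun l hl => (h.rest l hl).resolve_left (hall l)⟩
    push Not at hall
    obtain ⟨s, hs⟩ := hall
    obtain ⟨c', g, a', hg, hlt⟩ := hX.grow h hs
    refine ih _ ?_ c' g a' hg rfl
    rw [← hn]
    refine Finset.card_lt_card (Finset.ssubset_iff_of_subset (fun l hl => ?_) |>.mpr ⟨s, by simp [hs], fun hs' => ?_⟩)
    · exact Finset.mem_filter.mpr ⟨Finset.mem_univ l, (hlt l (Finset.mem_filter.mp hl).2).1⟩
    · exact (hlt s (Finset.mem_filter.mp hs').2).2 rfl

end Hyp

end Frm

end Cfsg.Lib.Classical.OrthPow
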