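import Cfsg.Agent.Classical.OrthPow.Ops
import Cfsg.Agent.Classical.TensorPowLin.Avg
import Cfsg.Agent.Classical.TensorPowLin.Wreath

/-!
# The tensor power: the form, components at one slot, the hypothesis on the group, central elements
-/

set_option autoImplicit false
set_option linter.unusedSectionVars false
set_option linter.unusedSimpArgs false
set_option linter.style.haveILetI false

namespace Cfsg.Lib.Classical.OrthPow

open Matrix Finset
open scoped Kronecker MatrixGroups
open Cfsg.Lib.Classical.TensorOrth (TForm)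
open Cfsg.Lib.Classical.TensorPowLin (Rest toBig toBig_apply tens tens_apply tens_mul tens_one slot slot_eq slot_add
  slot_sub slot_smul slot_zero slot_neg slot_one slot_mul slot_sum slot_comm outer outer_comm outer_mul_slot In conjM
  conjM_apply perm perm_transpose perm_tens perm_mul perm_one perm_slot)

universe u

variable {τ γ : Type} [Fintype τ] [DecidableEq τ] [Fintype γ] [DecidableEq γ] {F : Type u} [Field F]

theorem tens_transpose (f : τ → Matrix γ γ F) : (tens f)ᵀ = tens fun l => (f l)ᵀ := rfl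

theorem tens_update_smul (f : τ → Matrix γ γ F) (l : τ) (c : F) :
    tens (Function.update f l (c • f l)) = c • tens f := by
  ext x y
  rw [Matrix.smul_apply, tens_apply, tens_apply, smul_eq_mul,
    ← Finset.mul_prod_erase _ _ (Finset.mem_univ l), ← Finset.mul_prod_erase _ (fun i => f i (x i) (y i))
      (Finset.mem_univ l), Function.update_self, Matrix.smul_apply, smul_eq_mul, mul_assoc]
  congr 2
  exact Finset.prod_congr rfl fun j hj => by rw [Function.update_of_ne (Finset.ne_of_mem_erase hj)]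

theorem tens_smul (f : τ → Matrix γ γ F) (c : τ → F) : tens (fun l => c l • f l) = (∏ l, c l) • tens f := by
  ext x y
  simp [tens_apply, Finset.prod_mul_distrib]

theorem tens_eq_zero (f : τ → Matrix γ γ F) (l : τ) (h : f l = 0) : tens f = 0 := by
  ext x y
  rw [tens_apply, Finset.prod_eq_zero (Finset.mem_univ l) (by rw [h]; rfl), Matrix.zero_apply]

theorem tens_ne_zero {f : τ → Matrix γ γ F} (h : ∀ l, f l ≠ 0) : tens f ≠ 0 := by
  have h' : ∀ l, ∃ a b, f l a b ≠ 0 := fun l => by
    by_contra hh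
    push Not at hh
    exact h l (Matrix.ext hh)
  choose a b hab using h'
  intro h0
  have := congrFun (congrFun h0 a) b
  rw [tens_apply, Matrix.zero_apply, Finset.prod_eq_zero_iff] at this
  obtain ⟨l, -, hl⟩ := this
  exact hab l hl

/-- A slot as a map of algebras. -/
def slotHom (i : τ) : Matrix γ γ F →ₐ[F] Matrix (τ → γ) (τ → γ) F :=
  AlgHom.ofLinearMap
    { toFun := slot i, map_add' := slot_add i, map_smul' := fun c A => slot_smul i c A } (slot_one i) (slot_mul i)

theorem slotHom_apply (i : τ) (A : Matrix γ γ F) : slotHom i A = slot i A := rfl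

/-- A component at a slot. -/
def comp (l : τ) (x y : Rest l → γ) : Matrix (τ → γ) (τ → γ) F →ₗ[F] Matrix γ γ F where
  toFun M := Matrix.of fun a b => (toBig (F := F) (γ := γ) l).symm M (x, a) (y, b)
  map_add' M N := by ext a b; simp [map_add]
  map_smul' c M := by ext a b; simp [map_smul]

section comp

variable {l : τ}

theorem comp_ext {M N : Matrix (τ → γ) (τ → γ) F} (h : ∀ x y, comp l x y M = comp l x y N) : M = N := by
  refine (toBig (F := F) (γ := γ) l).symm.injective ?_
  ext ⟨x, a⟩ ⟨y, b⟩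
  exact congrFun (congrFun (h x y) a) b

theorem comp_slot_mul (x y : Rest l → γ) (A : Matrix γ γ F) (M : Matrix (τ → γ) (τ → γ) F) :
    comp l x y (slot l A * M) = A * comp l x y M := by
  ext a b
  show (toBig (F := F) (γ := γ) l).symm (slot l A * M) (x, a) (y, b) = _
  rw [slot_eq, map_mul, AlgEquiv.symm_apply_apply, Matrix.mul_apply, Fintype.sum_prod_type, Matrix.mul_apply,
    Finset.sum_eq_single x (fun z _ hz => by simp [Matrix.one_apply_ne (Ne.symm hz)]) (by simp)]
  exact Finset.sum_congr rfl fun c _ => by simp [comp]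

theorem comp_mul_slot (x y : Rest l → γ) (A : Matrix γ γ F) (M : Matrix (τ → γ) (τ → γ) F) :
    comp l x y (M * slot l A) = comp l x y M * A := by
  ext a b
  show (toBig (F := F) (γ := γ) l).symm (M * slot l A) (x, a) (y, b) = _
  rw [slot_eq, map_mul, AlgEquiv.symm_apply_apply, Matrix.mul_apply, Fintype.sum_prod_type, Matrix.mul_apply,
    Finset.sum_eq_single y (fun z _ hz => by simp [Matrix.one_apply_ne hz]) (by simp)]
  exact Finset.sum_congr rfl fun c _ => by simp [comp]

theorem comp_outer (x y : Rest l → γ) (Z : Matrix (Rest l → γ) (Rest l → γ) F) :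
    comp l x y (outer l Z) = Z x y • 1 := by
  ext a b
  show (toBig (F := F) (γ := γ) l).symm (outer l Z) (x, a) (y, b) = _
  rw [outer, AlgEquiv.symm_apply_apply]
  rfl

/-- Commuting with a whole slot. -/
def CM (i : τ) (M : Matrix (τ → γ) (τ → γ) F) : Prop := ∀ A : Matrix γ γ F, Commute (slot i A) M

theorem cm_iff [Nonempty γ] {M : Matrix (τ → γ) (τ → γ) F} : CM l M ↔ ∀ x y, ∃ c : F, comp l x y M = c • 1 := by
  refine ⟨fun h x y => ?_, fun h A => comp_ext (l := l) fun x y => ?_⟩
  · have hc : ∀ A, Commute A (comp l x y M) := fun A => by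
      have := congrArg (comp l x y) (h A).eq
      rwa [comp_slot_mul, comp_mul_slot] at this
    obtain ⟨c, hc'⟩ := Matrix.mem_range_scalar_of_commute_single fun i j _ => hc (Matrix.single i j 1)
    exact ⟨c, by rw [← hc', Matrix.scalar_apply, Matrix.smul_one_eq_diagonal]⟩
  · obtain ⟨c, hc⟩ := h x y
    rw [comp_slot_mul, comp_mul_slot, hc, Matrix.mul_smul, Matrix.smul_mul, one_mul, mul_one]

/-- A matrix whose components are multiples of one is a product. -/
theorem split [Nonempty γ] {M : Matrix (τ → γ) (τ → γ) F} {A : Matrix γ γ F}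
    (h : ∀ x y, ∃ c : F, comp l x y M = c • A) : ∃ N, CM l N ∧ M = N * slot l A := by
  choose c hc using h
  refine ⟨outer l (Matrix.of c), fun B => (outer_comm l _ B).symm, comp_ext (l := l) fun x y => ?_⟩
  rw [comp_mul_slot, comp_outer, hc, Matrix.smul_mul, one_mul, Matrix.of_apply]

theorem cm_cancel [Nonempty γ] {D : Matrix (τ → γ) (τ → γ) F} {A : Matrix γ γ F} (hA : A ≠ 0) (hD : CM l D)
    (h : D * slot l A = 0) : D = 0 := comp_ext (l := l) fun x y => by
  obtain ⟨c, hc⟩ := cm_iff.mp hD x y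
  have h1 := congrArg (comp l x y) h
  rw [comp_mul_slot, hc, Matrix.smul_mul, one_mul, map_zero] at h1
  rw [hc, (smul_eq_zero.mp h1).resolve_right hA, zero_smul, map_zero]

end comp

section CM

variable {i : τ} {M N : Matrix (τ → γ) (τ → γ) F}

theorem CM.one : CM i (1 : Matrix (τ → γ) (τ → γ) F) := fun _ => Commute.one_right _

theorem CM.zero : CM i (0 : Matrix (τ → γ) (τ → γ) F) := fun _ => Commute.zero_right _

theorem CM.add (h : CM i M) (h' : CM i N) : CM i (M + N) := fun A => (h A).add_right (h' A)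

theorem CM.sub (h : CM i M) (h' : CM i N) : CM i (M - N) := fun A => (h A).sub_right (h' A)

theorem CM.mul (h : CM i M) (h' : CM i N) : CM i (M * N) := fun A => (h A).mul_right (h' A)

theorem CM.smul (h : CM i M) (c : F) : CM i (c • M) := fun A => (h A).smul_right c

theorem CM.neg (h : CM i M) : CM i (-M) := fun A => (h A).neg_right

theorem CM.slot {l : τ} (h : i ≠ l) (B : Matrix γ γ F) : CM i (TensorPowLin.slot l B) := fun A => slot_comm h A B

theorem CM.conj {k k' : Matrix (τ → γ) (τ → γ) F} (hk : CM i k) (hk' : CM i k') (h : CM i M) : CM i (k * M * k') :=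
  (hk.mul h).mul hk'

theorem CM.move (h : CM i N) (A B : Matrix γ γ F) :
    M * TensorPowLin.slot i A * (N * TensorPowLin.slot i B) = M * N * TensorPowLin.slot i (A * B) := by
  rw [slot_mul, mul_assoc M, ← mul_assoc (TensorPowLin.slot i A), (h A).eq]
  simp only [mul_assoc]

/-- A product with a pure tensor that is trivial at a slot. -/
theorem cm_tens {f : τ → Matrix γ γ F} (h : f i = 1) : CM i (tens f) := fun A => by
  show TensorPowLin.slot i A * tens f = tens f * TensorPowLin.slot i A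
  rw [slot, tens_mul, tens_mul]
  congr 1
  funext l
  simp only [Pi.mul_apply]
  by_cases hl : l = i
  · subst hl; simp [h]
  · simp [hl]

theorem tens_slot {f : τ → Matrix γ γ F} (h : f i = 1) (A : Matrix γ γ F) :
    tens f * TensorPowLin.slot i A = tens (Function.update f i A) := by
  rw [slot, tens_mul]
  congr 1
  funext l
  simp only [Pi.mul_apply]
  by_cases hl : l = i
  · subst hl; simp [h]
  · simp [hl]

end CM

theorem In.neg' {X : Subgroup (GL (τ → γ) F)} {u : Matrix (τ → γ) (τ → γ) F} (h : In X u) (huu : u * u = 0) :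
    In X (-u) := by
  obtain ⟨g, hg, e⟩ := h
  refine ⟨g⁻¹, inv_mem hg, Units.inv_eq_of_mul_eq_one_right ?_⟩
  rw [e, mul_add, mul_one, mul_neg, add_mul, one_mul, huu, add_zero, add_neg_cancel_right]

theorem In.conj' {X : Subgroup (GL (τ → γ) F)} {M : Matrix (τ → γ) (τ → γ) F} {k : GL (τ → γ) F} (hk : k ∈ X)
    (h : In X M) : In X ((k : Matrix (τ → γ) (τ → γ) F) * M * ((k⁻¹ : GL (τ → γ) F) : Matrix (τ → γ) (τ → γ) F)) := by
  obtain ⟨g, hg, e⟩ := h
  exact ⟨k * g * k⁻¹, mul_mem (mul_mem hk hg) (inv_mem hk), by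
    rw [Units.val_mul, Units.val_mul, e, mul_add, mul_one, add_mul, Units.mul_inv]⟩

namespace Frm

variable (P : Frm γ F)

/-- The form of the tensor power, as a matrix. -/
def Gt (τ : Type) [Fintype τ] : Matrix (τ → γ) (τ → γ) F := tens fun _ => P.G

theorem Gt_inv : P.Gt τ * tens (fun _ : τ => P.G⁻¹) = 1 := by
  rw [Gt, tens_mul, ← tens_one]
  congr 1
  funext l
  exact Matrix.mul_nonsing_inv _ (isUnit_iff_ne_zero.mpr P.det)

theorem Gt_det : (P.Gt τ).det ≠ 0 := fun h => by
  have := congrArg Matrix.det (P.Gt_inv (τ := τ))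
  rw [det_mul, h, zero_mul, det_one] at this
  exact zero_ne_one this

theorem Gt_symm : (P.Gt τ)ᵀ = P.Gt τ := by rw [Gt, tens_transpose]; simp only [P.symm]

/-- The tensor power as both sides of a tensor product. -/
def big (τ : Type) [Fintype τ] [DecidableEq τ] : TForm (τ → γ) (τ → γ) F :=
  ⟨P.Gt τ, P.Gt τ, P.Gt_symm, P.Gt_symm, P.Gt_det, P.Gt_det⟩

/-- The adjoint on the tensor power. -/
noncomputable abbrev dag (M : Matrix (τ → γ) (τ → γ) F) : Matrix (τ → γ) (τ → γ) F := (P.big τ).adjU M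

theorem dag_tens (f : τ → Matrix γ γ F) : P.dag (tens f) = tens fun l => P.adj (f l) := by
  show (P.Gt τ)⁻¹ * (tens f)ᵀ * P.Gt τ = _
  rw [Matrix.inv_eq_right_inv P.Gt_inv, tens_transpose, Gt, tens_mul, tens_mul]
  rfl

theorem dag_slot (i : τ) (A : Matrix γ γ F) : P.dag (slot i A) = slot i (P.adj A) := by
  rw [slot, dag_tens, slot]
  congr 1
  funext l
  by_cases h : l = i
  · subst h; simp
  · simp [h, P.T.adjU_one]

theorem dag_mul (M N : Matrix (τ → γ) (τ → γ) F) : P.dag (M * N) = P.dag N * P.dag M := (P.big τ).adjU_mul M N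

theorem dag_dag (M : Matrix (τ → γ) (τ → γ) F) : P.dag (P.dag M) = M := (P.big τ).adjU_adjU M

theorem dag_add (M N : Matrix (τ → γ) (τ → γ) F) : P.dag (M + N) = P.dag M + P.dag N := (P.big τ).adjU_add M N

theorem dag_sub (M N : Matrix (τ → γ) (τ → γ) F) : P.dag (M - N) = P.dag M - P.dag N := (P.big τ).adjU_sub M N

theorem dag_smul (c : F) (M : Matrix (τ → γ) (τ → γ) F) : P.dag (c • M) = c • P.dag M := (P.big τ).adjU_smul c M

theorem dag_one : P.dag (1 : Matrix (τ → γ) (τ → γ) F) = 1 := (P.big τ).adjU_one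

theorem dag_zero : P.dag (0 : Matrix (τ → γ) (τ → γ) F) = 0 := by
  simpa using P.dag_smul (0 : F) (1 : Matrix (τ → γ) (τ → γ) F)

theorem dag_neg (M : Matrix (τ → γ) (τ → γ) F) : P.dag (-M) = -P.dag M := by
  rw [← neg_one_smul F M, dag_smul, neg_one_smul]

theorem dag_perm (π : Equiv.Perm τ) : P.dag (perm π : Matrix (τ → γ) (τ → γ) F) = perm π⁻¹ := by
  show (P.Gt τ)⁻¹ * (perm π)ᵀ * P.Gt τ = _
  rw [Matrix.inv_eq_right_inv P.Gt_inv, perm_transpose, Matrix.mul_assoc, Gt, perm_tens, ← Matrix.mul_assoc, tens_mul]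
  have : (fun _ : τ => P.G⁻¹) * (fun _ : τ => P.G) = 1 :=
    funext fun _ => Matrix.nonsing_inv_mul _ (isUnit_iff_ne_zero.mpr P.det)
  rw [this, tens_one, Matrix.one_mul]

theorem cm_dag {i : τ} {M : Matrix (τ → γ) (τ → γ) F} (h : CM i M) : CM i (P.dag M) := fun A => by
  have h1 := congrArg P.dag (h (P.adj A)).eq
  rw [dag_mul, dag_mul, dag_slot, adj, P.T.adjU_adjU] at h1
  exact h1.symm

/-- `X` contains the slot groups and the three-cycles, and consists of isometries. -/
structure Hyp (X : Subgroup (GL (τ → γ) F)) : Prop where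
  iso : ∀ g ∈ X, P.dag (g : Matrix (τ → γ) (τ → γ) F) * (g : Matrix (τ → γ) (τ → γ) F) = 1
  slotMem : ∀ (i : τ), ∀ h ∈ P.Grp, ∃ g ∈ X, (g : Matrix (τ → γ) (τ → γ) F) = slot i h
  cyc : ∀ a b c : τ, a ≠ b → b ≠ c → a ≠ c →
    ∃ g ∈ X, (g : Matrix (τ → γ) (τ → γ) F) = perm (Equiv.swap a b * Equiv.swap b c)
  pair : ∀ i l : τ, i ≠ l → ∀ b, P.Iso b → b * b ∈ P.Grp →
    ∃ g ∈ X, (g : Matrix (τ → γ) (τ → γ) F) = slot i b * slot l b
  full : P.Full ∨ Fintype.card τ = 2
  two_slots : 2 ≤ Fintype.card τ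

variable {P} {X : Subgroup (GL (τ → γ) F)}

theorem nonempty (P : Frm γ F) : Nonempty γ := Fintype.card_pos_iff.mp (by have := P.card; omega)

theorem E_ne_zero {e : γ → F} (he : e ≠ 0) : P.E e ≠ 0 := fun h => by
  obtain ⟨z, hz⟩ : ∃ z, P.B e z ≠ 0 := by
    by_contra hh
    push Not at hh
    exact he (P.T.eq_zero₁ fun z => by rw [← hh z]; exact P.B_comm z e)
  have := congrArg (· *ᵥ z) h
  simp only [E_mulVec, zero_mulVec] at this
  exact smul_ne_zero hz he this

namespace Hyp

/-- The central elements at a singular vector of one slot. -/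
def cen (_hX : P.Hyp X) (i : τ) {e : γ → F} (he : P.B e e = 0) : AddSubgroup (Matrix (τ → γ) (τ → γ) F) where
  carrier := {M | CM i M ∧ P.dag M = -M ∧ In X (M * slot i (P.E e))}
  zero_mem' := ⟨CM.zero, by rw [P.dag_zero, neg_zero], 1, one_mem X, by rw [zero_mul, add_zero, Units.val_one]⟩
  add_mem' {M M'} h h' := ⟨h.1.add h'.1, by rw [P.dag_add, h.2.1, h'.2.1, neg_add], by
    rw [add_mul]
    exact h.2.2.add h'.2.2 (by rw [CM.move h'.1, (wedge_E he he).2.2, slot_zero, mul_zero])⟩
  neg_mem' {M} h := ⟨h.1.neg, by rw [P.dag_neg, h.2.1], by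
    rw [neg_mul]
    exact In.neg' h.2.2 (by rw [CM.move h.1, (wedge_E he he).2.2, slot_zero, mul_zero])⟩

variable (hX : P.Hyp X)
include hX

theorem inv_eq {g : GL (τ → γ) F} (hg : g ∈ X) :
    ((g⁻¹ : GL (τ → γ) F) : Matrix (τ → γ) (τ → γ) F) = P.dag (g : Matrix (τ → γ) (τ → γ) F) :=
  Units.inv_eq_of_mul_eq_one_left (hX.iso g hg)

theorem slot_conj (i : τ) {h : Matrix γ γ F} (hh : h ∈ P.Grp) {M : Matrix (τ → γ) (τ → γ) F} (hM : In X M) :
    In X (slot i h * M * slot i (P.adj h)) := by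
  obtain ⟨g, hg, e⟩ := hX.slotMem i h hh
  have := In.conj' hg hM
  rwa [hX.inv_eq hg, e, P.dag_slot] at this

theorem pair_conj {i l : τ} (hil : i ≠ l) {b : Matrix γ γ F} (hb : P.Iso b) (hbb : b * b ∈ P.Grp)
    {M : Matrix (τ → γ) (τ → γ) F} (hM : In X M) :
    In X (slot i b * slot l b * M * (slot l (P.adj b) * slot i (P.adj b))) := by
  obtain ⟨g, hg, e⟩ := hX.pair i l hil b hb hbb
  have := In.conj' hg hM
  rwa [hX.inv_eq hg, e, P.dag_mul, P.dag_slot, P.dag_slot] at this

theorem mem_cen {i : τ} {e : γ → F} {he : P.B e e = 0} {M : Matrix (τ → γ) (τ → γ) F} :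
    M ∈ hX.cen i he ↔ CM i M ∧ P.dag M = -M ∧ In X (M * slot i (P.E e)) := Iff.rfl

theorem cen_slot_conj {i l : τ} (hil : i ≠ l) {e : γ → F} (he : P.B e e = 0) {h : Matrix γ γ F} (hh : h ∈ P.Grp)
    {M : Matrix (τ → γ) (τ → γ) F} (hM : M ∈ hX.cen i he) : slot l h * M * slot l (P.adj h) ∈ hX.cen i he := by
  refine ⟨CM.conj (CM.slot hil h) (CM.slot hil _) hM.1, ?_, ?_⟩
  · rw [P.dag_mul, P.dag_mul, P.dag_slot, P.dag_slot, adj, P.T.adjU_adjU, hM.2.1]
    simp only [neg_mul, mul_neg, mul_assoc]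
  · have := hX.slot_conj l hh hM.2.2
    rw [← mul_assoc, mul_assoc _ (slot i (P.E e)), (slot_comm hil (P.E e) (P.adj h)).eq, ← mul_assoc] at this
    exact this

theorem cen_scale_sq {i : τ} {e f : γ → F} (he : P.B e e = 0) {ρ : F} {h : Matrix γ γ F} (hl : P.Levi e f ρ h)
    {M : Matrix (τ → γ) (τ → γ) F} (hM : M ∈ hX.cen i he) : (ρ * ρ) • M ∈ hX.cen i he := by
  refine ⟨hM.1.smul _, by rw [P.dag_smul, hM.2.1, smul_neg], ?_⟩
  have := hX.slot_conj i hl.mem hM.2.2
  rw [← mul_assoc, (hM.1 h).eq, mul_assoc M, mul_assoc M, ← slot_mul, ← slot_mul, conj_E, hl.he, P.E_smul, slot_smul,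
    mul_smul_comm, ← smul_mul_assoc] at this
  exact this

end Hyp

end Frm

end Cfsg.Lib.Classical.OrthPow
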