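import Cfsg.Agent.Classical.OrthPow.Centre
import Cfsg.Agent.Classical.TensorOrth.Geom

/-!
# The slot groups: fixed lines, invariant subspaces, centralisers
-/

set_option autoImplicit false
set_option linter.unusedSectionVars false
set_option linter.unusedSimpArgs false
set_option linter.style.haveILetI false

namespace Cfsg.Lib.Classical.OrthPow

open Matrix Finset
open scoped Kronecker MatrixGroups
open Cfsg.Lib.Classical.TensorOrth (sie sie_mul sie_cube sie_mul_neg exists_common)
open Cfsg.Lib.Classical.TensorPowLin (tens tens_mul tens_one slot slot_mul slot_comm slot_one slot_sub slot_apply_update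
  slot_apply_ne eq_scalar_of_comm)

universe u

variable {κ γ : Type} [Fintype κ] [DecidableEq κ] [Fintype γ] [DecidableEq γ] {F : Type u} [Field F]

/-- A slot acts on the lines in its direction. -/
theorem slot_mulVec (l : κ) (A : Matrix γ γ F) (v : (κ → γ) → F) (x : κ → γ) :
    (slot l A *ᵥ v) x = (A *ᵥ fun a => v (Function.update x l a)) (x l) := by
  classical
  simp only [Matrix.mulVec, dotProduct]
  refine (Finset.sum_subset (Finset.subset_univ (Finset.univ.image (Function.update x l))) fun y _ hy => ?_).symm.trans ?_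
  · obtain ⟨m, hm, hne⟩ : ∃ m, m ≠ l ∧ x m ≠ y m := by
      by_contra hh
      push Not at hh
      refine hy (Finset.mem_image.mpr ⟨y l, Finset.mem_univ _, funext fun m => ?_⟩)
      by_cases hm : m = l
      · subst hm; rw [Function.update_self]
      · rw [Function.update_of_ne hm]; exact hh m hm
    rw [slot_apply_ne l A hm hne, zero_mul]
  · rw [Finset.sum_image fun a _ b _ h => by simpa using congrFun h l]
    refine Finset.sum_congr rfl fun a _ => ?_
    conv_lhs => rw [show slot l A x = slot l A (Function.update x l (x l)) by rw [Function.update_eq_self],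
      slot_apply_update]

theorem pten_ne {g : κ → γ → F} (h : ∀ l, g l ≠ 0) : pten g ≠ 0 := by
  choose a ha using fun l => Function.ne_iff.mp (h l)
  intro h0
  have := congrFun h0 a
  rw [pten, Pi.zero_apply, Finset.prod_eq_zero_iff] at this
  obtain ⟨l, -, hl⟩ := this
  exact ha l hl

theorem slot_mulVec_pten (l : κ) (A : Matrix γ γ F) (g : κ → γ → F) :
    slot l A *ᵥ pten g = pten (Function.update g l (A *ᵥ g l)) := by
  rw [slot, tens_mulVec]
  congr 1
  funext m
  by_cases hm : m = l
  · subst hm; simp
  · simp [hm]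

/-- A matrix some power of which repeats is nilpotent once it kills all its eigenvectors. -/
theorem exists_pow_eq [Finite F] (D : Matrix (κ → γ) (κ → γ) F) : ∃ i j, i < j ∧ D ^ i = D ^ j := by
  obtain ⟨i, j, hij, h⟩ := Finite.exists_ne_map_eq_of_infinite fun n : ℕ => D ^ n
  rcases lt_or_gt_of_ne hij with h' | h'
  · exact ⟨i, j, h', h⟩
  · exact ⟨j, i, h', h.symm⟩

namespace Frm

variable {P : Frm γ F}

/-- A vector fixed by the root groups of a singular vector is a multiple of it. -/
theorem fix_sie {e v : γ → F} (he0 : e ≠ 0) (he : P.B e e = 0)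
    (h : ∀ z, P.B e z = 0 → sie P.G e z *ᵥ v = v) : ∃ c : F, v = c • e := by
  obtain ⟨f, hp⟩ := exists_partner' he0 he
  obtain ⟨a, ha, haa⟩ := exists_perp hp
  have h0 : P.B e v = 0 := by
    have h1 := congrArg (P.B a) (h a ha.left)
    rw [sie_apply, B_sub_right, B_sub_right, B_add_right, B_smul_right, B_smul_right, B_smul_right,
      show P.B a e = 0 from ha.left'] at h1
    exact (mul_eq_zero.mp (show P.B e v * P.B a a = 0 by linear_combination -h1)).resolve_right haa
  have hz : ∀ z, P.Perp e f z → P.B z v = 0 := fun z hz => by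
    have h1 := h z hz.left
    rw [sie_apply, h0, mul_zero, zero_smul, zero_smul, sub_zero, sub_zero, add_eq_left] at h1
    exact (smul_eq_zero.mp h1).resolve_right he0
  obtain ⟨z₀, hz₀, hv⟩ := decomp hp v
  rw [h0, zero_smul, add_zero] at hv
  have hz0 : z₀ = 0 := P.T.eq_zero₁ fun w => by
    obtain ⟨z, hw, ew⟩ := decomp hp w
    have h2 := hz z hw
    rw [hv, B_add_right, B_smul_right, show P.B z e = 0 from hw.left', mul_zero, zero_add] at h2
    show P.B w z₀ = 0
    rw [ew, B_add_left, B_add_left, B_smul_left, B_smul_left, hz₀.left, hz₀.right, h2, mul_zero, mul_zero, add_zero,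
      add_zero]
  exact ⟨P.B f v, hv.trans (by rw [hz0, add_zero])⟩

/-- A matrix commuting with all root elements is scalar. -/
theorem scalar_of_sie [Fintype F] {M : Matrix γ γ F}
    (h : ∀ e z, e ≠ 0 → P.B e e = 0 → P.B e z = 0 → Commute (sie P.G e z) M) : ∃ c : F, M = c • 1 := by
  have heig : ∀ e, e ≠ 0 → P.B e e = 0 → ∃ c : F, M *ᵥ e = c • e := fun e he0 he =>
    fix_sie he0 he fun z hz => by
      rw [mulVec_mulVec, (h e z he0 he hz).eq, ← mulVec_mulVec, sie_apply, P.B_comm z e, hz, he]
      simp
  obtain ⟨e, f, hp⟩ := exists_pair' P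
  obtain ⟨lam, hlam⟩ := heig e hp.ne hp.ee
  obtain ⟨mu, hmu⟩ := heig f hp.symm'.ne hp.ff
  have hz : ∀ z, P.Perp e f z → M *ᵥ z = mu • z + (P.B z z / 2 * (mu - lam)) • e := by
    intro z hz
    have h1 : M *ᵥ (sie P.G e z *ᵥ f) = mu • (sie P.G e z *ᵥ f) := by
      rw [mulVec_mulVec, ← (h e z hp.ne hp.ee hz.left).eq, ← mulVec_mulVec, hmu, mulVec_smul]
    rw [sie_f hp hz, mulVec_sub, mulVec_sub, mulVec_smul, hmu, hlam] at h1
    linear_combination (norm := module) -h1
  have hml : lam = mu := by
    obtain ⟨a, ha, haa⟩ := exists_perp hp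
    have h1 := hz (-a) ⟨by rw [B_neg_right, ha.left, neg_zero], by rw [B_neg_right, ha.right, neg_zero]⟩
    rw [mulVec_neg, hz a ha, B_neg_left, B_neg_right, neg_neg] at h1
    have h2 : (2 * (P.B a a / 2 * (mu - lam))) • e = 0 := by linear_combination (norm := module) -h1
    have h3 := (smul_eq_zero.mp h2).resolve_right hp.ne
    rw [← mul_assoc, mul_div_cancel₀ _ P.two, mul_eq_zero, sub_eq_zero] at h3
    exact (h3.resolve_left haa).symm
  let S : Submodule F (γ → F) :=
    { carrier := {v | M *ᵥ v = lam • v}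
      add_mem' := fun {v w} hv hw => by
        show M *ᵥ (v + w) = _
        rw [mulVec_add, hv, hw, smul_add]
      zero_mem' := by show M *ᵥ 0 = _; rw [mulVec_zero, smul_zero]
      smul_mem' := fun c v hv => by
        show M *ᵥ (c • v) = _
        rw [mulVec_smul, hv, smul_comm] }
  have hS : S = ⊤ := pair_span hp S hlam (show M *ᵥ f = lam • f by rw [hml]; exact hmu) fun v hv _ => by
    show M *ᵥ v = _
    rw [hz v hv, hml, sub_self, mul_zero, zero_smul, add_zero]
  exact ⟨lam, ext fun v => by rw [smul_mulVec, one_mulVec]; exact (hS ▸ Submodule.mem_top : v ∈ S)⟩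

/-- The fixed line of the root groups of all slots. -/
theorem fix_line {e : γ → F} (he0 : e ≠ 0) (he : P.B e e = 0) {v : (κ → γ) → F}
    (h : ∀ (l : κ) z, P.B e z = 0 → slot l (sie P.G e z) *ᵥ v = v) :
    ∃ c : F, v = c • pten fun _ => e := by
  classical
  obtain ⟨o, ho⟩ := Function.ne_iff.mp he0
  replace ho : e o ≠ 0 := ho
  have key : ∀ (l : κ) (x : κ → γ), v x = v (Function.update x l o) * (e (x l) / e o) := by
    intro l x
    obtain ⟨c, hc⟩ := fix_sie he0 he (v := fun a => v (Function.update x l a)) fun z hz => funext fun a => by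
      have h1 := congrFun (h l z hz) (Function.update x l a)
      rw [slot_mulVec, Function.update_self] at h1
      simpa only [Function.update_idem] using h1
    have h1 := congrFun hc (x l)
    have h2 := congrFun hc o
    rw [Function.update_eq_self] at h1
    rw [h1, h2, Pi.smul_apply, Pi.smul_apply, smul_eq_mul, smul_eq_mul]
    field_simp
  refine ⟨v (fun _ => o) / ∏ _l : κ, e o, funext fun x => ?_⟩
  have hs : ∀ s : Finset κ, v x = v (fun l => if l ∈ s then o else x l) * ∏ l ∈ s, (e (x l) / e o) := by
    intro s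
    induction s using Finset.induction_on with
    | empty => simp
    | insert a s ha ih =>
      rw [ih, key a (fun l => if l ∈ s then o else x l), Finset.prod_insert ha, if_neg ha,
        show Function.update (fun l => if l ∈ s then o else x l) a o = fun l => if l ∈ insert a s then o else x l by
          funext l
          by_cases hl : l = a
          · subst hl; simp
          · simp [hl]]
      ring
  rw [hs Finset.univ, Pi.smul_apply, smul_eq_mul, pten, Finset.prod_div_distrib]
  simp only [Finset.mem_univ, if_true]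
  ring

variable [Fintype F]

/-- A nonzero subspace stable under the root groups contains the fixed line. -/
theorem line_mem {e : γ → F} (he0 : e ≠ 0) (he : P.B e e = 0) (S : Submodule F ((κ → γ) → F)) (hne : S ≠ ⊥)
    (h : ∀ (l : κ) z, P.B e z = 0 → ∀ v ∈ S, slot l (sie P.G e z) *ᵥ v ∈ S) : (pten fun _ : κ => e) ∈ S := by
  classical
  let L : κ × {z // P.B e z = 0} → ((κ → γ) → F) →+ ((κ → γ) → F) := fun k =>
    AddMonoidHom.mk' (fun v => (slot k.1 (sie P.G e k.2.1) - 1 : Matrix (κ → γ) (κ → γ) F) *ᵥ v) fun a b =>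
      mulVec_add _ a b
  have hc : ∀ k l : κ × {z // P.B e z = 0}, Commute (slot k.1 (sie P.G e k.2.1)) (slot l.1 (sie P.G e l.2.1)) := by
    rintro ⟨k, z, hz⟩ ⟨l, w, hw⟩
    by_cases hkl : k = l
    · subst hkl
      show _ = _
      rw [← slot_mul, ← slot_mul, sie_mul P.symm P.two he hz hw, sie_mul P.symm P.two he hw hz, add_comm]
    · exact slot_comm hkl _ _
  obtain ⟨y, hy, hyN, hfix⟩ := exists_common S.toAddSubgroup ⊥ L
    (fun k v hv => by
      show (slot k.1 (sie P.G e k.2.1) - 1 : Matrix (κ → γ) (κ → γ) F) *ᵥ v ∈ S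
      rw [sub_mulVec, one_mulVec]
      exact sub_mem (h _ _ k.2.2 v hv) hv)
    (fun k v hv => by rw [AddSubgroup.mem_bot] at hv ⊢; subst hv; exact map_zero _)
    (fun k l v => by
      show (slot k.1 _ - 1 : Matrix (κ → γ) (κ → γ) F) *ᵥ ((slot l.1 _ - 1 : Matrix _ _ F) *ᵥ v) =
        (slot l.1 _ - 1 : Matrix (κ → γ) (κ → γ) F) *ᵥ ((slot k.1 _ - 1 : Matrix _ _ F) *ᵥ v)
      rw [mulVec_mulVec, mulVec_mulVec, (((hc k l).sub_left (Commute.one_left _)).sub_right (Commute.one_right _)).eq])
    (fun k => by
      refine ⟨3, fun v => ?_⟩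
      have hi : ∀ n : ℕ, (L k)^[n] v = (slot k.1 (sie P.G e k.2.1) - 1 : Matrix (κ → γ) (κ → γ) F) ^ n *ᵥ v := by
        intro n
        induction n with
        | zero => simp
        | succ n ih =>
          rw [Function.iterate_succ_apply', ih, pow_succ', ← mulVec_mulVec]
          rfl
      rw [hi, show (slot k.1 (sie P.G e k.2.1) - 1 : Matrix (κ → γ) (κ → γ) F) = slotHom k.1 (sie P.G e k.2.1 - 1) by
        rw [slotHom_apply, slot_sub, slot_one], ← map_pow, sie_cube P.symm he k.2.2, map_zero, zero_mulVec])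
    (by
      obtain ⟨v, hv, hv0⟩ := (Submodule.ne_bot_iff S).mp hne
      exact ⟨v, hv, by simpa using hv0⟩) Finset.univ
  obtain ⟨c, hc⟩ := fix_line he0 he (v := y) fun l z hz => by
    have := hfix (l, ⟨z, hz⟩) (Finset.mem_univ _)
    rw [AddSubgroup.mem_bot] at this
    change (slot l (sie P.G e z) - 1 : Matrix (κ → γ) (κ → γ) F) *ᵥ y = 0 at this
    rwa [sub_mulVec, one_mulVec, sub_eq_zero] at this
  have hc0 : c ≠ 0 := fun h0 => hyN (by rw [AddSubgroup.mem_bot, hc, h0, zero_smul])
  have := S.smul_mem c⁻¹ hy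
  rwa [hc, smul_smul, inv_mul_cancel₀ hc0, one_smul] at this

/-- The slot groups are irreducible. -/
theorem top_of_inv (S : Submodule F ((κ → γ) → F)) (hne : S ≠ ⊥)
    (h : ∀ (l : κ), ∀ g ∈ P.Grp, ∀ v ∈ S, slot l g *ᵥ v ∈ S) : S = ⊤ := by
  classical
  obtain ⟨e, f, hp⟩ := exists_pair' P
  have hψ := line_mem hp.ne hp.ee S hne fun l z hz => h l _ (sie_mem hp.ee hz)
  have key : ∀ s : Finset κ, ∀ u : κ → γ → F, (∀ l ∉ s, u l = e) → pten u ∈ S := by
    intro s
    induction s using Finset.induction_on with
    | empty =>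
      intro u hu
      rwa [show u = fun _ => e from funext fun l => hu l (Finset.notMem_empty l)]
    | insert i s hi ih =>
      intro u hu
      have hlin : ∀ v, pten (Function.update u i v) =
          fun x => v (x i) * ∏ l ∈ Finset.univ.erase i, u l (x l) := fun v => funext fun x => by
        rw [pten, ← Finset.mul_prod_erase _ _ (Finset.mem_univ i), Function.update_self]
        congr 1
        exact Finset.prod_congr rfl fun j hj => by rw [Function.update_of_ne (Finset.ne_of_mem_erase hj)]
      let Z : Submodule F (γ → F) :=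
        { carrier := {v | pten (Function.update u i v) ∈ S}
          add_mem' := fun {v w} hv hw => by
            show pten (Function.update u i (v + w)) ∈ S
            convert S.add_mem hv hw using 1
            rw [hlin, hlin, hlin]
            funext x
            simp [add_mul]
          zero_mem' := by
            show pten (Function.update u i 0) ∈ S
            convert S.zero_mem using 1
            rw [hlin]
            funext x
            simp
          smul_mem' := fun c v hv => by
            show pten (Function.update u i (c • v)) ∈ S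
            convert S.smul_mem c hv using 1
            rw [hlin, hlin]
            funext x
            simp [mul_assoc] }
      have hsing : ∀ w, w ≠ 0 → P.B w w = 0 → w ∈ Z := by
        intro w hw0 hw
        obtain ⟨g, hg, t, ht, hgw⟩ := exists_move hp.ne hp.ee hw0 hw
        have h1 := h i g hg _ (ih (Function.update u i e) fun l hl => by
          by_cases hli : l = i
          · subst hli; rw [Function.update_self]
          · rw [Function.update_of_ne hli]; exact hu l (by simp [hli, hl]))
        rw [slot_mulVec_pten, Function.update_self, Function.update_idem, hgw] at h1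
        have h2 : t • w ∈ Z := h1
        have h3 := Z.smul_mem t⁻¹ h2
        rwa [smul_smul, inv_mul_cancel₀ ht, one_smul] at h3
      have hZ : Z = ⊤ := pair_span hp Z (hsing e hp.ne hp.ee) (hsing f hp.symm'.ne hp.ff) fun v hv _ => by
        have h1 := hsing _ (fun h0 => by
          have := (sie_pair hp hv).fe
          rw [h0, B_zero_left] at this
          exact zero_ne_one this) (sie_pair hp hv).ff
        rw [sie_f hp hv] at h1
        have := sub_mem (sub_mem (hsing f hp.symm'.ne hp.ff) h1) (Z.smul_mem (P.B v v / 2) (hsing e hp.ne hp.ee))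
        convert this using 1
        abel
      have : u i ∈ Z := hZ ▸ Submodule.mem_top
      simpa only [Z, Submodule.mem_mk, AddSubmonoid.mem_mk, AddSubsemigroup.mem_mk, Set.mem_ofPred_eq,
        Function.update_eq_self] using this
  refine eq_top_iff.mpr fun x _ => ?_
  rw [← Finset.univ_sum_single x]
  refine sum_mem fun y _ => ?_
  have e' : (Pi.single y (x y) : (κ → γ) → F) = x y • pten fun l => Pi.single (y l) 1 := by
    funext z
    simp only [pten, Pi.smul_apply, smul_eq_mul]
    by_cases hz : z = y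
    · subst hz; simp
    · obtain ⟨l, hl⟩ := Function.ne_iff.mp hz
      rw [Pi.single_eq_of_ne hz, Finset.prod_eq_zero (Finset.mem_univ l) (Pi.single_eq_of_ne hl _), mul_zero]
  rw [e']
  exact S.smul_mem _ (key Finset.univ _ fun l hl => absurd (Finset.mem_univ l) hl)

/-- What commutes with the root elements of a slot commutes with the slot. -/
theorem cm_of_sie {l : κ} {M : Matrix (κ → γ) (κ → γ) F}
    (h : ∀ e z, e ≠ 0 → P.B e e = 0 → P.B e z = 0 → Commute (slot l (sie P.G e z)) M) : CM l M := by
  haveI : Nonempty γ := P.nonempty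
  refine cm_iff.mpr fun x y => scalar_of_sie (P := P) fun e z he0 he hz => ?_
  have := congrArg (comp l x y) (h e z he0 he hz).eq
  rwa [comp_slot_mul, comp_mul_slot] at this

/-- A matrix commuting with all slot groups is scalar. -/
theorem scalar_all {M : Matrix (κ → γ) (κ → γ) F}
    (h : ∀ (l : κ), ∀ g ∈ P.Grp, Commute (slot l g) M) : ∃ c : F, M = c • 1 := by
  haveI : Nonempty γ := P.nonempty
  exact eq_scalar_of_comm fun l A => cm_of_sie (P := P) (fun e z _ he hz => h l _ (sie_mem he hz)) A

/-- What commutes with the root groups and kills the fixed line is nilpotent. -/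
theorem nil_of_fix {e : γ → F} (he0 : e ≠ 0) (he : P.B e e = 0) {D : Matrix (κ → γ) (κ → γ) F}
    (hq : ∀ (l : κ) z, P.B e z = 0 → Commute (slot l (sie P.G e z)) D) (h0 : D *ᵥ (pten fun _ => e) = 0) :
    IsNilpotent D := by
  obtain ⟨i, j, hij, hpow⟩ := exists_pow_eq D
  refine ⟨i, ?_⟩
  by_contra hne
  set S := LinearMap.range (D ^ i).mulVecLin with hS
  have hS0 : S ≠ ⊥ := fun hb => hne (ext_of_mulVec_single fun x => by
    have : (D ^ i) *ᵥ Pi.single x 1 ∈ S := ⟨Pi.single x 1, rfl⟩
    rw [hb, Submodule.mem_bot] at this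
    rw [this, zero_mulVec])
  obtain ⟨v, hv⟩ := line_mem he0 he S hS0 fun l z hz w hw => by
    obtain ⟨v, rfl⟩ := hw
    refine ⟨slot l (sie P.G e z) *ᵥ v, ?_⟩
    simp only [Matrix.mulVecLin_apply, mulVec_mulVec, ((hq l z hz).pow_right i).eq]
  rw [Matrix.mulVecLin_apply] at hv
  have h1 : (D ^ (j - i)) *ᵥ (pten fun _ : κ => e) = pten fun _ : κ => e := by
    rw [← hv, mulVec_mulVec, ← pow_add, Nat.sub_add_cancel hij.le, ← hpow]
  obtain ⟨n, hn⟩ := Nat.exists_eq_add_of_lt (show 0 < j - i by omega)
  rw [hn, pow_succ, ← mulVec_mulVec, h0, mulVec_zero] at h1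
  exact pten_ne (fun _ => he0) h1.symm

/-- Commuting nilpotent matrices stable under the slot groups vanish. -/
theorem nil_family (s : Set (Matrix (κ → γ) (κ → γ) F)) (hnil : ∀ D ∈ s, IsNilpotent D)
    (hcomm : ∀ D ∈ s, ∀ D' ∈ s, Commute D D')
    (hconj : ∀ (l : κ), ∀ g ∈ P.Grp, ∀ D ∈ s, slot l g * D * slot l (P.adj g) ∈ s) : ∀ D ∈ s, D = 0 := by
  classical
  let L : {D // D ∈ s} → ((κ → γ) → F) →+ ((κ → γ) → F) := fun D =>
    AddMonoidHom.mk' (fun v => (D.1 : Matrix (κ → γ) (κ → γ) F) *ᵥ v) fun a b => mulVec_add _ a b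
  haveI : Nonempty γ := P.nonempty
  haveI : Fintype {D // D ∈ s} := Fintype.ofFinite _
  obtain ⟨y, -, hyN, hfix⟩ := exists_common (⊤ : AddSubgroup ((κ → γ) → F)) ⊥ L (fun _ _ _ => trivial)
    (fun k v hv => by rw [AddSubgroup.mem_bot] at hv ⊢; subst hv; exact map_zero _)
    (fun k l v => by
      show (k.1 : Matrix (κ → γ) (κ → γ) F) *ᵥ (l.1 *ᵥ v) = l.1 *ᵥ (k.1 *ᵥ v)
      rw [mulVec_mulVec, mulVec_mulVec, (hcomm _ k.2 _ l.2).eq])
    (fun k => by
      obtain ⟨n, hn⟩ := hnil _ k.2
      refine ⟨n, fun v => ?_⟩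
      have hi : ∀ n : ℕ, (L k)^[n] v = (k.1 : Matrix (κ → γ) (κ → γ) F) ^ n *ᵥ v := by
        intro n
        induction n with
        | zero => simp
        | succ n ih =>
          rw [Function.iterate_succ_apply', ih, pow_succ', ← mulVec_mulVec]
          rfl
      rw [hi, hn, zero_mulVec])
    (by
      obtain ⟨o⟩ := ‹Nonempty γ›
      exact ⟨Pi.single (fun _ => o) 1, trivial, by simp⟩) Finset.univ
  let S : Submodule F ((κ → γ) → F) :=
    { carrier := {v | ∀ D ∈ s, D *ᵥ v = 0}
      add_mem' := fun hv hw D hD => by rw [mulVec_add, hv D hD, hw D hD, add_zero]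
      zero_mem' := fun D _ => mulVec_zero _
      smul_mem' := fun c v hv D hD => by rw [mulVec_smul, hv D hD, smul_zero] }
  have hS : S = ⊤ := by
    refine top_of_inv (P := P) S ((Submodule.ne_bot_iff S).mpr ⟨y, fun D hD => ?_, by simpa using hyN⟩)
      fun l g hg v hv D hD => ?_
    · have := hfix ⟨D, hD⟩ (Finset.mem_univ _)
      rwa [AddSubgroup.mem_bot] at this
    · have h1 : slot l g * slot l (P.adj g) = (1 : Matrix (κ → γ) (κ → γ) F) := by
        rw [← slot_mul, (Grp.iso hg).mul_adj, slot_one]
      have h2 : slot l (P.adj g) * D * slot l g ∈ s := by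
        have := hconj l _ (Grp.adj_mem hg) D hD
        rwa [show P.adj (P.adj g) = g from P.T.adjU_adjU g] at this
      calc D *ᵥ (slot l g *ᵥ v) = (slot l g * (slot l (P.adj g) * D * slot l g)) *ᵥ v := by
            rw [mulVec_mulVec, ← mul_assoc, ← mul_assoc, h1, one_mul]
        _ = 0 := by rw [← mulVec_mulVec, hv _ h2, mulVec_zero]
  intro D hD
  refine ext_of_mulVec_single fun x => ?_
  rw [zero_mulVec]
  exact (hS ▸ Submodule.mem_top : (Pi.single x 1 : (κ → γ) → F) ∈ S) D hD

end Frm

end Cfsg.Lib.Classical.OrthPow
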