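import Cfsg.Agent.Classical.OrthPow.Single

/-!
# Without centres every element permutes the slots
-/

set_option autoImplicit false
set_option linter.unusedSectionVars false
set_option linter.unusedSimpArgs false
set_option linter.style.haveILetI false

namespace Cfsg.Lib.Classical.OrthPow

open Matrix Finset
open scoped Kronecker MatrixGroups
open Cfsg.Lib.Classical.TensorOrth (TForm sie)
open Cfsg.Lib.Classical.TensorPowLin (Rest slot slot_add slot_sub slot_smul slot_zero slot_one slot_mul slot_comm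
  slot_injective conjM conjM_mul conjM_one conjM_inv_conjM Eqj)

universe u

variable {τ γ : Type} [Fintype τ] [DecidableEq τ] [Fintype γ] [DecidableEq γ] {F : Type u} [Field F]

namespace Frm

variable {P : Frm γ F} {X : Subgroup (GL (τ → γ) F)} [Fintype F]

theorem vec_mul (a b c d : γ → F) :
    vecMulVec a (P.G *ᵥ b) * vecMulVec c (P.G *ᵥ d) = P.B b c • vecMulVec a (P.G *ᵥ d) := ext fun x => by
  rw [← mulVec_mulVec, smul_mulVec, show vecMulVec c (P.G *ᵥ d) *ᵥ x = P.B d x • c from P.T.B₁_vec c d x,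
    show vecMulVec a (P.G *ᵥ b) *ᵥ (P.B d x • c) = P.B b (P.B d x • c) • a from P.T.B₁_vec a b _,
    show vecMulVec a (P.G *ᵥ d) *ᵥ x = P.B d x • a from P.T.B₁_vec a d x, B_smul_right, smul_smul, mul_comm]

set_option maxHeartbeats 1000000 in
/-- Without centres every element of the group moves a slot onto a slot. -/
theorem Good.permutes (hG : P.Good X) {g : GL (τ → γ) F} (hg : g ∈ X) (i : τ) : ∃ l, Eqj g i l := by
  classical
  haveI : Nonempty γ := P.nonempty
  obtain ⟨e, f, hp⟩ := exists_pair' P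
  -- the roots at `e` and at `f` go to one slot
  have hmeet : ∀ v w, P.Perp e f v → P.B v v ≠ 0 → P.Perp e f w → P.B w w ≠ 0 → ∀ l m K K',
      conjM g (slot i (P.wedge e v)) = slot l K → conjM g (slot i (P.wedge f w)) = slot m K' → l = m := by
    intro v w hv hvv hw hww l m K K' h h'
    by_contra hlm
    have h1 : conjM g (slot i (P.wedge e v * P.wedge f w - P.wedge f w * P.wedge e v)) = 0 := by
      rw [slot_sub, map_sub, slot_mul, slot_mul, conjM_mul, conjM_mul, h, h', (slot_comm hlm K K').eq, sub_self]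
    have h2 := congrArg (conjM g⁻¹) h1
    rw [conjM_inv_conjM, map_zero, ← slot_zero i] at h2
    have h3 := slot_injective i h2
    have a1 := congrArg (· *ᵥ e) h3
    have a2 := congrArg (· *ᵥ v) h3
    simp only [sub_mulVec, ← mulVec_mulVec, wedge_mulVec, mulVec_sub, mulVec_smul, zero_mulVec, hp.ee, hp.ff, hp.ef,
      hp.fe, hv.left, hv.right, hw.left, hw.right, hv.left', hv.right', hw.left', hw.right', P.B_comm w v, zero_smul,
      one_smul, smul_zero, sub_zero, zero_sub, smul_neg, neg_neg, sub_neg_eq_add] at a1 a2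
    by_cases hvw : P.B v w = 0
    · simp only [hvw, zero_smul, sub_zero, zero_sub, smul_zero, neg_zero, add_zero, zero_add] at a2
      exact smul_ne_zero hvv (fun h0 => hww (by rw [h0, B_zero_left])) a2
    · simp only [B_neg_right, B_zero_right, hw.left, neg_zero, zero_smul, sub_zero, neg_smul, neg_eq_zero] at a1
      exact smul_ne_zero hvw hp.ne a1
  obtain ⟨v₀, hv₀, hvv₀⟩ := exists_perp hp
  obtain ⟨l, K₀, -, -, hK₀⟩ := hG.root_single hg i hp hv₀ hvv₀
  let S : Submodule F (Matrix γ γ F) :=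
    { carrier := {A | ∃ A', conjM g (slot i A) = slot l A'}
      add_mem' := fun {A B} ⟨A', hA⟩ ⟨B', hB⟩ => ⟨A' + B', by rw [slot_add, map_add, hA, hB, slot_add]⟩
      zero_mem' := ⟨0, by rw [slot_zero, map_zero, slot_zero]⟩
      smul_mem' := fun c A ⟨A', hA⟩ => ⟨c • A', by rw [slot_smul, map_smul, hA, slot_smul]⟩ }
  have hmul : ∀ {A B}, A ∈ S → B ∈ S → A * B ∈ S := fun {A B} ⟨A', hA⟩ ⟨B', hB⟩ =>
    ⟨A' * B', by rw [slot_mul, conjM_mul, hA, hB, slot_mul]⟩
  have hf : ∀ w, P.Perp e f w → P.B w w ≠ 0 → P.wedge f w ∈ S := fun w hw hww => by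
    obtain ⟨m, K, -, -, hK⟩ := hG.root_single hg i hp.symm' hw.symm' hww
    obtain rfl := hmeet v₀ w hv₀ hvv₀ hw hww l m K₀ K hK₀ hK
    exact ⟨K, hK⟩
  have he : ∀ v, P.Perp e f v → P.B v v ≠ 0 → P.wedge e v ∈ S := fun v hv hvv => by
    obtain ⟨m, K, -, -, hK⟩ := hG.root_single hg i hp hv hvv
    obtain ⟨m', K', -, -, hK'⟩ := hG.root_single hg i hp.symm' hv₀.symm' hvv₀
    have e1 := hmeet v₀ v₀ hv₀ hvv₀ hv₀ hvv₀ l m' K₀ K' hK₀ hK'
    have e2 := hmeet v v₀ hv hvv hv₀ hvv₀ m m' K K' hK hK'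
    exact ⟨K, by rw [e1, ← e2, hK]⟩
  have hEe : P.E e ∈ S := by
    have h1 := S.smul_mem (-(P.B v₀ v₀))⁻¹ (hmul (he v₀ hv₀ hvv₀) (he v₀ hv₀ hvv₀))
    rwa [wedge_sq hp.ee hv₀.left, smul_smul, inv_mul_cancel₀ (neg_ne_zero.mpr hvv₀), one_smul] at h1
  have hEf : P.E f ∈ S := by
    have h1 := S.smul_mem (-(P.B v₀ v₀))⁻¹ (hmul (hf v₀ hv₀ hvv₀) (hf v₀ hv₀ hvv₀))
    rwa [wedge_sq hp.ff hv₀.right, smul_smul, inv_mul_cancel₀ (neg_ne_zero.mpr hvv₀), one_smul] at h1
  have hef : vecMulVec e (P.G *ᵥ f) ∈ S := by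
    have h1 := hmul hEe hEf
    rwa [E, E, vec_mul, hp.ef, one_smul] at h1
  have hfe : vecMulVec f (P.G *ᵥ e) ∈ S := by
    have h1 := hmul hEf hEe
    rwa [E, E, vec_mul, hp.fe, one_smul] at h1
  -- rank one maps through `e`
  let S₁ : Submodule F (γ → F) :=
    { carrier := {a | vecMulVec a (P.G *ᵥ e) ∈ S}
      add_mem' := fun {a b} ha hb => by
        show vecMulVec (a + b) _ ∈ S
        rw [add_vecMulVec]; exact S.add_mem ha hb
      zero_mem' := by show vecMulVec 0 _ ∈ S; rw [zero_vecMulVec]; exact S.zero_mem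
      smul_mem' := fun c a ha => by
        show vecMulVec (c • a) _ ∈ S
        rw [smul_vecMulVec]; exact S.smul_mem c ha }
  let S₂ : Submodule F (γ → F) :=
    { carrier := {b | vecMulVec e (P.G *ᵥ b) ∈ S}
      add_mem' := fun {a b} ha hb => by
        show vecMulVec e (P.G *ᵥ (a + b)) ∈ S
        rw [mulVec_add, vecMulVec_add]; exact S.add_mem ha hb
      zero_mem' := by show vecMulVec e (P.G *ᵥ 0) ∈ S; rw [mulVec_zero, vecMulVec_zero]; exact S.zero_mem
      smul_mem' := fun c a ha => by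
        show vecMulVec e (P.G *ᵥ (c • a)) ∈ S
        rw [mulVec_smul, vecMulVec_smul]; exact S.smul_mem c ha }
  have hS₁ : S₁ = ⊤ := pair_span hp S₁ hEe hfe fun v hv hvv => by
    have h1 := neg_mem (hmul (he v hv hvv) hfe)
    show vecMulVec v (P.G *ᵥ e) ∈ S
    convert h1 using 1
    rw [mul_vecMulVec, wedge_mulVec, hv.right', hp.ef, zero_smul, one_smul, zero_sub, neg_vecMulVec, neg_neg]
  have hS₂ : S₂ = ⊤ := pair_span hp S₂ hEe hef fun v hv hvv => by
    have h1 := hmul hEe (hf v hv hvv)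
    show vecMulVec e (P.G *ᵥ v) ∈ S
    convert h1 using 1
    refine ext fun x => ?_
    rw [← mulVec_mulVec, show vecMulVec e (P.G *ᵥ v) *ᵥ x = P.B v x • e from P.T.B₁_vec e v x, wedge_mulVec,
      E_mulVec, B_sub_right, B_smul_right, B_smul_right, hp.ef, hv.left, mul_one, mul_zero, sub_zero]
  have hfb : ∀ b, vecMulVec f (P.G *ᵥ b) ∈ S := fun b => by
    have hb : vecMulVec e (P.G *ᵥ b) ∈ S := (hS₂ ▸ Submodule.mem_top : b ∈ S₂)
    have h1 := hmul hEf hb
    rwa [E, vec_mul, hp.fe, one_smul] at h1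
  have hab : ∀ a b, vecMulVec a (P.G *ᵥ b) ∈ S := fun a b => by
    have ha : vecMulVec a (P.G *ᵥ e) ∈ S := (hS₁ ▸ Submodule.mem_top : a ∈ S₁)
    have h1 := hmul ha (hfb b)
    rwa [vec_mul, hp.ef, one_smul] at h1
  refine ⟨l, fun A => ?_⟩
  suffices A ∈ S from this
  rw [matrix_eq_sum_single A]
  refine sum_mem fun p _ => sum_mem fun q _ => ?_
  have h1 := S.smul_mem (A p q) (hab (Pi.single p 1) (P.G⁻¹ *ᵥ Pi.single q 1))
  convert h1 using 1
  rw [mulVec_mulVec, show P.G * P.G⁻¹ = 1 from P.T.mul_inv₁, one_mulVec]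
  ext a b
  by_cases ha : a = p <;> by_cases hb : b = q <;> simp [Matrix.single_apply, vecMulVec_apply, Ne.symm, ha, hb]

end Frm

end Cfsg.Lib.Classical.OrthPow
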