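import Cfsg.Agent.Classical.OrthPow.Omega
import Cfsg.Agent.Classical.OrthPow.Perm
import Cfsg.Agent.Classical.TensorPowLin.Main

/-!
# The stabiliser of an orthogonal tensor power is maximal in `Ω`
-/

set_option autoImplicit false
set_option linter.unusedSectionVars false
set_option linter.unusedSimpArgs false
set_option linter.style.haveILetI false

namespace Cfsg.Lib.Classical.OrthPow

open Matrix Finset
open scoped Kronecker MatrixGroups
open Cfsg.Lib.Classical.TensorOrth (sie omegaGL_comm mem_isometry gram_apply gram_symm gram_det)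
open Cfsg.Lib.Classical.TensorPowLin (tens tens_mul tens_apply slot slot_add slot_sub slot_neg slot_mul slot_comm
  slot_zero slot_injective perm permGL permGL_val tensGL tensGL_val conjM conjM_apply Eqj permuting decomp
  wreath_le_permuting mem_wreath_of_tens In)
open Cfsg.Lib.Classical.TensorMax (isMaximalIn_map)

universe u

variable {k t : ℕ} {F : Type u} [Field F]

theorem tensGL_mulSingle (i : Fin t) (a : GL (Fin k) F) :
    ((tensGL (Pi.mulSingle i a) : GL (Fin t → Fin k) F) : Matrix (Fin t → Fin k) (Fin t → Fin k) F) =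
      slot i (a : Matrix (Fin k) (Fin k) F) := by
  rw [tensGL_val, slot]
  congr 1
  funext l
  by_cases h : l = i
  · subst h; simp
  · simp [h]

theorem tensGL_mem_wreath (b : Fin t → GL (Fin k) F) :
    tensGL b ∈ Cfsg.Geo.tensorWreathStandard k t F :=
  Subgroup.subset_closure (Or.inl ⟨b, fun _ _ => rfl⟩)

namespace Frm

variable {P : Frm (Fin k) F} [Fintype F]

/-- An isometry of one factor as a unit. -/
noncomputable def Iso.unit {b : Matrix (Fin k) (Fin k) F} (hb : P.Iso b) : GL (Fin k) F :=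
  ⟨b, P.adj b, hb.mul_adj, hb⟩

theorem standard_hyp (href : P.refl → 3 ≤ t) (hfull : P.Full ∨ t = 2) (ht : 2 ≤ t)
    {Y : Subgroup (GL (Fin t → Fin k) F)}
    (hY : Cfsg.Geo.tensorWreathStandard k t F ⊓ Cfsg.Geo.omegaGL (P.qft (Fin t)) ≤ Y)
    (hY' : Y ≤ Cfsg.Geo.omegaGL (P.qft (Fin t))) : P.Hyp Y where
  iso g hg := P.iso_mem.mp (Subgroup.map_subtype_le _ (hY' hg))
  slotMem i h hh := by
    obtain ⟨g, hg, e⟩ := grp_inO (τ := Fin t) (by rwa [Fintype.card_fin]) i hh
    refine ⟨g, hY ⟨?_, hg⟩, e⟩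
    rw [show g = tensGL (Pi.mulSingle i (Grp.iso hh).unit) from
      Units.ext (e.trans (tensGL_mulSingle (F := F) i (Grp.iso hh).unit).symm)]
    exact tensGL_mem_wreath _
  cyc a b c hab hbc hac := by
    obtain ⟨g, hg, e⟩ := cyc_inO (P := P) a b c hab hbc hac
    refine ⟨g, hY ⟨?_, hg⟩, e⟩
    exact Subgroup.subset_closure (Or.inr ⟨_, fun x y => congrFun (congrFun e x) y⟩)
  pair i l hil b hb hbb := by
    obtain ⟨g, hg, e⟩ := pair_inO hil hb (grp_inO (τ := Fin t) (by rwa [Fintype.card_fin]) i hbb)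
    refine ⟨g, hY ⟨?_, hg⟩, e⟩
    rw [show g = tensGL (Pi.mulSingle i hb.unit) * tensGL (Pi.mulSingle l hb.unit) from
      Units.ext (e.trans (by rw [Units.val_mul, tensGL_mulSingle, tensGL_mulSingle]; rfl))]
    exact mul_mem (tensGL_mem_wreath _) (tensGL_mem_wreath _)
  full := by rwa [Fintype.card_fin]
  two_slots := by rwa [Fintype.card_fin]

set_option maxHeartbeats 1000000 in
theorem standard_lt (ht : 2 ≤ t) :
    Cfsg.Geo.tensorWreathStandard k t F ⊓ Cfsg.Geo.omegaGL (P.qft (Fin t)) <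
      Cfsg.Geo.omegaGL (P.qft (Fin t)) := by
  classical
  have hk : 3 ≤ k := by simpa using P.card
  haveI : Nontrivial (Fin k) := Fin.nontrivial_iff_two_le.mpr (by omega)
  haveI : Nontrivial (Fin t) := Fin.nontrivial_iff_two_le.mpr ht
  haveI : Nonempty (Fin k) := P.nonempty
  refine lt_of_le_of_ne inf_le_right fun hEq => ?_
  obtain ⟨e, f, hp⟩ := exists_pair' P
  obtain ⟨v, hv, hvv⟩ := exists_perp hp
  set a : Fin t := ⟨0, by omega⟩
  obtain ⟨o, ho⟩ := exists_ne a
  obtain ⟨H, hH⟩ : ∃ x, x = P.wedge e f := ⟨_, rfl⟩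
  obtain ⟨K, hK⟩ : ∃ x, x = P.wedge e v := ⟨_, rfl⟩
  have hHK : H * K - K * H = K := ext fun x => by
    simp only [hH, hK, sub_mulVec, ← mulVec_mulVec, wedge_mulVec, mulVec_sub, mulVec_smul, hp.ee, hp.ff, hp.ef,
      hp.fe, hv.left, hv.right, hv.left', hv.right']
    module
  have hK0 : K ≠ 0 := fun h0 => by
    have h1 := congrArg (· *ᵥ f) h0
    simp only [hK, wedge_mulVec, zero_mulVec, hp.ef, hv.right', zero_smul, one_smul, zero_sub, neg_eq_zero] at h1
    exact hvv (by rw [h1, B_zero_left])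
  set d : Fin t → Matrix (Fin k) (Fin k) F := Function.update (fun _ => P.E e) a 1 with hd
  set D : Matrix (Fin t → Fin k) (Fin t → Fin k) F := tens d with hD
  have hda : d a = 1 := Function.update_self ..
  have hdo : ∀ l, l ≠ a → d l = P.E e := fun l hl => by rw [hd, Function.update_of_ne hl]
  have hcm : CM a D := cm_tens hda
  have hEe : P.E e * P.E e = 0 := (wedge_E hp.ee hp.ee).2.2
  have hDD : D * D = 0 := by
    rw [hD, tens_mul]
    exact tens_eq_zero _ o (by rw [Pi.mul_apply, hdo o ho, hEe])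
  have hDs : P.dag D = D := by
    rw [hD, P.dag_tens]
    congr 1
    funext l
    by_cases hl : l = a
    · rw [hl, hda, adj, P.T.adjU_one]
    · rw [hdo l hl, adj_E]
  obtain ⟨N, hN⟩ : ∃ x, x = D * slot a K := ⟨_, rfl⟩
  have hmove : ∀ A B, D * slot a A * (D * slot a B) = 0 := fun A B => by
    rw [CM.move hcm, hDD, zero_mul]
  have hNN : N * N = 0 := by rw [hN]; exact hmove K K
  have hNs : P.dag N = -N := by
    rw [hN, P.dag_mul, P.dag_slot, hDs, show P.adj K = -K by rw [hK, P.adj_wedge], slot_neg, neg_mul, (hcm K).eq]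
  let g : GL (Fin t → Fin k) F := ⟨1 + N, 1 - N,
    by rw [add_mul, one_mul, mul_sub, mul_one, hNN, sub_zero, sub_add_cancel],
    by rw [sub_mul, one_mul, mul_add, mul_one, hNN, add_zero, add_sub_cancel_right]⟩
  have hgΩ : g ∈ Cfsg.Geo.omegaGL (P.qft (Fin t)) := by
    have hiso : g ∈ Cfsg.isometryGroup F (P.qft (Fin t)) := P.iso_mem.mpr (by
      show P.dag (1 + N) * (1 + N) = 1
      rw [P.dag_add, P.dag_one, hNs, ← sub_eq_add_neg]
      exact g.inv_mul)
    rw [← qfQ_coe]
    obtain ⟨p, hp⟩ := CharP.exists F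
    haveI : Fact p.Prime := ⟨CharP.char_is_prime F p⟩
    have hodd : Odd p := (Fact.out : p.Prime).odd_of_ne_two fun h2 => P.two (by
      subst h2; exact_mod_cast CharP.cast_eq_zero F 2)
    refine Cfsg.Lib.OrthEl.mem_omega_odd_order P.qfQ_nondeg ?_ g (by rw [qfQ_coe]; exact mem_isometry.mp hiso) hodd
      (Units.ext ?_)
    · rw [Fintype.card_fun, Fintype.card_fin, Fintype.card_fin]
      calc 6 ≤ 3 ^ 2 := by norm_num
        _ ≤ k ^ 2 := Nat.pow_le_pow_left hk 2
        _ ≤ k ^ t := Nat.pow_le_pow_right (by omega) ht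
    · rw [Units.val_pow_eq_pow_val, Units.val_one]
      show (1 + N) ^ p = 1
      have hpow : ∀ n : ℕ, (1 + N) ^ n = 1 + (n : F) • N := fun n => by
        induction n with
        | zero => simp
        | succ n ih =>
          rw [pow_succ, ih, mul_add, mul_one, add_mul, one_mul, smul_mul_assoc, hNN, smul_zero, add_zero,
            Nat.cast_succ, add_smul, one_smul, add_assoc]
      rw [hpow, CharP.cast_eq_zero F p, zero_smul, add_zero]
  rw [← hEq] at hgΩ
  obtain ⟨j, hj⟩ := wreath_le_permuting hgΩ.1 a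
  obtain ⟨A, hA⟩ := hj H
  have hA' : slot j A = slot a H - N := by
    rw [← hA, conjM_apply]
    show (1 + N) * slot a H * (1 - N) = _
    have e1 : slot a H * N - N * slot a H = N := by
      rw [hN, ← mul_assoc, (hcm H).eq, mul_assoc, mul_assoc, ← slot_mul, ← slot_mul, ← mul_sub, ← slot_sub, hHK]
    have e2 : N * slot a H * N = 0 := by
      rw [hN, mul_assoc D, ← slot_mul]
      exact hmove _ _
    rw [add_mul, one_mul, mul_sub, mul_one, add_mul, e2, add_zero]
    conv_rhs => rw [← e1]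
    abel
  by_cases hja : j = a
  · subst hja
    have hc : Commute (slot o (P.E f)) N := by
      have h1 : Commute (slot o (P.E f)) (slot a H - N) := by rw [← hA']; exact slot_comm ho _ _
      have h2 := (slot_comm ho (P.E f) H : Commute (slot o (P.E f)) (slot a H)).sub_right h1
      rwa [sub_sub_cancel] at h2
    obtain ⟨M, hM⟩ : ∃ x, x = (tens (Function.update d o 1) * slot a K : Matrix (Fin t → Fin k) (Fin t → Fin k) F) := ⟨_, rfl⟩
    have hMo : CM o M := by rw [hM]; exact (cm_tens (Function.update_self ..)).mul (CM.slot ho K)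
    have hNM : N = M * slot o (P.E e) := by
      rw [hM, mul_assoc, (slot_comm ho (P.E e) K).symm.eq, ← mul_assoc, tens_slot (Function.update_self ..),
        Function.update_idem, show Function.update d o (P.E e) = d by rw [← hdo o ho, Function.update_eq_self], hN]
    have h3 : M * slot o (P.E e * P.E f - P.E f * P.E e) = 0 := by
      rw [slot_sub, mul_sub, slot_mul, slot_mul, ← mul_assoc M, ← hNM, ← mul_assoc M, ← (hMo (P.E f)).eq, mul_assoc,
        ← hNM, hc.eq, sub_self]
    have h4 : P.E e * P.E f - P.E f * P.E e ≠ 0 := fun h0 => hp.ne (by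
      have h1 := congrArg (· *ᵥ e) h0
      simp only [sub_mulVec, ← mulVec_mulVec, E_mulVec, mulVec_smul, zero_mulVec, hp.ee, hp.ef, hp.fe, one_smul,
        zero_smul, mulVec_zero, sub_zero] at h1
      exact h1)
    have hM0 := cm_cancel h4 hMo h3
    have hN0 : N = 0 := by rw [hNM, hM0, zero_mul]
    refine tens_ne_zero (f := Function.update d a K) (fun l => ?_) ?_
    · by_cases hl : l = a
      · rw [hl, Function.update_self]; exact hK0
      · rw [Function.update_of_ne hl, hdo l hl]; exact E_ne_zero hp.ne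
    · rw [← tens_slot hda, ← hN0, hN]
  · have h1 : Commute (slot a K) (slot a H - N) := by rw [← hA']; exact slot_comm (Ne.symm hja) _ _
    have h2 : slot a K * N = N * slot a K := by
      rw [hN, ← mul_assoc, (hcm K).eq]
    have h3 : slot a (H * K - K * H) = (0 : Matrix (Fin t → Fin k) (Fin t → Fin k) F) := by
      have h := h1.eq
      rw [mul_sub, sub_mul, h2, sub_left_inj] at h
      rw [slot_sub, slot_mul, slot_mul, h, sub_self]
    rw [hHK, ← slot_zero a] at h3
    exact hK0 (slot_injective a h3)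

/-- The standard stabiliser is maximal in `Ω`. -/
theorem isMaximalIn_standard (href : P.refl → 3 ≤ t) (hfull : P.Full ∨ t = 2) (ht : 2 ≤ t) :
    Cfsg.Geo.IsMaximalIn (Cfsg.Geo.omegaGL (P.qft (Fin t)))
      (Cfsg.Geo.tensorWreathStandard k t F ⊓ Cfsg.Geo.omegaGL (P.qft (Fin t))) := by
  have hk : 3 ≤ k := by simpa using P.card
  haveI : Nontrivial (Fin k) := Fin.nontrivial_iff_two_le.mpr (by omega)
  haveI : Nonempty (Fin t) := Fin.pos_iff_nonempty.mp (by omega)
  refine ⟨standard_lt ht, fun M h₁ h₂ => ?_⟩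
  have hX := standard_hyp href hfull ht h₁ h₂
  by_cases hle : Cfsg.Geo.omegaGL (P.qft (Fin t)) ≤ M
  · exact Or.inr (le_antisymm h₂ hle)
  · refine Or.inl (le_antisymm (le_inf (fun g hg => ?_) h₂) h₁)
    have hG : P.Good M := ⟨hX, fun i e he he0 N hN hNs hNX => by
      by_contra h0
      exact hle (hX.omega_le_of_cen he he0 ((hX.mem_cen (he := he)).mpr ⟨hN, hNs, hNX⟩) h0)⟩
    have hperm : g ∈ permuting (Fin t) (Fin k) F := fun i => hG.permutes hg i
    obtain ⟨σ, b, h⟩ := Cfsg.Lib.Classical.TensorPowLin.decomp hperm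
    exact mem_wreath_of_tens h

end Frm

variable [Fintype F]

/-- The stabiliser of a tensor power decomposition of a quadratic form is maximal in `Ω`. -/
theorem isMaximalIn_power {ι : Type} [Fintype ι] [DecidableEq ι] (Q : (ι → F) → F)
    (hhalf : ∀ v, QuadraticMap.polar Q v v = 2 * Q v) (h2 : (2 : F) ≠ 0) (hk : 3 ≤ k) (ht : 2 ≤ t)
    (e : ι ≃ (Fin t → Fin k)) (P : GL ι F) {f₁ : (Fin k → F) → (Fin k → F) → F}
    (hf₁ : Cfsg.Geo.IsSymmetricForm f₁) (hT : Cfsg.Geo.IsTensorPowerFormStructure id (QuadraticMap.polar Q) f₁ e P)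
    (hq : k = 3 → Fintype.card F ≠ 3)
    (h4 : k = 4 → ∀ x u : Fin k → F, f₁ x x = 0 → f₁ u u = 0 → f₁ x u = 0 → ¬ LinearIndependent F ![x, u]) :
    Cfsg.Geo.IsMaximalIn (Cfsg.Geo.omegaGL Q)
      (Cfsg.Geo.tensorWreathSubgroup k t e P ⊓ Cfsg.Geo.omegaGL Q) := by
  obtain ⟨c, hc, hT⟩ := hT
  let R : Frm (Fin k) F :=
    { G := Cfsg.Geo.gramMatrix f₁, symm := gram_symm hf₁, det := gram_det hf₁, two := h2,
      card := by rwa [Fintype.card_fin],
      ex := fun h hF => hq (by rwa [Fintype.card_fin] at h) (by rwa [Nat.card_eq_fintype_card] at hF),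
      small := fun h x y u hxx hyy hxy hxu hyu huu => by
        by_contra hu
        simp only [gram_apply hf₁.bilinear] at hxx hyy hxy hxu hyu huu
        have hdep := h4 (by rwa [Fintype.card_fin] at h) x u hxx huu hxu
        have hx0 : x ≠ 0 := fun h0 => by
          rw [h0, ← gram_apply hf₁.bilinear, zero_dotProduct] at hxy
          exact zero_ne_one hxy
        rw [LinearIndependent.pair_iff' hx0] at hdep
        push Not at hdep
        obtain ⟨r, hr⟩ := hdep
        rw [← hr, hf₁.bilinear.smul_right, hf₁.symm y x, hxy, mul_one] at hyu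
        exact hu (by rw [← hr, hyu, zero_smul])
      refl := 3 ≤ t }
  let φ : GL (Fin t → Fin k) F ≃* GL ι F := (Cfsg.Geo.glReindex e.symm).trans (MulAut.conj P)
  have hqf : ∀ x, Q ((P : Matrix ι ι F) *ᵥ (x ∘ e)) = c * R.qft (Fin t) x := fun x => by
    have h := hT x x
    rw [hhalf] at h
    have e1 : (∑ a, ∑ b, x a * (∏ i, Cfsg.Geo.gramMatrix f₁ (a i) (b i)) * id (x b)) =
        x ⬝ᵥ R.Gt (Fin t) *ᵥ x := by
      simp [dotProduct, Matrix.mulVec, Finset.mul_sum, Frm.Gt, tens_apply, R, mul_assoc]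
    rw [e1] at h
    rw [Frm.qft, mul_left_comm, ← h, ← mul_assoc, inv_mul_cancel₀ h2, one_mul]
  have hsurj : ∀ y : ι → F, ∃ x, (P : Matrix ι ι F) *ᵥ (x ∘ e) = y := fun y =>
    ⟨(((P⁻¹ : GL ι F) : Matrix ι ι F) *ᵥ y) ∘ e.symm, by
      rw [Function.comp_assoc, Equiv.symm_comp_self, Function.comp_id, mulVec_mulVec, ← Units.val_mul,
        mul_inv_cancel, Units.val_one, one_mulVec]⟩
  have hact : ∀ g x, ((φ g : GL ι F) : Matrix ι ι F) *ᵥ ((P : Matrix ι ι F) *ᵥ (x ∘ e)) =
      (P : Matrix ι ι F) *ᵥ (((g : Matrix (Fin t → Fin k) (Fin t → Fin k) F) *ᵥ x) ∘ e) := by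
    intro g x
    show ((P * Cfsg.Geo.glReindex e.symm g * P⁻¹ : GL ι F) : Matrix ι ι F) *ᵥ _ = _
    rw [mulVec_mulVec, ← Units.val_mul, inv_mul_cancel_right, Units.val_mul, ← mulVec_mulVec]
    congr 1
    show ((g : Matrix (Fin t → Fin k) (Fin t → Fin k) F).submatrix e e) *ᵥ (x ∘ e) = _
    rw [Matrix.submatrix_mulVec_equiv, Function.comp_assoc, Equiv.self_comp_symm, Function.comp_id]
  have hI : (Cfsg.isometryGroup F (R.qft (Fin t))).map φ.toMonoidHom = Cfsg.isometryGroup F Q := by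
    ext g
    rw [Subgroup.mem_map_equiv, mem_isometry, mem_isometry]
    constructor
    · intro h y
      obtain ⟨x, rfl⟩ := hsurj y
      rw [← φ.apply_symm_apply g, hact, hqf, hqf, h x]
    · intro h x
      refine mul_left_cancel₀ hc ?_
      rw [← hqf, ← hqf, ← hact, MulEquiv.apply_symm_apply, h]
  have hΩ : (Cfsg.Geo.omegaGL (R.qft (Fin t))).map φ.toMonoidHom = Cfsg.Geo.omegaGL Q := by
    rw [omegaGL_comm, omegaGL_comm, Subgroup.map_commutator, hI]
  have hfull : R.Full ∨ t = 2 := by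
    by_cases h : 3 ≤ t
    · exact Or.inl (Or.inr h)
    · exact Or.inr (by omega)
  have hK : (Cfsg.Geo.tensorWreathStandard k t F ⊓ Cfsg.Geo.omegaGL (R.qft (Fin t))).map φ.toMonoidHom =
      Cfsg.Geo.tensorWreathSubgroup k t e P ⊓ Cfsg.Geo.omegaGL Q := by
    rw [Subgroup.map_inf _ _ _ φ.injective, hΩ, Cfsg.Geo.tensorWreathSubgroup, Subgroup.map_map]
    rfl
  have := isMaximalIn_map φ (Frm.isMaximalIn_standard (P := R) id hfull ht)
  rwa [hΩ, hK] at this

end Cfsg.Lib.Classical.OrthPow
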