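import Cfsg.Agent.Classical.OrthPow.Prim

/-!
# From a central element to a monomial one, and the commutator of two monomial elements
-/

set_option autoImplicit false
set_option linter.unusedSectionVars false
set_option linter.unusedSimpArgs false
set_option linter.style.haveILetI false

namespace Cfsg.Lib.Classical.OrthPow

open Matrix Finset
open scoped Kronecker MatrixGroups
open Cfsg.Lib.Classical.TensorOrth (sie)
open Cfsg.Lib.Classical.TensorPowLin (Rest tens tens_apply tens_mul tens_one slot slot_mul slot_one slot_smul slot_comm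
  In eq_scalar_of_comm eq_slot_of_comm perm perm_tens perm_mul perm_one)

universe u

variable {τ γ : Type} [Fintype τ] [DecidableEq τ] [Fintype γ] [DecidableEq γ] {F : Type u} [Field F]

theorem tens_update_sub (f : τ → Matrix γ γ F) (l : τ) (x y : Matrix γ γ F) :
    tens (Function.update f l x) - tens (Function.update f l y) = tens (Function.update f l (x - y)) := by
  ext a b
  simp only [Matrix.sub_apply, tens_apply, ← Finset.mul_prod_erase _ _ (Finset.mem_univ l), Function.update_self]
  have : ∀ z : Matrix γ γ F, ∏ j ∈ Finset.univ.erase l, Function.update f l z j (a j) (b j) =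
      ∏ j ∈ Finset.univ.erase l, f j (a j) (b j) := fun z =>
    Finset.prod_congr rfl fun j hj => by rw [Function.update_of_ne (Finset.ne_of_mem_erase hj)]
  rw [this, this, this, sub_mul]

theorem tens_update_smul' (f : τ → Matrix γ γ F) (l : τ) (c : F) (x : Matrix γ γ F) :
    tens (Function.update f l (c • x)) = c • tens (Function.update f l x) := by
  have := tens_update_smul (Function.update f l x) l c
  rwa [Function.update_self, Function.update_idem] at this

theorem slot_sandwich (f : τ → Matrix γ γ F) (l : τ) (x y : Matrix γ γ F) :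
    slot l x * tens f * slot l y = tens (Function.update f l (x * f l * y)) := by
  rw [slot, slot, tens_mul, tens_mul]
  congr 1
  funext j
  simp only [Pi.mul_apply]
  by_cases h : j = l
  · subst h; simp
  · simp [h]

/-- The commutator of two unipotent elements of class two. -/
theorem comm_two {R : Type*} [Ring R] {u v : R} (huu : u * u = 0) (hvv : v * v = 0) (huvu : u * v * u = 0)
    (hvuv : v * u * v = 0) : (1 + u) * (1 + v) * (1 - u) * (1 - v) = 1 + (u * v - v * u) := by
  have a1 : ∀ x, u * (u * x) = 0 := fun x => by rw [← mul_assoc, huu, zero_mul]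
  have a2 : ∀ x, v * (v * x) = 0 := fun x => by rw [← mul_assoc, hvv, zero_mul]
  have a3 : u * (v * u) = 0 := by rw [← mul_assoc, huvu]
  have a4 : v * (u * v) = 0 := by rw [← mul_assoc, hvuv]
  have a5 : ∀ x, u * (v * (u * x)) = 0 := fun x => by rw [← mul_assoc v, ← mul_assoc u, a3, zero_mul]
  simp only [add_mul, mul_add, sub_mul, mul_sub, one_mul, mul_one, mul_assoc, huu, hvv, a1, a2, a3, a4, a5, sub_zero,
    add_zero, zero_add, mul_zero]
  abel

/-- A product with a tensor is zero only if the factor is. -/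
theorem tens_cancel [Nonempty γ] {D : Matrix (τ → γ) (τ → γ) F} (I : Finset τ) (f : τ → Matrix γ γ F)
    (hf : ∀ l ∉ I, f l = 1) (h0 : ∀ l, f l ≠ 0) (hD : ∀ l ∈ I, CM l D) (h : D * tens f = 0) : D = 0 := by
  induction I using Finset.induction_on generalizing f with
  | empty =>
    rwa [show f = 1 from funext fun l => hf l (Finset.notMem_empty l), tens_one, mul_one] at h
  | insert a I ha ih =>
    have e : tens f = tens (Function.update f a 1) * slot a (f a) := by
      rw [tens_slot (Function.update_self _ _ _), Function.update_idem, Function.update_eq_self]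
    rw [e, ← mul_assoc] at h
    refine ih (Function.update f a 1) (fun l hl => ?_) (fun l => ?_) (fun l hl => hD l (Finset.mem_insert_of_mem hl))
      (cm_cancel (h0 a) ((hD a (Finset.mem_insert_self a I)).mul (cm_tens (Function.update_self _ _ _))) h)
    · by_cases hla : l = a
      · subst hla; rw [Function.update_self]
      · rw [Function.update_of_ne hla]; exact hf l (by simp [hla, hl])
    · by_cases hla : l = a
      · subst hla; rw [Function.update_self]; exact one_ne_zero
      · rw [Function.update_of_ne hla]; exact h0 l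

namespace Frm

variable (P : Frm γ F)

/-- The operator of a singular vector. -/
def EK (g : Matrix γ γ F) : Prop := ∃ e, e ≠ 0 ∧ P.B e e = 0 ∧ g = P.E e

/-- The skew operator of a singular and an orthogonal anisotropic vector. -/
def AK (g : Matrix γ γ F) : Prop := ∃ e f v, P.Pair e f ∧ P.Perp e f v ∧ P.B v v ≠ 0 ∧ g = P.wedge e v

variable {P}

theorem Fac.cases {g : Matrix γ γ F} (h : P.Fac g) : g = 1 ∨ P.EK g ∨ P.AK g := by
  cases h with
  | one => exact Or.inl rfl
  | E h0 he => exact Or.inr (Or.inl ⟨_, h0, he, rfl⟩)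
  | A hp hv hvv => exact Or.inr (Or.inr ⟨_, _, _, hp, hv, hvv, rfl⟩)

theorem EK.fac {g : Matrix γ γ F} (h : P.EK g) : P.Fac g := by
  obtain ⟨e, h0, he, rfl⟩ := h
  exact Fac.E h0 he

theorem AK.fac {g : Matrix γ γ F} (h : P.AK g) : P.Fac g := by
  obtain ⟨e, f, v, hp, hv, hvv, rfl⟩ := h
  exact Fac.A hp hv hvv

theorem wedge_ne {e f v : γ → F} (hp : P.Pair e f) (hv : P.Perp e f v) (hv0 : v ≠ 0) : P.wedge e v ≠ 0 := fun h0 => by
  have := congrArg (· *ᵥ f) h0
  simp only [wedge_mulVec, zero_mulVec, hv.right', hp.ef, zero_smul, zero_sub, one_smul, neg_eq_zero] at this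
  exact hv0 this

theorem Fac.ne_zero {g : Matrix γ γ F} (h : P.Fac g) : g ≠ 0 := by
  haveI := nonempty P
  cases h with
  | one => exact one_ne_zero
  | E h0 _ => exact E_ne_zero h0
  | A hp hv hvv => exact wedge_ne hp hv fun h0 => hvv (by rw [h0, B_zero_left])

theorem AK.adj {g : Matrix γ γ F} (h : P.AK g) : P.adj g = -g := by
  obtain ⟨e, f, v, -, -, -, rfl⟩ := h
  exact P.adj_wedge e v

theorem not_ak {g : Matrix γ γ F} (h : g = 1 ∨ P.EK g) : ¬ P.AK g := fun ha => by
  have h0 : g ≠ 0 := ha.fac.ne_zero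
  have e : P.adj g = g := by
    rcases h with rfl | ⟨e, -, -, rfl⟩
    · exact P.T.adjU_one
    · exact P.adj_E e
  have h1 := ha.adj
  rw [e] at h1
  have : (2 : F) • g = 0 := by rw [two_smul]; conv_lhs => arg 2; rw [h1]
                               exact add_neg_cancel g
  exact h0 ((smul_eq_zero.mp this).resolve_left P.two)

variable [Fintype F] {X : Subgroup (GL (τ → γ) F)}

/-- A monomial element of the group. -/
structure Mono (P : Frm γ F) (X : Subgroup (GL (τ → γ) F)) (c : F) (f : τ → Matrix γ γ F) : Prop where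
  c0 : c ≠ 0
  fac : ∀ l, P.Fac (f l)
  mem : In X (c • tens f)
  skew : P.dag (c • tens f) = -(c • tens f)
  hasE : ∃ i, P.EK (f i)

theorem Mono.exists_ak {c : F} {f : τ → Matrix γ γ F} (h : P.Mono X c f) : ∃ a, P.AK (f a) := by
  haveI := nonempty P
  by_contra hh
  push Not at hh
  have e : P.dag (c • tens f) = c • tens f := by
    rw [P.dag_smul, P.dag_tens]
    congr 2
    funext l
    rcases (h.fac l).cases with h1 | ⟨e, -, -, h1⟩ | h1
    · rw [h1]; exact P.T.adjU_one
    · rw [h1]; exact P.adj_E e
    · exact absurd h1 (hh l)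
  have h1 := h.skew
  rw [e] at h1
  have h2 : ((2 : F) * c) • tens f = 0 := by
    rw [mul_smul, two_smul]
    conv_lhs => arg 2; rw [h1]
    exact add_neg_cancel _
  exact tens_ne_zero (fun l => (h.fac l).ne_zero)
    ((smul_eq_zero.mp h2).resolve_left (mul_ne_zero P.two h.c0))

namespace Hyp

variable (hX : P.Hyp X)
include hX

theorem conj_all (h : τ → Matrix γ γ F) (hh : ∀ l, h l ∈ P.Grp) {M : Matrix (τ → γ) (τ → γ) F} (hM : In X M) :
    In X (tens h * M * tens fun l => P.adj (h l)) := by
  suffices key : ∀ I : Finset τ, In X ((tens fun l => if l ∈ I then h l else 1) * M *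
      tens fun l => if l ∈ I then P.adj (h l) else 1) by
    simpa using key Finset.univ
  intro I
  induction I using Finset.induction_on with
  | empty =>
    have e : tens (fun _ : τ => (1 : Matrix γ γ F)) = 1 := tens_one
    simpa [e] using hM
  | insert a I ha ih =>
    have := hX.slot_conj a (hh a) ih
    convert this using 1
    have e1 : (tens fun l => if l ∈ insert a I then h l else 1) =
        slot a (h a) * tens fun l => if l ∈ I then h l else 1 := by
      rw [slot, tens_mul]
      congr 1
      funext l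
      by_cases hl : l = a
      · subst hl; simp [ha]
      · simp [hl]
    have e2 : (tens fun l => if l ∈ insert a I then P.adj (h l) else 1) =
        (tens fun l => if l ∈ I then P.adj (h l) else 1) * slot a (P.adj (h a)) := by
      rw [slot, tens_mul]
      congr 1
      funext l
      by_cases hl : l = a
      · subst hl; simp [ha]
      · simp [hl]
    rw [e1, e2]
    simp only [mul_assoc]

theorem mono_conj {c : F} {f : τ → Matrix γ γ F} (h : τ → Matrix γ γ F) (hh : ∀ l, h l ∈ P.Grp)
    (hm : In X (c • tens f)) : In X (c • tens fun l => h l * f l * P.adj (h l)) := by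
  have := hX.conj_all h hh hm
  rw [mul_smul_comm, smul_mul_assoc, tens_mul, tens_mul] at this
  exact this

theorem mono_perm {c : F} {f : τ → Matrix γ γ F} {a b d : τ} (hab : a ≠ b) (hbd : b ≠ d) (had : a ≠ d)
    (hm : In X (c • tens f)) :
    In X (c • tens fun l => f ((Equiv.swap a b * Equiv.swap b d).symm l)) := by
  obtain ⟨g, hg, e⟩ := hX.cyc a b d hab hbd had
  have := In.conj' hg hm
  rw [hX.inv_eq hg, e, P.dag_perm, mul_smul_comm, smul_mul_assoc, perm_tens, mul_assoc, perm_mul, mul_inv_cancel,
    perm_one, mul_one] at this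
  exact this

theorem mono_of_cen {b : τ} {e : γ → F} (he : P.B e e = 0) (he0 : e ≠ 0) {k : F} (hk : k ≠ 0)
    {g : τ → Matrix γ γ F} (hgb : g b = 1) (hg : ∀ l, P.Fac (g l)) (h : k • tens g ∈ hX.cen b he) :
    P.Mono X k (Function.update g b (P.E e)) := by
  obtain ⟨hcm, hsk, hin⟩ := h
  refine ⟨hk, fun l => ?_, ?_, ?_, b, e, he0, he, Function.update_self _ _ _⟩
  · by_cases hl : l = b
    · subst hl; rw [Function.update_self]; exact Fac.E he0 he
    · rw [Function.update_of_ne hl]; exact hg l
  · rwa [smul_mul_assoc, tens_slot hgb] at hin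
  · rw [← tens_slot hgb, ← smul_mul_assoc, P.dag_mul, P.dag_slot, adj_E, hsk, mul_neg, (hcm (P.E e)).eq]

/-- A non-zero central element gives a monomial one. -/
theorem exists_mono {i : τ} {e : γ → F} (he : P.B e e = 0) (he0 : e ≠ 0) {M : Matrix (τ → γ) (τ → γ) F}
    (hM : M ∈ hX.cen i he) (hM0 : M ≠ 0) : ∃ c f, P.Mono X c f := by
  haveI := nonempty P
  suffices key : ∀ I : Finset τ, i ∉ I → ∃ (f : τ → Matrix γ γ F) (N : Matrix (τ → γ) (τ → γ) F),
      (∀ l ∉ I, f l = 1) ∧ (∀ l, P.Fac (f l)) ∧ (∀ l ∈ I, CM l N) ∧ CM i N ∧ N * tens f ∈ hX.cen i he ∧ N ≠ 0 by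
    obtain ⟨f, N, hf1, hf, hN, hNi, hin, hN0⟩ := key (Finset.univ.erase i) (Finset.notMem_erase i _)
    obtain ⟨c, rfl⟩ := eq_scalar_of_comm (M := N) fun l A => by
      by_cases hl : l = i
      · subst hl; exact hNi A
      · exact hN l (Finset.mem_erase.mpr ⟨hl, Finset.mem_univ l⟩) A
    rw [smul_one_mul] at hin
    exact ⟨c, _, hX.mono_of_cen he he0 (fun h0 => hN0 (by rw [h0, zero_smul]))
      (hf1 i (Finset.notMem_erase i _)) hf hin⟩
  intro I
  induction I using Finset.induction_on with
  | empty =>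
    intro _
    refine ⟨1, M, fun _ _ => rfl, fun _ => Fac.one, by simp, hM.1, ?_, hM0⟩
    rw [tens_one, mul_one]; exact hM
  | insert l I hl ih =>
    intro hi
    rw [Finset.mem_insert, not_or] at hi
    obtain ⟨f, N, hf1, hf, hN, hNi, hin, hN0⟩ := ih hi.2
    let S : AddSubgroup (Matrix (τ → γ) (τ → γ) F) :=
      { carrier := {Y | (∀ m ∈ I, CM m Y) ∧ CM i Y ∧ Y * tens f ∈ hX.cen i he}
        zero_mem' := ⟨fun _ _ => CM.zero, CM.zero, by rw [zero_mul]; exact zero_mem _⟩
        add_mem' := fun h h' => ⟨fun m hm => (h.1 m hm).add (h'.1 m hm), h.2.1.add h'.2.1, by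
          rw [add_mul]; exact add_mem h.2.2 h'.2.2⟩
        neg_mem' := fun h => ⟨fun m hm => (h.1 m hm).neg, h.2.1.neg, by rw [neg_mul]; exact neg_mem h.2.2⟩ }
    have hInv := hX.cen_inv hi.1 he he0
    have hS : P.Inv (slotHom l) S := by
      refine ⟨fun h hh Y hY => ⟨fun m hm => ?_, ?_, ?_⟩, fun w hw Y hY => ⟨fun m hm => (hY.1 m hm).smul w,
        hY.2.1.smul w, by rw [smul_mul_assoc]; exact hInv.smul w hw _ hY.2.2⟩⟩
      · have hml : m ≠ l := fun e => hl (e ▸ hm)
        exact CM.conj (CM.slot hml _) (CM.slot hml _) (hY.1 m hm)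
      · exact CM.conj (CM.slot hi.1 _) (CM.slot hi.1 _) hY.2.1
      · rw [slotHom_apply, slotHom_apply, mul_assoc, (cm_tens (hf1 l hl) _).eq, ← mul_assoc, mul_assoc _ Y]
        exact hInv.conj h hh _ hY.2.2
    have hpure : P.Full ∨ ∀ Y ∈ S, ∃ K N', CM l N' ∧ Y = N' * slot l K := by
      refine hX.full.imp id fun h2 Y hY => ?_
      obtain ⟨K, hK⟩ := eq_slot_of_comm (i := l) (M := Y) fun m hm A => by
        have : m = i := by
          by_contra hmi
          have := Finset.card_le_univ ({m, i, l} : Finset τ)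
          rw [Finset.card_eq_three.mpr ⟨m, i, l, hmi, hm, hi.1, rfl⟩] at this
          omega
        subst this
        exact hY.2.1 A
      exact ⟨K, 1, CM.one, by rw [one_mul]; exact hK⟩
    obtain ⟨g, N', hg, hN', hgS, hg0⟩ := refine_slot hS hpure (show N ∈ S from ⟨hN, hNi, hin⟩) hN0
    obtain ⟨h1, h2, h3⟩ := hgS
    have hdown : ∀ m, m ≠ l → CM m (N' * slot l g) → CM m N' := fun m hm h A => by
      refine sub_eq_zero.mp (cm_cancel (l := l) hg.ne_zero
        (((CM.slot hm.symm A).mul hN').sub (hN'.mul (CM.slot hm.symm A))) ?_)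
      rw [sub_mul, sub_eq_zero, mul_assoc, mul_assoc, (slot_comm hm A g).eq, ← mul_assoc N' (slot l g), ← (h A).eq]
    refine ⟨Function.update f l g, N', fun m hm => ?_, fun m => ?_, fun m hm => ?_, hdown i hi.1 h2, ?_, ?_⟩
    · rw [Finset.mem_insert, not_or] at hm
      rw [Function.update_of_ne hm.1]; exact hf1 m hm.2
    · by_cases hml : m = l
      · subst hml; rw [Function.update_self]; exact hg
      · rw [Function.update_of_ne hml]; exact hf m
    · rcases Finset.mem_insert.mp hm with rfl | hm
      · exact hN'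
      · exact hdown m (fun e => hl (e ▸ hm)) (h1 m hm)
    · rwa [← tens_slot (hf1 l hl), ← (cm_tens (hf1 l hl) g).eq, ← mul_assoc]
    · exact fun h0 => hg0 (by rw [h0, zero_mul])

theorem top_all {b : τ} {e : γ → F} (he : P.B e e = 0) (he0 : e ≠ 0) (q : τ → Matrix γ γ F) (hb : q b = 1)
    (hq : ∀ l, q l = 1 ∨ ∃ g f, P.Pair g f ∧ q l = P.E g) {M : Matrix (τ → γ) (τ → γ) F}
    (hM : M ∈ hX.cen b he) : ∃ κ : F, κ ≠ 0 ∧ κ • (tens q * M * tens q) ∈ hX.cen b he := by
  suffices key : ∀ I : Finset τ, ∃ κ : F, κ ≠ 0 ∧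
      κ • ((tens fun l => if l ∈ I then q l else 1) * M * tens fun l => if l ∈ I then q l else 1) ∈ hX.cen b he by
    simpa using key Finset.univ
  intro I
  induction I using Finset.induction_on with
  | empty =>
    have e : tens (fun _ : τ => (1 : Matrix γ γ F)) = 1 := tens_one
    exact ⟨1, one_ne_zero, by simpa [e] using hM⟩
  | insert a I ha ih =>
    obtain ⟨κ, hκ, hin⟩ := ih
    rcases hq a with h1 | ⟨g, f, hp, h1⟩
    · refine ⟨κ, hκ, ?_⟩
      have e1 : (fun l => if l ∈ insert a I then q l else 1) = fun l => if l ∈ I then q l else 1 := funext fun l => by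
        by_cases hl : l = a
        · subst hl; simp [h1, ha]
        · simp [hl]
      rwa [e1]
    · have hab : b ≠ a := fun h => E_ne_zero hp.ne (by
        have hE : P.E g = 1 := by rw [← h1, ← h, hb]
        have h2 := (wedge_E hp.ee hp.ee).2.2
        rw [hE, one_mul] at h2
        rw [hE, h2])
      obtain ⟨κ', hκ', hin'⟩ := (hX.cen_inv hab he he0).top_mem hp hin
      refine ⟨κ' * κ, mul_ne_zero hκ' hκ, ?_⟩
      convert hin' using 1
      have e1 : (tens fun l => if l ∈ insert a I then q l else 1) =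
          slot a (P.E g) * tens fun l => if l ∈ I then q l else 1 := by
        rw [slot, tens_mul]
        congr 1
        funext l
        by_cases hl : l = a
        · subst hl; simp [ha, h1]
        · simp [hl]
      have e2 : (tens fun l => if l ∈ insert a I then q l else 1) =
          (tens fun l => if l ∈ I then q l else 1) * slot a (P.E g) := by
        rw [slot, tens_mul]
        congr 1
        funext l
        by_cases hl : l = a
        · subst hl; simp [ha, h1]
        · simp [hl]
      conv_lhs => arg 2; arg 1; rw [e1]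
      conv_lhs => arg 2; arg 2; rw [e2]
      simp only [slotHom_apply, mul_smul_comm, smul_mul_assoc, smul_smul, mul_assoc]

set_option maxHeartbeats 1000000 in
/-- The commutator of two monomials, cut down to a monomial. -/
theorem step {a b : τ} (hab : a ≠ b) {e : γ → F} (he : P.B e e = 0) (he0 : e ≠ 0) {c c' : F} (hc : c ≠ 0)
    (hc' : c' ≠ 0) {f f' q y : τ → Matrix γ γ F} {r : τ → F} (hr : ∀ l, l ≠ a → r l ≠ 0)
    (hu : In X (c • tens f)) (hv : In X (c' • tens f')) (hsu : P.dag (c • tens f) = -(c • tens f))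
    (hsv : P.dag (c' • tens f') = -(c' • tens f')) (z1 : ∃ l, f l * f l = 0) (z2 : ∃ l, f' l * f' l = 0)
    (z3 : ∃ l, f l * f' l * f l = 0) (z4 : ∃ l, f' l * f l * f' l = 0)
    (hq : ∀ l, q l = 1 ∨ ∃ g f₀, P.Pair g f₀ ∧ q l = P.E g) (hqb : q b = 1) (hyb : y b = 1)
    (hb : f b * f' b = r b • P.E e) (hb' : f' b * f b = r b • P.E e)
    (hl : ∀ l, l ≠ a → l ≠ b → q l * (f l * f' l) * q l = r l • y l)
    (hl' : ∀ l, l ≠ a → l ≠ b → q l * (f' l * f l) * q l = r l • y l) :
    ∃ k : F, k ≠ 0 ∧ k • tens (Function.update y a (q a * (f a * f' a - f' a * f a) * q a)) ∈ hX.cen b he := by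
  haveI := nonempty P
  have zz : ∀ g g' : τ → Matrix γ γ F, (∃ l, g l * g' l = 0) → tens g * tens g' = 0 := fun g g' ⟨l, h⟩ => by
    rw [tens_mul]; exact tens_eq_zero _ l h
  set u := c • tens f with hudef
  set v := c' • tens f' with hvdef
  have huu : u * u = 0 := by rw [hudef, smul_mul_smul_comm, zz _ _ z1, smul_zero]
  have hvv : v * v = 0 := by rw [hvdef, smul_mul_smul_comm, zz _ _ z2, smul_zero]
  have huvu : u * v * u = 0 := by
    rw [hudef, hvdef, smul_mul_smul_comm, smul_mul_smul_comm, tens_mul,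
      zz _ _ (by simpa only [Pi.mul_apply] using z3), smul_zero]
  have hvuv : v * u * v = 0 := by
    rw [hudef, hvdef, smul_mul_smul_comm, smul_mul_smul_comm, tens_mul,
      zz _ _ (by simpa only [Pi.mul_apply] using z4), smul_zero]
  have hC : In X (u * v - v * u) := by
    obtain ⟨g, hg, eg⟩ := hu
    obtain ⟨g', hg', eg'⟩ := hv
    have hi : ((g⁻¹ : GL (τ → γ) F) : Matrix (τ → γ) (τ → γ) F) = 1 - u :=
      Units.inv_eq_of_mul_eq_one_right (by
        rw [eg, add_mul, one_mul, mul_sub, mul_one, huu, sub_zero, sub_add_cancel])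
    have hi' : ((g'⁻¹ : GL (τ → γ) F) : Matrix (τ → γ) (τ → γ) F) = 1 - v :=
      Units.inv_eq_of_mul_eq_one_right (by
        rw [eg', add_mul, one_mul, mul_sub, mul_one, hvv, sub_zero, sub_add_cancel])
    refine ⟨g * g' * g⁻¹ * g'⁻¹, mul_mem (mul_mem (mul_mem hg hg') (inv_mem hg)) (inv_mem hg'), ?_⟩
    rw [Units.val_mul, Units.val_mul, Units.val_mul, hi, hi', eg, eg', comm_two huu hvv huvu hvuv]
  set W : Matrix (τ → γ) (τ → γ) F := (c * c' * r b) •
    (tens (Function.update (f * f') b 1) - tens (Function.update (f' * f) b 1)) with hW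
  have hWb : CM b W := ((cm_tens (Function.update_self _ _ _)).sub (cm_tens (Function.update_self _ _ _))).smul _
  have hWE : W * slot b (P.E e) = u * v - v * u := by
    rw [hW, smul_mul_assoc, sub_mul, tens_slot (Function.update_self _ _ _), tens_slot (Function.update_self _ _ _),
      Function.update_idem, Function.update_idem, hudef, hvdef, smul_mul_smul_comm, smul_mul_smul_comm, tens_mul,
      tens_mul, mul_comm c' c, ← smul_sub]
    have e1 : tens (f * f') = r b • tens (Function.update (f * f') b (P.E e)) := by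
      rw [← tens_update_smul', ← hb]; congr 1; exact (Function.update_eq_self b (f * f')).symm
    have e2 : tens (f' * f) = r b • tens (Function.update (f' * f) b (P.E e)) := by
      rw [← tens_update_smul', ← hb']; congr 1; exact (Function.update_eq_self b (f' * f)).symm
    rw [e1, e2, ← smul_sub, smul_smul]
  have hWmem : W ∈ hX.cen b he := by
    refine ⟨hWb, ?_, hWE ▸ hC⟩
    have h1 : P.dag (u * v - v * u) = -(u * v - v * u) := by
      rw [P.dag_sub, P.dag_mul, P.dag_mul, hsu, hsv, neg_mul_neg, neg_mul_neg, neg_sub]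
    rw [← hWE, P.dag_mul, P.dag_slot, adj_E, ((P.cm_dag hWb) (P.E e)).eq, ← neg_mul, ← sub_eq_zero, ← sub_mul] at h1
    exact sub_eq_zero.mp (cm_cancel (E_ne_zero he0) ((P.cm_dag hWb).sub hWb.neg) h1)
  obtain ⟨κ, hκ, hin⟩ := hX.top_all he he0 q hqb hq hWmem
  set Ra : F := ∏ l, (if l = a ∨ l = b then 1 else r l) with hRa
  refine ⟨κ * (c * c' * r b) * Ra, mul_ne_zero (mul_ne_zero hκ (mul_ne_zero (mul_ne_zero hc hc') (hr b hab.symm)))
    (Finset.prod_ne_zero_iff.mpr fun l _ => ?_), ?_⟩
  · split_ifs with h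
    · exact one_ne_zero
    · exact hr l fun h' => h (Or.inl h')
  have key : ∀ g : τ → Matrix γ γ F, g b = 1 → (∀ l, l ≠ a → l ≠ b → q l * g l * q l = r l • y l) →
      tens q * tens g * tens q = Ra • tens (Function.update y a (q a * g a * q a)) := by
    intro g hgb hg
    rw [hRa, ← tens_smul, tens_mul, tens_mul]
    congr 1
    funext l
    simp only [Pi.mul_apply]
    by_cases hla : l = a
    · subst hla; simp
    · by_cases hlb : l = b
      · subst hlb; simp [hla, hgb, hqb, hyb]
      · simp [hla, hlb, hg l hla hlb]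
  rw [hW, mul_smul_comm, smul_mul_assoc, mul_sub, sub_mul,
    key _ (Function.update_self _ _ _) (fun l h1 h2 => by rw [Function.update_of_ne h2]; exact hl l h1 h2),
    key _ (Function.update_self _ _ _) (fun l h1 h2 => by rw [Function.update_of_ne h2]; exact hl' l h1 h2),
    Function.update_of_ne hab, Function.update_of_ne hab, ← smul_sub, tens_update_sub, smul_smul, smul_smul] at hin
  rw [mul_sub, sub_mul]
  exact hin

end Hyp

end Frm

end Cfsg.Lib.Classical.OrthPow
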