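import Cfsg.Agent.Classical.OrthPow.Fix

/-!
# No nilpotent central parts: the congruence levels
-/

set_option autoImplicit false
set_option linter.unusedSectionVars false
set_option linter.unusedSimpArgs false
set_option linter.style.haveILetI false

namespace Cfsg.Lib.Classical.OrthPow

open Matrix Finset
open scoped Kronecker MatrixGroups
open Cfsg.Lib.Classical.TensorOrth (TForm inc inc_sub inc_add inc_smul inc_mul_ev kron_mul_inc sie sie_mul sie_cube
  sie_mul_neg sie_neg_mul sie_zero)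
open Cfsg.Lib.Classical.TensorPowLin (Rest)

universe u

section level

variable {R S : Type*} [Ring R] [Ring S] (M : Submonoid R) (κ : R) (ι : S →+* R)

/-- The first coefficients of the elements congruent to one modulo `κ ^ m`. -/
def Lev (m : ℕ) : Set S := {D | ∃ g ∈ M, ∃ Y, Commute Y κ ∧ g = 1 + κ ^ m * (ι D + κ * Y)}

variable {M κ ι} (hc : ∀ D, Commute κ (ι D)) (hinv : ∀ g ∈ M, ∃ g' ∈ M, g * g' = 1 ∧ g' * g = 1)

theorem Lev.zero (m : ℕ) : (0 : S) ∈ Lev M κ ι m :=
  ⟨1, one_mem M, 0, Commute.zero_left κ, by rw [map_zero, mul_zero, add_zero, mul_zero, add_zero]⟩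

theorem one_add_mul_one_add {a W W' : R} (h : W * a = a * W) :
    (1 + a * W) * (1 + a * W') = 1 + a * (W + W' + a * (W * W')) := by
  have e : a * W * (a * W') = a * (a * (W * W')) := by
    rw [mul_assoc a W, ← mul_assoc W a, h, mul_assoc a W W']
  rw [mul_add, mul_one, add_mul, one_mul, e, mul_add, mul_add]
  abel

theorem inv_expand {a W g' : R} (h : W * a = a * W) (h1 : (1 + a * W) * g' = 1) :
    g' = 1 + a * (-W + a * (W * W * g')) := by
  rw [add_mul, one_mul] at h1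
  have e1 : g' = 1 - a * W * g' := eq_sub_of_add_eq h1
  have e2 : a * W * (a * W * g') = a * (a * (W * W * g')) := by
    simp only [mul_assoc]
    rw [← mul_assoc W a, h, mul_assoc a W]
  calc g' = 1 - a * W * (1 - a * W * g') := by rw [← e1, ← e1]
    _ = _ := by rw [mul_sub, mul_one, e2, mul_add, mul_neg]; abel

theorem comm_inverse {u v : R} (hu : Commute u κ) (huv : u * v = 1) (hvu : v * u = 1) : Commute v κ := by
  calc v * κ = v * κ * (u * v) := by rw [huv, mul_one]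
    _ = v * u * κ * v := by rw [← mul_assoc, mul_assoc v κ, ← hu.eq, ← mul_assoc v]
    _ = κ * v := by rw [hvu, one_mul]

include hc

theorem Lev.add {m : ℕ} {D D' : S} (h : D ∈ Lev M κ ι (m + 1)) (h' : D' ∈ Lev M κ ι (m + 1)) :
    D + D' ∈ Lev M κ ι (m + 1) := by
  obtain ⟨g, hg, Y, hY, rfl⟩ := h
  obtain ⟨g', hg', Y', hY', rfl⟩ := h'
  have hW : ∀ (D : S) (Y : R), Commute Y κ → Commute (ι D + κ * Y) κ := fun D Y hY =>
    ((hc D).symm).add_left ((Commute.refl κ).mul_left hY)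
  refine ⟨_, mul_mem hg hg', Y + Y' + κ ^ m * ((ι D + κ * Y) * (ι D' + κ * Y')),
    (hY.add_left hY').add_left (((Commute.refl κ).pow_left m).mul_left ((hW D Y hY).mul_left (hW D' Y' hY'))), ?_⟩
  rw [one_add_mul_one_add ((hW D Y hY).pow_right (m + 1)).eq, map_add]
  congr 2
  rw [mul_add κ, mul_add κ, ← mul_assoc κ (κ ^ m), ← pow_succ']
  abel

include hinv

theorem Lev.neg {m : ℕ} {D : S} (h : D ∈ Lev M κ ι (m + 1)) : -D ∈ Lev M κ ι (m + 1) := by
  obtain ⟨g, hg, Y, hY, rfl⟩ := h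
  obtain ⟨g', hg', h1, h2⟩ := hinv _ hg
  have hW : Commute (ι D + κ * Y) κ := ((hc D).symm).add_left ((Commute.refl κ).mul_left hY)
  have hκ' : Commute g' κ :=
    comm_inverse ((Commute.one_left κ).add_left (((Commute.refl κ).pow_left _).mul_left hW)) h1 h2
  refine ⟨g', hg', -Y + κ ^ m * ((ι D + κ * Y) * (ι D + κ * Y) * g'), (hY.neg_left).add_left
    (((Commute.refl κ).pow_left m).mul_left ((hW.mul_left hW).mul_left hκ')), ?_⟩
  refine (inv_expand (hW.pow_right (m + 1)).eq h1).trans ?_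
  congr 2
  rw [map_neg, mul_add κ, mul_neg, ← mul_assoc κ (κ ^ m), ← pow_succ']
  abel

theorem Lev.comm {m n : ℕ} {D D' : S} (h : D ∈ Lev M κ ι (m + 1)) (h' : D' ∈ Lev M κ ι (n + 1)) :
    D * D' - D' * D ∈ Lev M κ ι (m + n + 2) := by
  obtain ⟨g, hg, Y, hY, rfl⟩ := h
  obtain ⟨g', hg', Y', hY', rfl⟩ := h'
  obtain ⟨a, ha, a1, a2⟩ := hinv _ hg
  obtain ⟨b, hb, b1, b2⟩ := hinv _ hg'
  have hW : Commute (ι D + κ * Y) κ := ((hc D).symm).add_left ((Commute.refl κ).mul_left hY)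
  have hW' : Commute (ι D' + κ * Y') κ := ((hc D').symm).add_left ((Commute.refl κ).mul_left hY')
  have hca : Commute a κ :=
    comm_inverse ((Commute.one_left κ).add_left (((Commute.refl κ).pow_left _).mul_left hW)) a1 a2
  have hcb : Commute b κ :=
    comm_inverse ((Commute.one_left κ).add_left (((Commute.refl κ).pow_left _).mul_left hW')) b1 b2
  set Z := ι D * Y' + Y * ι D' + κ * (Y * Y') - (ι D' * Y + Y' * ι D + κ * (Y' * Y)) with hZ
  have hcZ : Commute Z κ :=
    ((((hc D).symm.mul_left hY').add_left (hY.mul_left (hc D').symm)).add_left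
      ((Commute.refl κ).mul_left (hY.mul_left hY'))).sub_left
      ((((hc D').symm.mul_left hY).add_left (hY'.mul_left (hc D).symm)).add_left
      ((Commute.refl κ).mul_left (hY'.mul_left hY)))
  have hWW : (ι D + κ * Y) * (ι D' + κ * Y') - (ι D' + κ * Y') * (ι D + κ * Y) = ι (D * D' - D' * D) + κ * Z := by
    have s1 : ι D * (κ * Y') = κ * (ι D * Y') := by rw [← mul_assoc, ← (hc D).eq, mul_assoc]
    have s2 : ι D' * (κ * Y) = κ * (ι D' * Y) := by rw [← mul_assoc, ← (hc D').eq, mul_assoc]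
    have s3 : Y * (κ * Y') = κ * (Y * Y') := by rw [← mul_assoc, hY.eq, mul_assoc]
    have s4 : Y' * (κ * Y) = κ * (Y' * Y) := by rw [← mul_assoc, hY'.eq, mul_assoc]
    rw [hZ, map_sub, map_mul, map_mul]
    simp only [mul_add, add_mul, mul_sub, mul_assoc, s1, s2, s3, s4]
    abel
  have hmain : ∀ W W' : R, W * κ ^ (n + 1) = κ ^ (n + 1) * W → W' * κ ^ (m + 1) = κ ^ (m + 1) * W' →
      (1 + κ ^ (m + 1) * W) * (1 + κ ^ (n + 1) * W') - (1 + κ ^ (n + 1) * W') * (1 + κ ^ (m + 1) * W) =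
        κ ^ (m + n + 2) * (W * W' - W' * W) := by
    intro W W' h1 h2
    have h3 : κ ^ (m + 1) * W * (κ ^ (n + 1) * W') = κ ^ (m + n + 2) * (W * W') := by
      rw [mul_assoc, ← mul_assoc W, h1, mul_assoc _ W, ← mul_assoc, ← pow_add]
      ring_nf
    have h4 : κ ^ (n + 1) * W' * (κ ^ (m + 1) * W) = κ ^ (m + n + 2) * (W' * W) := by
      rw [mul_assoc, ← mul_assoc W', h2, mul_assoc _ W', ← mul_assoc, ← pow_add]
      ring_nf
    rw [mul_sub, ← h3, ← h4, mul_add, mul_add, mul_one, mul_one, add_mul, add_mul, one_mul, one_mul]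
    abel
  have hab : ∃ U, Commute U κ ∧ a * b = 1 + κ * U := by
    have ea := inv_expand (hW.pow_right (m + 1)).eq a1
    have eb := inv_expand (hW'.pow_right (n + 1)).eq b1
    set U₁ := κ ^ m * (-(ι D + κ * Y) + κ ^ (m + 1) * ((ι D + κ * Y) * (ι D + κ * Y) * a)) with hU₁
    set U₂ := κ ^ n * (-(ι D' + κ * Y') + κ ^ (n + 1) * ((ι D' + κ * Y') * (ι D' + κ * Y') * b)) with hU₂
    have c1 : Commute U₁ κ := ((Commute.refl κ).pow_left m).mul_left
      (hW.neg_left.add_left (((Commute.refl κ).pow_left _).mul_left ((hW.mul_left hW).mul_left hca)))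
    have c2 : Commute U₂ κ := ((Commute.refl κ).pow_left n).mul_left
      (hW'.neg_left.add_left (((Commute.refl κ).pow_left _).mul_left ((hW'.mul_left hW').mul_left hcb)))
    refine ⟨U₁ + U₂ + κ * (U₁ * U₂), (c1.add_left c2).add_left ((Commute.refl κ).mul_left (c1.mul_left c2)), ?_⟩
    have ea' : a = 1 + κ * U₁ := by rw [hU₁, ← mul_assoc, ← pow_succ']; exact ea
    have eb' : b = 1 + κ * U₂ := by rw [hU₂, ← mul_assoc, ← pow_succ']; exact eb
    rw [ea', eb', one_add_mul_one_add c1.eq]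
  obtain ⟨U, hcU, hab⟩ := hab
  have hV : Commute (ι (D * D' - D' * D) + κ * Z) κ := ((hc _).symm).add_left ((Commute.refl κ).mul_left hcZ)
  refine ⟨(1 + κ ^ (m + 1) * (ι D + κ * Y)) * (1 + κ ^ (n + 1) * (ι D' + κ * Y')) * a * b,
    mul_mem (mul_mem (mul_mem hg hg') ha) hb, Z + (ι (D * D' - D' * D) + κ * Z) * U,
    hcZ.add_left (hV.mul_left hcU), ?_⟩
  have e0 : (1 + κ ^ (n + 1) * (ι D' + κ * Y')) * (1 + κ ^ (m + 1) * (ι D + κ * Y)) * a * b = 1 := by
    rw [mul_assoc _ (1 + κ ^ (m + 1) * (ι D + κ * Y)), a1, mul_one, b1]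
  calc _ = 1 + κ ^ (m + n + 2) * (ι (D * D' - D' * D) + κ * Z) * (a * b) := by
        rw [← hWW, ← hmain _ _ (hW.pow_right _).eq (hW'.pow_right _).eq, sub_mul, ← mul_assoc, ← mul_assoc, e0,
          add_sub_cancel]
    _ = _ := by
        have e2 : ∀ V : R, Commute V κ → V * (1 + κ * U) = V + κ * (V * U) := fun V hV => by
          rw [mul_add, mul_one, ← mul_assoc, hV.eq, mul_assoc]
        rw [hab, mul_assoc, e2 _ hV, mul_add κ]
        abel_nf

end level

variable {τ γ : Type} [Fintype τ] [DecidableEq τ] [Fintype γ] [DecidableEq γ] {F : Type u} [Field F]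

namespace Frm

set_option maxHeartbeats 1000000

variable {P : Frm γ F} [Fintype F] {X : Subgroup (GL (τ → γ) F)} {j : τ}

/-- The central part of a stabilising element is trivial. -/
theorem Good.ZM_kron_zero (hG : P.Good X) {e : γ → F} (he : P.B e e = 0) (he0 : e ≠ 0)
    {A K : Matrix (Rest j → γ) (Rest j → γ) F} (hA : (P.Tj j).adjU A * A = 1) (hK : (P.Tj j).adjU K = -K)
    (hm : Mem X j ((A ⊗ₖ (1 : Matrix γ γ F)) * (P.Tj j).ZM e K)) : K = 0 := by
  set T := P.Tj j with hT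
  obtain ⟨f, hp⟩ := exists_partner' he0 he
  by_cases hlev : ∃ ρ h, P.Levi e f ρ h ∧ ρ * ρ ≠ 1
  · obtain ⟨ρ, h, hl, hρ⟩ := hlev
    have hAA : A * T.adjU A = 1 := mul_eq_one_comm.mp hA
    have hk : ∀ B : Matrix γ γ F, ((T.adjU A ⊗ₖ (1 : Matrix γ γ F)) *
        ((1 : Matrix (Rest j → γ) (Rest j → γ) F) ⊗ₖ B)) =
        ((1 : Matrix (Rest j → γ) (Rest j → γ) F) ⊗ₖ B) * (T.adjU A ⊗ₖ (1 : Matrix γ γ F)) := fun B => by
      rw [← mul_kronecker_mul, ← mul_kronecker_mul, Matrix.one_mul, Matrix.mul_one, Matrix.one_mul, Matrix.mul_one]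
    have h1 := ((hm.mul (Mem.slot₂ hG.hyp hl.mem)).mul (hm.adj hG.hyp)).mul
      (Mem.slot₂ hG.hyp (Grp.adj_mem hl.mem))
    have e1 : T.ZM (h *ᵥ e) (-K) = T.ZM e ((ρ * ρ) • (-K)) := by
      rw [TForm.ZM, TForm.ZM, TForm.pr, TForm.pr, inc_mul_ev, inc_mul_ev, hl.he]
      congr 1
      rw [show vecMulVec (ρ • e) (T.G₂ *ᵥ (ρ • e)) = (ρ * ρ) • vecMulVec e (T.G₂ *ᵥ e) by
        rw [mulVec_smul, smul_vecMulVec, vecMulVec_smul, smul_smul], kronecker_smul, smul_kronecker]
    have e2 : (A ⊗ₖ (1 : Matrix γ γ F)) * T.ZM e K * ((1 : Matrix (Rest j → γ) (Rest j → γ) F) ⊗ₖ h) *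
        T.adjV ((A ⊗ₖ (1 : Matrix γ γ F)) * T.ZM e K) *
        ((1 : Matrix (Rest j → γ) (Rest j → γ) F) ⊗ₖ P.adj h) = T.ZM e (A * (K + (ρ * ρ) • (-K)) * T.adjU A) := by
      rw [T.adjV_mul, T.ZM_adj, hK, P.Tj_adj_one, ← hT, ← ZM_kron hA, ← hT, ← T.ZM_mul he, ← e1, ← ZM_conj₂ (-K) hl.mem,
        ← hT]
      simp only [Matrix.mul_assoc, hk]
    rw [← hT, e2] at h1
    have h2 := hG.ZM_zero he he0 (by
      rw [T.adjU_mul, T.adjU_mul, T.adjU_adjU, T.adjU_add, T.adjU_smul, adjU_neg', ← hT, hK, neg_neg, ← Matrix.mul_assoc,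
        show -K + (ρ * ρ) • K = -(K + (ρ * ρ) • -K) by module, Matrix.mul_neg, Matrix.neg_mul]) h1
    have h3 : K + (ρ * ρ) • (-K) = 0 := by
      have := congrArg (fun M => T.adjU A * M * A) h2
      beta_reduce at this
      rwa [Matrix.mul_assoc (T.adjU A), Matrix.mul_assoc (A * _), hA, Matrix.mul_one, ← Matrix.mul_assoc, hA,
        Matrix.one_mul, Matrix.mul_zero, Matrix.zero_mul] at this
    have h4 : (1 - ρ * ρ) • K = 0 := by rw [← h3]; module
    exact (smul_eq_zero.mp h4).resolve_left (sub_ne_zero.mpr (Ne.symm hρ))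
  push Not at hlev
  -- the field is a prime field
  have hprime : ∀ w : F, ∃ n : ℕ, (n : F) = w := by
    classical
    have h4c : ∀ c : F, c ≠ 0 → c ^ 4 = 1 := fun c hc => by
      obtain ⟨h, hh, -⟩ := exists_levi_sq hp hc
      rw [← hlev _ h hh]
      ring
    have hle : Fintype.card F ≤ 5 := by
      have h1 : (Finset.univ.erase (0 : F)) ⊆ (Polynomial.X ^ 4 - 1 : Polynomial F).roots.toFinset := fun c hc => by
        have h0 : (Polynomial.X ^ 4 - 1 : Polynomial F) ≠ 0 := by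
          rw [← Polynomial.C_1]; exact Polynomial.X_pow_sub_C_ne_zero (by norm_num) 1
        rw [Multiset.mem_toFinset, Polynomial.mem_roots h0]
        simp [h4c c (Finset.ne_of_mem_erase hc)]
      have h2 := (Finset.card_le_card h1).trans (Multiset.toFinset_card_le _)
      have h3 := Polynomial.card_roots' (Polynomial.X ^ 4 - 1 : Polynomial F)
      rw [show (Polynomial.X ^ 4 - 1 : Polynomial F).natDegree = 4 by rw [← Polynomial.C_1]; exact Polynomial.natDegree_X_pow_sub_C] at h3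
      rw [Finset.card_erase_of_mem (Finset.mem_univ _), Finset.card_univ] at h2
      omega
    obtain ⟨p, hp⟩ := CharP.exists F
    obtain ⟨n, hpn, hcard⟩ := FiniteField.card F p
    have hp3 : 3 ≤ p := by
      rcases hpn.eq_two_or_odd with h | h
      · subst h
        exact absurd (CharP.cast_eq_zero F 2) (by exact_mod_cast P.two)
      · have := hpn.two_le
        omega
    have hcp : Fintype.card F = p := by
      have hn1 : (n : ℕ) < 2 := by
        by_contra hn
        have : 3 ^ 2 ≤ p ^ (n : ℕ) := (Nat.pow_le_pow_left hp3 2).trans (Nat.pow_le_pow_right (by omega) (by omega))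
        omega
      have := n.pos
      rw [hcard, show (n : ℕ) = 1 by omega, pow_one]
    intro w
    have hinj : Function.Injective fun i : Fin p => ((i : ℕ) : F) := fun a b h => by
      have := (CharP.natCast_eq_natCast F p).mp h
      rw [Nat.ModEq, Nat.mod_eq_of_lt a.2, Nat.mod_eq_of_lt b.2] at this
      exact Fin.ext this
    obtain ⟨i, hi⟩ := ((Fintype.bijective_iff_injective_and_card _).mpr ⟨hinj, by simp [hcp]⟩).2 w
    exact ⟨i, hi⟩
  by_contra hne
  obtain ⟨K, ⟨hK, A, hA, hm⟩, hK0, ⟨N, hN⟩⟩ := CK.nilpotent hG.hyp he hK hA hm hne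
  have hAA : A * T.adjU A = 1 := mul_eq_one_comm.mp hA
  let L : Matrix ((Rest j → γ) × γ) ((Rest j → γ) × γ) F := A ⊗ₖ 1
  let L' : Matrix ((Rest j → γ) × γ) ((Rest j → γ) × γ) F := T.adjU A ⊗ₖ 1
  have hLL : L * L' = 1 := by
    simp only [L, L', ← mul_kronecker_mul, hAA, Matrix.one_mul, one_kronecker_one]
  have hLL' : L' * L = 1 := mul_eq_one_comm.mp hLL
  let M : Submonoid (Matrix ((Rest j → γ) × γ) ((Rest j → γ) × γ) F) :=
    { carrier := {g | Mem X j (L * g * L')}
      one_mem' := by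
        show Mem X j (L * 1 * L')
        rw [Matrix.mul_one, hLL]
        exact Mem.one
      mul_mem' := fun {a b} ha hb => by
        show Mem X j (L * (a * b) * L')
        convert Mem.mul ha hb using 1
        simp only [Matrix.mul_assoc]
        rw [← Matrix.mul_assoc L' L, hLL', Matrix.one_mul] }
  have hinv : ∀ g ∈ M, ∃ g' ∈ M, g * g' = 1 ∧ g' * g = 1 := by
    intro g hg
    have hi := Mem.iso hG.hyp hg
    have hg' : L' * (L * g * L') * L = g := by
      simp only [← Matrix.mul_assoc, hLL', Matrix.one_mul]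
      rw [Matrix.mul_assoc, hLL', Matrix.mul_one]
    have h2 : L' * T.adjV (L * g * L') * L * g = 1 := by
      conv_lhs => arg 2; rw [← hg']
      calc _ = L' * T.adjV (L * g * L') * (L * L') * (L * g * L') * L := by simp only [Matrix.mul_assoc]
        _ = 1 := by rw [hLL, Matrix.mul_one, Matrix.mul_assoc L', show T.adjV (L * g * L') * _ = 1 from hi,
          Matrix.mul_one, hLL']
    refine ⟨L' * T.adjV (L * g * L') * L, ?_, mul_eq_one_comm.mp h2, h2⟩
    show Mem X j (L * (L' * T.adjV (L * g * L') * L) * L')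
    simp only [← Matrix.mul_assoc, hLL, Matrix.one_mul]
    rw [Matrix.mul_assoc (T.adjV _), hLL, Matrix.mul_one]
    exact Mem.adj hG.hyp hg
  let κ : Matrix ((Rest j → γ) × γ) ((Rest j → γ) × γ) F := K ⊗ₖ 1
  let ι : Matrix γ γ F →+* Matrix ((Rest j → γ) × γ) ((Rest j → γ) × γ) F :=
    { toFun := fun D => (1 : Matrix (Rest j → γ) (Rest j → γ) F) ⊗ₖ D
      map_one' := one_kronecker_one
      map_mul' := fun a b => by rw [← mul_kronecker_mul, Matrix.one_mul]
      map_zero' := kronecker_zero _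
      map_add' := fun a b => kronecker_add _ _ _ }
  have hκι : ∀ D, κ * ι D = K ⊗ₖ D := fun D => by
    show (K ⊗ₖ 1) * (1 ⊗ₖ D) = _
    rw [← mul_kronecker_mul, Matrix.one_mul, Matrix.mul_one]
  have hc : ∀ D, Commute κ (ι D) := fun D => by
    show _ = _
    rw [hκι]
    show _ = (1 ⊗ₖ D) * (K ⊗ₖ 1)
    rw [← mul_kronecker_mul, Matrix.one_mul, Matrix.mul_one]
  have hLι : ∀ D, L * ι D = ι D * L := fun D => by
    show (A ⊗ₖ 1) * (1 ⊗ₖ D) = (1 ⊗ₖ D) * (A ⊗ₖ 1)
    rw [← mul_kronecker_mul, ← mul_kronecker_mul, Matrix.one_mul, Matrix.mul_one, Matrix.one_mul, Matrix.mul_one]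
  have hsub : ∀ m, ∀ w : F, ∀ D ∈ Lev M κ ι (m + 1), w • D ∈ Lev M κ ι (m + 1) := by
    intro m w D hD
    obtain ⟨n, rfl⟩ := hprime w
    induction n with
    | zero => rw [Nat.cast_zero, zero_smul]; exact Lev.zero _
    | succ n ih => rw [Nat.cast_succ, add_smul, one_smul]; exact Lev.add hc ih hD
  have hconj : ∀ m, ∀ h ∈ P.Grp, ∀ D ∈ Lev M κ ι m, h * D * P.adj h ∈ Lev M κ ι m := by
    rintro m h hh D ⟨g, hg, Y, hY, rfl⟩
    refine ⟨ι h * (1 + κ ^ m * (ι D + κ * Y)) * ι (P.adj h), ?_, ι h * Y * ι (P.adj h),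
      (((hc h).symm).mul_left hY).mul_left (hc _).symm, ?_⟩
    · show Mem X j (L * _ * L')
      have h1 := Mem.conj₂ hG.hyp hh hg
      convert h1 using 1
      show _ = ι h * _ * ι (P.adj h)
      rw [← Matrix.mul_assoc L, ← Matrix.mul_assoc L, hLι]
      have hLι' : L' * ι (P.adj h) = ι (P.adj h) * L' := by
        show (T.adjU A ⊗ₖ 1) * (1 ⊗ₖ _) = (1 ⊗ₖ _) * (T.adjU A ⊗ₖ 1)
        rw [← mul_kronecker_mul, ← mul_kronecker_mul, Matrix.one_mul, Matrix.mul_one, Matrix.one_mul, Matrix.mul_one]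
      simp only [Matrix.mul_assoc, hLι']
    · rw [mul_add (ι h), Matrix.mul_one, add_mul, ← map_mul, (Grp.iso hh).mul_adj, map_one, map_mul, map_mul]
      congr 1
      simp only [← mul_assoc]
      rw [((hc h).symm.pow_right m).eq]
      simp only [mul_add, add_mul, mul_assoc]
      rw [← mul_assoc (ι h) κ, ← (hc h).eq, mul_assoc κ]
  let S : ℕ → AddSubgroup (Matrix γ γ F) := fun m =>
    { carrier := Lev M κ ι (m + 1)
      add_mem' := Lev.add hc
      zero_mem' := Lev.zero _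
      neg_mem' := Lev.neg hc hinv }
  have hS : ∀ m, P.Inv (AlgHom.id F (Matrix γ γ F)) (S m) := fun m =>
    ⟨fun h hh D hD => hconj _ h hh D hD, fun w _ D hD => hsub m w D hD⟩
  have hall : ∀ m u, u ≠ 0 → P.B u u = 0 → ∀ c : F, c ≠ 0 → c • P.E u ∈ S m →
      ∀ v, v ≠ 0 → P.B v v = 0 → P.E v ∈ S m := by
    intro m u hu0 hu c hc0 h v hv0 hv
    obtain ⟨g, hg, t, ht, hgu⟩ := exists_move hu0 hu hv0 hv
    have h1 := (hS m).conj g hg _ h
    simp only [AlgHom.coe_id, id_eq] at h1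
    rw [Matrix.mul_smul, Matrix.smul_mul, conj_E, hgu, P.E_smul, smul_smul] at h1
    have h2 := hsub m (c * (t * t))⁻¹ _ h1
    rwa [smul_smul, inv_mul_cancel₀ (mul_ne_zero hc0 (mul_ne_zero ht ht)), one_smul] at h2
  -- the first level
  have h0 : ∀ v, v ≠ 0 → P.B v v = 0 → P.E v ∈ S 0 := by
    obtain ⟨z, hz, hzz⟩ := exists_perp hp.symm'
    set h := sie P.G f z with hh'
    have hh : h ∈ P.Grp := sie_mem hp.ff hz.left
    have heg : P.B e (h *ᵥ e) ≠ 0 := by
      rw [hh', sie_apply, B_sub_right, B_sub_right, B_add_right, B_smul_right, B_smul_right, B_smul_right, hp.ee,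
        hp.ef, hp.fe, show P.B z e = 0 from hz.right', show P.B e z = 0 from hz.right]
      simp only [mul_zero, add_zero, mul_one, sub_zero, zero_sub, neg_ne_zero, zero_add]
      exact div_ne_zero hzz P.two
    have hY : P.E e - P.E (h *ᵥ e) ∈ S 0 := by
      refine ⟨T.ZM e K * T.ZM (h *ᵥ e) (-K), ?_, -(ι (P.E e) * ι (P.E (h *ᵥ e))),
        ((hc _).symm.mul_left (hc _).symm).neg_left, ?_⟩
      · have h1 := ((hm.mul (Mem.slot₂ hG.hyp hh)).mul (hm.adj hG.hyp)).mul (Mem.slot₂ hG.hyp (Grp.adj_mem hh))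
        show Mem X j (L * _ * L')
        convert h1 using 1
        rw [← hT, T.adjV_mul, T.ZM_adj, hK, P.Tj_adj_one, ← hT, ← ZM_conj₂ (-K) hh, ← hT]
        show L * _ * L' = L * _ * ι h * (_ * L') * ι (P.adj h)
        have hLι' : L' * ι (P.adj h) = ι (P.adj h) * L' := by
          show (T.adjU A ⊗ₖ 1) * (1 ⊗ₖ _) = (1 ⊗ₖ _) * (T.adjU A ⊗ₖ 1)
          rw [← mul_kronecker_mul, ← mul_kronecker_mul, Matrix.one_mul, Matrix.mul_one, Matrix.one_mul, Matrix.mul_one]
        simp only [Matrix.mul_assoc, hLι']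
        rfl
      · have hZ : ∀ (u : γ → F) (K' : Matrix (Rest j → γ) (Rest j → γ) F), T.ZM u K' = 1 + K' ⊗ₖ P.E u := fun u K' => by
          rw [TForm.ZM, TForm.pr, inc_mul_ev]; rfl
        rw [hZ, hZ, pow_one, map_sub, ← hκι, show (-K) ⊗ₖ P.E (h *ᵥ e) = -(κ * ι (P.E (h *ᵥ e))) by
          rw [hκι]; ext ⟨a, b⟩ ⟨c, d⟩; simp]
        simp only [mul_add, add_mul, mul_sub, one_mul, mul_one, mul_neg, ← mul_assoc]
        rw [mul_assoc κ (ι (P.E e)) κ, ← (hc _).eq, ← mul_assoc]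
        abel
    obtain ⟨c, hc0, hc1⟩ := (hS 0).top_mem hp hY
    simp only [AlgHom.coe_id, id_eq] at hc1
    rw [E_mul_E, sub_mulVec, E_mulVec, E_mulVec, hp.ee, zero_smul, zero_sub, B_neg_right, B_smul_right, smul_smul] at hc1
    refine hall 0 e hp.ne hp.ee _ ?_ hc1
    exact mul_ne_zero hc0 (neg_ne_zero.mpr (mul_ne_zero (by rw [P.B_comm]; exact heg) heg))
  -- all levels
  have hwedge : ∀ m, P.wedge e f ∈ S m → ∀ z, P.Perp e f z → P.wedge e z ∈ S m := by
    intro m h z hz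
    have h1 := (hS m).conj _ (sie_mem hp.ee hz.left) _ h
    simp only [AlgHom.coe_id, id_eq] at h1
    rw [conj_wedge, show sie P.G e z *ᵥ e = e by rw [sie_apply, hz.left', hp.ee]; simp, sie_f hp hz] at h1
    have h2 := sub_mem h h1
    rwa [show P.wedge e f - P.wedge e (f - z - (P.B z z / 2) • e) = P.wedge e z by
      refine ext fun v => ?_
      simp only [sub_mulVec, wedge_mulVec, B_sub_left, B_smul_left, B_sub_right, B_smul_right]
      module] at h2
  have hEf : P.E e * P.E f - P.E f * P.E e = P.wedge e f := ext fun v => by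
    simp only [sub_mulVec, ← mulVec_mulVec, E_mulVec, wedge_mulVec, mulVec_smul, smul_smul, hp.ef, hp.fe, mul_one,
      one_mul]
  have hwE : P.wedge e f * P.E e - P.E e * P.wedge e f = (2 : F) • P.E e := ext fun v => by
    simp only [sub_mulVec, ← mulVec_mulVec, E_mulVec, wedge_mulVec, mulVec_smul, smul_mulVec, B_sub_right,
      B_smul_right, hp.ee, hp.ef, hp.fe, mul_one, mul_zero, one_smul, zero_smul, smul_sub, smul_smul, sub_zero,
      zero_sub]
    module
  have hSm : ∀ (m : ℕ) (D : Matrix γ γ F), D ∈ S m ↔ D ∈ Lev M κ ι (m + 1) := fun _ _ => Iff.rfl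
  clear_value S
  have hlevels : ∀ m, (Even m → ∀ v, v ≠ 0 → P.B v v = 0 → P.E v ∈ S m) ∧ (Odd m → P.wedge e f ∈ S m) := by
    intro m
    induction m with
    | zero => exact ⟨fun _ => h0, fun h => absurd h (by simp)⟩
    | succ m ih =>
      constructor
      · intro hev
        have hodd : Odd m := by rcases hev with ⟨r, hr⟩; exact ⟨r - 1, by omega⟩
        have h1 := Lev.comm (m := m) (n := 0) hc hinv ((hSm _ _).mp (ih.2 hodd)) ((hSm _ _).mp (h0 e hp.ne hp.ee))
        rw [hwE] at h1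
        exact hall (m + 1) e hp.ne hp.ee 2 P.two ((hSm _ _).mpr h1)
      · intro hodd
        have hev : Even m := by rcases hodd with ⟨r, hr⟩; exact ⟨r, by omega⟩
        have h1 := Lev.comm (m := m) (n := 0) hc hinv ((hSm _ _).mp (ih.1 hev e hp.ne hp.ee))
          ((hSm _ _).mp (h0 f hp.symm'.ne hp.ff))
        rw [hEf] at h1
        exact (hSm _ _).mpr h1
  -- the last level
  obtain ⟨n, hn, hn1⟩ : ∃ n, K ^ (n + 1) ≠ 0 ∧ K ^ (n + 2) = 0 := by
    classical
    have hex : ∃ n, K ^ n = 0 := ⟨N, hN⟩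
    haveI : Nonempty γ := P.nonempty
    have h2 : 2 ≤ Nat.find hex := by
      by_contra h
      have := Nat.find_spec hex
      rcases (show Nat.find hex = 0 ∨ Nat.find hex = 1 by omega) with e | e <;> rw [e] at this
      · rw [pow_zero] at this
        exact one_ne_zero this
      · exact hK0 (by rwa [pow_one] at this)
    obtain ⟨n, hn⟩ := Nat.exists_eq_add_of_le h2
    refine ⟨n, Nat.find_min hex (by omega), ?_⟩
    rw [Nat.add_comm, ← hn]
    exact Nat.find_spec hex
  have hlast : ∀ D ∈ S n, Mem X j (L * (1 + (K ^ (n + 1)) ⊗ₖ D) * L') := by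
    intro D hD
    obtain ⟨g, hg, Y, -, rfl⟩ := (hSm n D).mp hD
    have hκp : ∀ r : ℕ, κ ^ r = (K ^ r) ⊗ₖ (1 : Matrix γ γ F) := fun r => by
      induction r with
      | zero => rw [pow_zero, pow_zero, one_kronecker_one]
      | succ r ih => rw [pow_succ, ih, pow_succ]; show (_ ⊗ₖ 1) * (K ⊗ₖ 1) = _; rw [← mul_kronecker_mul, Matrix.one_mul]
    have e : κ ^ (n + 1) * (ι D + κ * Y) = (K ^ (n + 1)) ⊗ₖ D := by
      rw [mul_add, ← mul_assoc, ← pow_succ, hκp (n + 1 + 1), show n + 1 + 1 = n + 2 from rfl, hn1, zero_kronecker,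
        zero_mul, add_zero, hκp]
      show (_ ⊗ₖ 1) * (1 ⊗ₖ D) = _
      rw [← mul_kronecker_mul, Matrix.one_mul, Matrix.mul_one]
    rw [← e]
    exact hg
  have hZL : ∀ (K' : Matrix (Rest j → γ) (Rest j → γ) F) (D : Matrix γ γ F),
      L * (1 + K' ⊗ₖ D) * L' = 1 + (A * K' * T.adjU A) ⊗ₖ D := by
    intro K' D
    rw [mul_add, add_mul, Matrix.mul_one, hLL]
    simp only [L, L', ← mul_kronecker_mul, Matrix.one_mul, Matrix.mul_one]
  have hback : ∀ Z : Matrix (Rest j → γ) (Rest j → γ) F, T.adjU A * (A * Z * T.adjU A) * A = Z := fun Z => by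
    rw [Matrix.mul_assoc (T.adjU A), Matrix.mul_assoc (A * Z), hA, Matrix.mul_one, ← Matrix.mul_assoc, hA,
      Matrix.one_mul]
  rcases Nat.even_or_odd n with hev | hodd
  · have h1 := hlast _ ((hlevels n).1 hev e hp.ne hp.ee)
    rw [hZL] at h1
    refine hn ?_
    have h2 := hG.ZM_zero (K := A * K ^ (n + 1) * T.adjU A) he he0 ?_ (by
      rw [← hT, TForm.ZM, TForm.pr, inc_mul_ev]; exact h1)
    · rw [← hback (K ^ (n + 1)), h2, Matrix.mul_zero, Matrix.zero_mul]
    · rw [← hT, T.adjU_mul, T.adjU_mul, T.adjU_adjU, hT, adjU_pow', ← hT, hK,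
        Odd.neg_pow (by rcases hev with ⟨r, hr⟩; exact ⟨r, by omega⟩), Matrix.neg_mul, Matrix.mul_neg, ← Matrix.mul_assoc]
  · obtain ⟨z, hz, hzz⟩ := exists_perp hp
    have h1 := hlast _ (hwedge n ((hlevels n).2 hodd) z hz)
    rw [hZL] at h1
    set K' := A * K ^ (n + 1) * T.adjU A with hK'
    have key : ∀ w, P.B e w = 0 → (1 + K' ⊗ₖ P.wedge e z) * inc (Rest j → γ) w =
        inc (Rest j → γ) w + inc (Rest j → γ) e * (P.B z w • K') := by
      intro w hw
      rw [Matrix.add_mul, Matrix.one_mul, kron_mul_inc, wedge_mulVec, hw, zero_smul, sub_zero, inc_smul,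
        Matrix.smul_mul, Matrix.mul_smul]
    have hr : T.IsRad e (1 + K' ⊗ₖ P.wedge e z) := ⟨by
      rw [key e hp.ee, hz.left', zero_smul, Matrix.mul_zero, add_zero], fun w hw => ⟨_, key w hw⟩⟩
    obtain ⟨c, hc'⟩ := hG.comp_scalar hp h1 hr (w := z) hz.left
    rw [← hT, TForm.comp, Matrix.mul_assoc, Matrix.sub_mul, Matrix.one_mul, key z hz.left, add_sub_cancel_left,
      ← Matrix.mul_assoc, T.pr_mul_inc, show T.B₂ f e = 1 from hp.fe, one_smul, Matrix.one_mul] at hc'
    refine hn ?_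
    have h2 : P.B z z • K ^ (n + 1) = c • 1 := by
      have := congrArg (fun M => T.adjU A * M * A) hc'
      beta_reduce at this
      rw [hK', Matrix.mul_smul, Matrix.smul_mul, hback, Matrix.mul_smul, Matrix.smul_mul, Matrix.mul_one] at this
      rw [this, show T.adjU A * A = 1 from hA]
    have h3 : c = 0 := by
      haveI : Nonempty γ := P.nonempty
      have h4 := congrArg (· * K) h2
      beta_reduce at h4
      rw [Matrix.smul_mul, ← pow_succ, show n + 1 + 1 = n + 2 from rfl, hn1, smul_zero, Matrix.smul_mul,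
        Matrix.one_mul] at h4
      exact (smul_eq_zero.mp h4.symm).resolve_right hK0
    rw [h3, zero_smul, smul_eq_zero] at h2
    exact h2.resolve_left hzz

end Frm

end Cfsg.Lib.Classical.OrthPow
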