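import Cfsg.Agent.Classical.OrthPow.Geom

/-!
# In dimension four: the parts of a skew square root of minus one on two factors
-/

set_option autoImplicit false
set_option linter.unusedSectionVars false
set_option linter.unusedSimpArgs false
set_option linter.style.haveILetI false

namespace Cfsg.Lib.Classical.OrthPow

open Matrix
open Cfsg.Lib.Classical.TensorOrth (TForm)

universe u

variable {γ : Type} [Fintype γ] [DecidableEq γ] {F : Type u} [Field F]

theorem exists_binary [Fintype F] (h2 : (2 : F) ≠ 0) {c : F} (hc : c ≠ 0) (σ : F) : ∃ s r : F, s * s + c * (r * r) = σ := by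
  classical
  have hodd : Fintype.card F % 2 = 1 := FiniteField.odd_card_of_char_ne_two fun h => h2 (by
    haveI := ringChar.of_eq h; exact CharTwo.two_eq_zero)
  obtain ⟨s, r, h⟩ := FiniteField.exists_root_sum_quadratic (R := F) (f := Polynomial.X ^ 2)
    (g := Polynomial.C c * Polynomial.X ^ 2 - Polynomial.C σ) (Polynomial.degree_X_pow 2)
    (by rw [Polynomial.degree_sub_C (by rw [Polynomial.degree_C_mul_X_pow 2 hc]; decide),
      Polynomial.degree_C_mul_X_pow 2 hc]; rfl) hodd
  refine ⟨s, r, ?_⟩
  simp only [Polynomial.eval_pow, Polynomial.eval_X, Polynomial.eval_sub, Polynomial.eval_mul, Polynomial.eval_C] at h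
  linear_combination h

namespace Frm

variable {P : Frm γ F} [Fintype F]

/-- In dimension four two hyperbolic and anisotropic planes exhaust the space. -/
theorem decomp_four {e f z w : γ → F} (hp : P.Pair e f) (hz : P.Perp e f z) (hw : P.Perp e f w) (hzz : P.B z z ≠ 0)
    (hww : P.B w w ≠ 0) (hzw : P.B z w = 0) (h4 : Fintype.card γ = 4) (x : γ → F) :
    x = P.B f x • e + P.B e x • f + (P.B z x / P.B z z) • z + (P.B w x / P.B w w) • w := by
  obtain ⟨y, hy, ex⟩ := decomp hp x
  have hwz : P.B w z = 0 := by rw [B_comm]; exact hzw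
  set r := y - (P.B z y / P.B z z) • z - (P.B w y / P.B w w) • w with hr
  have hrp : P.Perp e f r := (hy.sub (hz.smul _)).sub (hw.smul _)
  have hzr : P.B z r = 0 := by
    simp only [hr, B_sub_right, B_smul_right, hzw, mul_zero, sub_zero]
    field_simp
    ring
  have hwr : P.B w r = 0 := by
    simp only [hr, B_sub_right, B_smul_right, hwz, mul_zero, sub_zero]
    field_simp
    ring
  have hrr : P.B r r = 0 := by
    by_contra hrr
    obtain ⟨s, t, hst⟩ := exists_binary P.two (div_ne_zero hww hzz) (-(P.B r r) / P.B z z)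
    have hu : s • z + t • w + r = 0 := small' hp (((hz.smul s).add (hw.smul t)).add hrp) h4 (by
      simp only [B_add_left, B_add_right, B_smul_left, B_smul_right, hzw, hwz, hzr, hwr, P.B_comm r z, P.B_comm r w,
        mul_zero, add_zero, zero_add]
      field_simp at hst
      linear_combination hst)
    have h1 := congrArg (P.B r) hu
    simp only [B_add_right, B_smul_right, B_zero_right, P.B_comm r z, P.B_comm r w, hzr, hwr, mul_zero, zero_add] at h1
    exact hrr h1
  have hr0 := small' hp hrp h4 hrr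
  have hzx : P.B z x = P.B z y := by
    rw [ex]; simp only [B_add_right, B_smul_right, hz.left', hz.right', mul_zero, zero_add]
  have hwx : P.B w x = P.B w y := by
    rw [ex]; simp only [B_add_right, B_smul_right, hw.left', hw.right', mul_zero, zero_add]
  rw [hzx, hwx]
  conv_lhs => rw [ex]
  rw [hr, sub_sub, sub_eq_zero] at hr0
  rw [hr0]
  simp only [B_add_right, B_smul_right, hzw, hwz, mul_zero, add_zero, zero_add, div_mul_cancel₀ _ hzz,
    div_mul_cancel₀ _ hww]
  abel

set_option maxHeartbeats 1000000 in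
/-- The parts of a skew square root of minus one on two factors of dimension four. -/
theorem exists_parts (h4 : Fintype.card γ = 4) :
    ∃ (D A A₂ K L p q : Matrix γ γ F) (μ : F), μ ≠ 0 ∧ p + q = 1 ∧ P.adj D = -D ∧ P.adj A = A ∧ P.adj A₂ = A₂ ∧
      P.adj K = -K ∧ P.adj L = L ∧ A * A = -1 ∧ D * D = p ∧ A₂ * A₂ = -q ∧ K * K = μ • q ∧ L * L = (-μ⁻¹) • q ∧
      D * A₂ = 0 ∧ A₂ * D = 0 ∧ D * K = 0 ∧ K * D = 0 ∧ D * L = 0 ∧ L * D = 0 := by
  obtain ⟨e, f, hp⟩ := exists_pair' P
  obtain ⟨z, hz, hzz⟩ := exists_perp hp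
  obtain ⟨w, hw, hzw, hww⟩ := exists_perp_orth hp hz hzz h4.ge
  have hwz : P.B w z = 0 := by rw [B_comm]; exact hzw
  set a := P.B z z with ha
  set b := P.B w w with hb
  have hab : a * b ≠ 0 := mul_ne_zero hzz hww
  let V : (γ → F) → (γ → F) → Matrix γ γ F := fun x y => vecMulVec x (P.G *ᵥ y)
  have hV : ∀ x y v, V x y *ᵥ v = P.B y v • x := fun x y v => P.T.B₁_vec x y v
  have hVadj : ∀ x y, P.adj (V x y) = V y x := fun x y => P.T.adjU_vecMulVec x y
  let pl : F → F → Matrix γ γ F := fun s r => s • (a⁻¹ • P.E z - b⁻¹ • P.E w) + r • (V z w + V w z)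
  have hpl : ∀ s r, P.adj (pl s r) = pl s r := fun s r => by
    simp only [pl, adj, TForm.adjU_add, TForm.adjU_sub, TForm.adjU_smul]
    rw [show P.T.adjU (P.E z) = P.E z from P.adj_E z, show P.T.adjU (P.E w) = P.E w from P.adj_E w,
      show P.T.adjU (V z w) = V w z from hVadj z w, show P.T.adjU (V w z) = V z w from hVadj w z, add_comm (V w z)]
  set q := a⁻¹ • P.E z + b⁻¹ • P.E w with hq
  have hplx : ∀ s r v, pl s r *ᵥ v =
      (s * (a⁻¹ * P.B z v) + r * P.B w v) • z + (-(s * (b⁻¹ * P.B w v)) + r * P.B z v) • w := fun s r v => by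
    simp only [pl, add_mulVec, sub_mulVec, smul_mulVec, E_mulVec, hV]
    module
  have hplsq : ∀ s r, pl s r * pl s r = (s * s + a * b * (r * r)) • q := fun s r => ext fun v => by
    rw [← mulVec_mulVec, hplx, hplx]
    simp only [hq, smul_mulVec, add_mulVec, E_mulVec, B_add_right, B_smul_right, hzw, hwz, ← ha, ← hb, mul_zero,
      add_zero, zero_add]
    match_scalars <;> field_simp <;> ring
  obtain ⟨s, r, hsr⟩ := exists_binary P.two hab (-1 : F)
  obtain ⟨s', r', hsr'⟩ := exists_binary P.two hab (a * b)⁻¹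
  have hdec := decomp_four hp hz hw hzz hww hzw h4
  refine ⟨P.wedge e f, (P.E f - P.E e) + pl s r, pl s r, P.wedge z w, pl s' r', V e f + V f e, q, -(a * b),
    neg_ne_zero.mpr hab, ext fun v => ?_, P.adj_wedge e f, ?_, hpl s r, P.adj_wedge z w, hpl s' r', ext fun v => ?_,
    ext fun v => ?_, by rw [hplsq, hsr, neg_one_smul], ext fun v => ?_, by rw [hplsq, hsr', inv_neg, neg_neg],
    ext fun v => ?_, ext fun v => ?_, ext fun v => ?_, ext fun v => ?_, ext fun v => ?_, ext fun v => ?_⟩
  · conv_rhs => rw [one_mulVec, hdec v]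
    simp only [hq, add_mulVec, smul_mulVec, E_mulVec, hV, smul_smul, div_eq_inv_mul]
    rw [← ha, ← hb]
    abel
  · simp only [adj, TForm.adjU_add, TForm.adjU_sub]
    rw [show P.T.adjU (P.E f) = P.E f from P.adj_E f, show P.T.adjU (P.E e) = P.E e from P.adj_E e,
      show P.T.adjU (pl s r) = pl s r from hpl s r]
  · rw [neg_mulVec, one_mulVec, ← mulVec_mulVec]
    conv_rhs => rw [hdec v]
    simp only [add_mulVec, sub_mulVec, E_mulVec, hplx, B_add_right, B_sub_right, B_smul_right, hp.ee, hp.ff, hp.ef,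
      hp.fe, hz.left, hz.right, hw.left, hw.right, hz.left', hz.right', hw.left', hw.right', hzw, hwz, ← ha, ← hb]
    match_scalars <;> field_simp <;> first | ring1 | linear_combination (b * P.B z v) * hsr | linear_combination (a * P.B w v) * hsr
  · rw [← mulVec_mulVec]
    simp only [add_mulVec, wedge_mulVec, hV, B_sub_right, B_smul_right, hp.ee, hp.ff, hp.ef, hp.fe]
    module
  · rw [← mulVec_mulVec]
    simp only [hq, smul_mulVec, add_mulVec, wedge_mulVec, E_mulVec, B_sub_right, B_smul_right, hzw, hwz, ← ha, ← hb]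
    match_scalars <;> field_simp <;> ring
  all_goals
    rw [← mulVec_mulVec, zero_mulVec]
    simp only [wedge_mulVec, hplx, B_add_right, B_sub_right, B_smul_right, hp.ee, hp.ff, hp.ef,
      hp.fe, hz.left, hz.right, hw.left, hw.right, hz.left', hz.right', hw.left', hw.right', hzw, hwz]
    module

end Frm

end Cfsg.Lib.Classical.OrthPow
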