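import Cfsg.Agent.Classical.OrthPow.Perm
import Cfsg.Agent.Classical.OrthPow.Root4
import Cfsg.Agent.Classical.OrthElusive.Bridge
import Cfsg.Agent.Classical.TensorOrth.Transfer

/-!
# Elements of the stabiliser of the tensor power inside `Ω`
-/

set_option autoImplicit false
set_option linter.unusedSectionVars false
set_option linter.unusedSimpArgs false
set_option linter.style.haveILetI false

namespace Cfsg.Lib.Classical.OrthPow

open Matrix Finset
open scoped Kronecker MatrixGroups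
open Cfsg.Lib.Classical.TensorOrth (TForm sie sie_zero sie_mul omegaGL_comm mem_isometry)
open Cfsg.Lib.Classical.TensorPowLin (slot slot_add slot_sub slot_smul slot_neg slot_one slot_mul slot_comm perm perm_mul
  perm_one perm_slot permGL permGL_val)

universe u

variable {τ γ : Type} [Fintype τ] [DecidableEq τ] [Fintype γ] [DecidableEq γ] {F : Type u} [Field F]

namespace Frm

variable (P : Frm γ F)

/-- The quadratic form of the tensor power. -/
noncomputable def qfQ (τ : Type) [Fintype τ] [DecidableEq τ] : QuadraticForm F ((τ → γ) → F) :=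
  LinearMap.BilinMap.toQuadraticMap
    (Matrix.toLinearMap₂' F ((2 : F)⁻¹ • P.Gt τ) : LinearMap.BilinMap F ((τ → γ) → F) F)

theorem qfQ_coe : (⇑(P.qfQ τ) : ((τ → γ) → F) → F) = P.qft τ := by
  funext x
  rw [qfQ, LinearMap.BilinMap.toQuadraticMap_apply, Matrix.toLinearMap₂'_apply', smul_mulVec, dotProduct_smul,
    smul_eq_mul, qft]

theorem qft_polar (x y : (τ → γ) → F) : QuadraticMap.polar (P.qft τ) x y = x ⬝ᵥ P.Gt τ *ᵥ y := by
  have h2 := P.two
  simp only [QuadraticMap.polar, qft, mulVec_add, dotProduct_add, add_dotProduct,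
    show y ⬝ᵥ P.Gt τ *ᵥ x = x ⬝ᵥ P.Gt τ *ᵥ y by
      rw [dotProduct_mulVec, ← mulVec_transpose, P.Gt_symm, dotProduct_comm]]
  field_simp
  ring

theorem qfQ_nondeg : (QuadraticMap.polarBilin (P.qfQ τ)).Nondegenerate := by
  have key : ∀ v, (∀ y, QuadraticMap.polar (⇑(P.qfQ τ)) y v = 0) → v = 0 := fun v hv =>
    Matrix.eq_zero_of_mulVec_eq_zero P.Gt_det (dotProduct_eq_zero _ fun z => by
      rw [dotProduct_comm, ← P.qft_polar, ← qfQ_coe]; exact hv z)
  exact ⟨fun v hv => key v fun y => by rw [QuadraticMap.polar_comm]; exact hv y, fun v hv => key v hv⟩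

theorem iso_mem {g : GL (τ → γ) F} : g ∈ Cfsg.isometryGroup F (P.qft τ) ↔
    P.dag (g : Matrix (τ → γ) (τ → γ) F) * (g : Matrix (τ → γ) (τ → γ) F) = 1 := by
  rw [mem_isometry]
  set M := (g : Matrix (τ → γ) (τ → γ) F)
  constructor
  · intro h
    have h1 : Mᵀ * P.Gt τ * M = P.Gt τ := by
      refine Matrix.ext fun i j => ?_
      have hp : QuadraticMap.polar (P.qft τ) (M *ᵥ Pi.single i 1) (M *ᵥ Pi.single j 1) =
          QuadraticMap.polar (P.qft τ) (Pi.single i (1 : F)) (Pi.single j 1) := by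
        simp only [QuadraticMap.polar, ← mulVec_add, h]
      rw [P.qft_polar, P.qft_polar, mulVec_mulVec, dotProduct_mulVec, ← vecMul_transpose, vecMul_vecMul,
        ← Matrix.mul_assoc, ← dotProduct_mulVec] at hp
      simpa [mulVec_single_one] using hp
    show (P.Gt τ)⁻¹ * Mᵀ * P.Gt τ * M = 1
    rw [Matrix.mul_assoc, Matrix.mul_assoc, ← Matrix.mul_assoc Mᵀ, h1,
      Matrix.nonsing_inv_mul _ (isUnit_iff_ne_zero.mpr P.Gt_det)]
  · intro h v
    have h2 := (P.big τ).B₁_adjU M (M *ᵥ v) v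
    rw [mulVec_mulVec, show (P.big τ).adjU M * M = 1 from h, one_mulVec] at h2
    rw [qft, qft]
    exact congrArg _ h2

/-- Membership in `Ω` as a matrix. -/
def InO (τ : Type) [Fintype τ] [DecidableEq τ] (M : Matrix (τ → γ) (τ → γ) F) : Prop :=
  ∃ g ∈ Cfsg.Geo.omegaGL (P.qft τ), (g : Matrix (τ → γ) (τ → γ) F) = M

variable {P}

theorem InO.mul {M N : Matrix (τ → γ) (τ → γ) F} (h : P.InO τ M) (h' : P.InO τ N) : P.InO τ (M * N) := by
  obtain ⟨g, hg, rfl⟩ := h
  obtain ⟨g', hg', rfl⟩ := h'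
  exact ⟨g * g', mul_mem hg hg', rfl⟩

theorem InO.one : P.InO τ (1 : Matrix (τ → γ) (τ → γ) F) := ⟨1, one_mem _, Units.val_one⟩

theorem InO.comm {g h : GL (τ → γ) F} (hg : P.dag (g : Matrix (τ → γ) (τ → γ) F) * (g : Matrix _ _ F) = 1)
    (hh : P.dag (h : Matrix (τ → γ) (τ → γ) F) * (h : Matrix _ _ F) = 1) :
    P.InO τ ((g * h * g⁻¹ * h⁻¹ : GL (τ → γ) F) : Matrix (τ → γ) (τ → γ) F) :=
  ⟨_, by
    rw [omegaGL_comm]
    exact Subgroup.commutator_mem_commutator (P.iso_mem.mpr hg) (P.iso_mem.mpr hh), rfl⟩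

variable [Fintype F]

/-- Squares of isometries lie in `Ω`. -/
theorem InO.sq (hn : 2 ≤ Fintype.card (τ → γ)) {g : GL (τ → γ) F}
    (hg : P.dag (g : Matrix (τ → γ) (τ → γ) F) * (g : Matrix _ _ F) = 1) :
    P.InO τ ((g * g : GL (τ → γ) F) : Matrix (τ → γ) (τ → γ) F) := by
  classical
  set Q := P.qfQ τ
  let g' : Cfsg.isometryGroup F (⇑Q) := ⟨g, by rw [qfQ_coe]; exact P.iso_mem.mpr hg⟩
  have h : g' * g' ∈ Cfsg.Omega F (⇑Q) := by
    rw [Refl.mem_omega_iff Q P.two P.qfQ_nondeg hn, map_mul, map_mul]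
    refine ⟨Units.ext ?_, Int.units_mul_self _⟩
    show (g : Matrix (τ → γ) (τ → γ) F).det * (g : Matrix (τ → γ) (τ → γ) F).det = 1
    rcases Refl.det_sq Q P.qfQ_nondeg g' with h | h <;>
      (change (g : Matrix (τ → γ) (τ → γ) F).det = _ at h; rw [h]; ring)
  refine ⟨g * g, ?_, rfl⟩
  rw [← qfQ_coe]
  exact (Refl.mem_omegaGL Q _).mpr ⟨g' * g', h, rfl⟩

omit [Fintype F]

/-- An isometry of one factor at a slot. -/
noncomputable def slotU (i : τ) (b : Matrix γ γ F) (hb : P.Iso b) : GL (τ → γ) F :=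
  ⟨slot i b, slot i (P.adj b), by rw [← slot_mul, hb.mul_adj, slot_one], by
    rw [← slot_mul, show P.adj b * b = 1 from hb, slot_one]⟩

theorem slotU_val (i : τ) (b : Matrix γ γ F) (hb : P.Iso b) :
    (slotU i b hb : Matrix (τ → γ) (τ → γ) F) = slot i b := rfl

theorem slotU_inv (i : τ) (b : Matrix γ γ F) (hb : P.Iso b) :
    (((slotU i b hb)⁻¹ : GL (τ → γ) F) : Matrix (τ → γ) (τ → γ) F) = slot i (P.adj b) := rfl

theorem slotU_iso (i : τ) (b : Matrix γ γ F) (hb : P.Iso b) :
    P.dag (slotU i b hb : Matrix (τ → γ) (τ → γ) F) * (slotU i b hb : Matrix (τ → γ) (τ → γ) F) = 1 := by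
  rw [slotU_val, P.dag_slot, ← slot_mul, show P.adj b * b = 1 from hb, slot_one]

theorem perm_iso (σ : Equiv.Perm τ) :
    P.dag ((permGL σ : GL (τ → γ) F) : Matrix (τ → γ) (τ → γ) F) * (permGL σ : GL (τ → γ) F) = 1 := by
  rw [permGL_val, P.dag_perm, perm_mul, inv_mul_cancel, perm_one]

/-- The three-cycles. -/
theorem cyc_inO (a b c : τ) (hab : a ≠ b) (hbc : b ≠ c) (hac : a ≠ c) :
    P.InO τ (perm (Equiv.swap a b * Equiv.swap b c)) := by
  have h := InO.comm (P := P) (g := permGL (Equiv.swap a b)) (h := permGL (Equiv.swap a c)) (perm_iso _) (perm_iso _)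
  convert h using 1
  simp only [Units.val_mul, show ∀ σ : Equiv.Perm τ, (((permGL σ)⁻¹ : GL (τ → γ) F) : Matrix (τ → γ) (τ → γ) F) =
    perm σ⁻¹ from fun σ => rfl, permGL_val, perm_mul, Equiv.swap_inv]
  congr 1
  ext x
  simp only [Equiv.Perm.mul_apply]
  by_cases hxa : x = a
  · subst hxa; simp [Equiv.swap_apply_def, hab, hab.symm, hbc, hbc.symm, hac, hac.symm]
  · by_cases hxb : x = b
    · subst hxb; simp [Equiv.swap_apply_def, hab, hab.symm, hbc, hbc.symm, hac, hac.symm]
    · by_cases hxc : x = c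
      · subst hxc; simp [Equiv.swap_apply_def, hab, hab.symm, hbc, hbc.symm, hac, hac.symm]
      · simp [Equiv.swap_apply_def, hxa, hxb, hxc]

variable [Fintype F]

/-- The root elements of a slot. -/
theorem sie_inO (i : τ) {e z : γ → F} (he : P.B e e = 0) (hz : P.B e z = 0) :
    P.InO τ (slot i (sie P.G e z)) := by
  by_cases he0 : e = 0
  · rw [show sie P.G e z = 1 by rw [he0]; exact Frm.ext fun v => by simp [sie_apply, one_mulVec, B_zero_left],
      slot_one]
    exact InO.one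
  obtain ⟨f, hp⟩ := exists_partner' he0 he
  obtain ⟨z₀, hz₀, ez⟩ := sie_red hp hz
  rw [ez]
  let S : Submodule F (γ → F) :=
    { carrier := {z | P.B e z = 0 ∧ ∀ c : F, P.InO τ (slot i (sie P.G e (c • z)))}
      zero_mem' := ⟨P.B_zero_right e, fun c => by rw [smul_zero, sie_zero, slot_one]; exact InO.one⟩
      add_mem' := fun {a b} ha hb => ⟨by rw [B_add_right, ha.1, hb.1, add_zero], fun c => by
        rw [smul_add, ← sie_mul P.symm P.two he (show P.B e (c • a) = 0 by rw [B_smul_right, ha.1, mul_zero])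
          (show P.B e (c • b) = 0 by rw [B_smul_right, hb.1, mul_zero]), slot_mul]
        exact (ha.2 c).mul (hb.2 c)⟩
      smul_mem' := fun r a ha => ⟨by rw [B_smul_right, ha.1, mul_zero], fun c => by rw [smul_smul]; exact ha.2 _⟩ }
  have h : z₀ ∈ S := perp_span hp S (fun v hv hvv => ⟨hv.left, fun c => ?_⟩) hz₀
  · simpa using h.2 1
  obtain ⟨L, ρ, σ, hL, hLv, hσ, hρσ⟩ := exists_shift hp hv hvv
  have hne : ρ * σ - 1 ≠ 0 := sub_ne_zero.mpr fun h1 => hρσ (by
    calc ρ = ρ * σ * σ := by rw [mul_assoc, hσ, mul_one]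
      _ = σ := by rw [h1, one_mul])
  set d := c / (ρ * σ - 1) with hd
  have hdv : P.B e (d • v) = 0 := by rw [B_smul_right, hv.left, mul_zero]
  have hcom := InO.comm (slotU_iso i L (Grp.iso hL.mem)) (slotU_iso i _ (sie_iso he hdv))
  rw [Units.val_mul, Units.val_mul, Units.val_mul, slotU_val, slotU_val, slotU_inv, slotU_inv, adj_sie he hdv,
    ← slot_mul, ← slot_mul, ← slot_mul, conj_sie (Grp.iso hL.mem), hL.he, mulVec_smul, hLv, smul_smul, sie_smul,
    sie_mul P.symm P.two he (show P.B e ((ρ * (d * σ)) • v) = 0 by rw [B_smul_right, hv.left, mul_zero])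
      (show P.B e (-(d • v)) = 0 by rw [B_neg_right, hdv, neg_zero])] at hcom
  convert hcom using 3
  rw [hd]
  match_scalars
  field_simp
  ring

/-- A reflection at a slot, given two further slots of dimension four. -/
theorem refl_inO {i a b : τ} (hia : i ≠ a) (hib : i ≠ b) (hab : a ≠ b) (h4 : Fintype.card γ = 4) {v : γ → F}
    (hv : P.B v v ≠ 0) : P.InO τ (slot i (1 - (2 / P.B v v) • P.E v)) := by
  haveI : Nonempty γ := P.nonempty
  obtain ⟨D, A, A₂, K, L, p, q, μ, hμ, hpq, hD, hA, hA₂, hK, hL, hAA, hDD, hA₂A₂, hKK, hLL, h1, h2, h3, h4', h5, h6⟩ :=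
    exists_parts (P := P) h4
  set J : Matrix (τ → γ) (τ → γ) F := slot a D * slot b A + slot a A₂ * slot b D + slot a K * slot b L with hJ
  have hprod : ∀ X Y X' Y' : Matrix γ γ F,
      slot a X * slot b Y * (slot a X' * slot b Y') = slot a (X * X') * slot b (Y * Y') := fun X Y X' Y' => by
    rw [slot_mul, slot_mul, mul_assoc, ← mul_assoc (slot b Y), ← (slot_comm hab X' Y).eq]
    simp only [mul_assoc]
  have hz : ∀ Y : Matrix γ γ F, slot a (0 : Matrix γ γ F) * slot b Y = (0 : Matrix (τ → γ) (τ → γ) F) := fun Y => by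
    rw [TensorPowLin.slot_zero, zero_mul]
  have hz' : ∀ Y : Matrix γ γ F, slot a Y * slot b (0 : Matrix γ γ F) = (0 : Matrix (τ → γ) (τ → γ) F) := fun Y => by
    rw [TensorPowLin.slot_zero, mul_zero]
  have hJJ : J * J = -1 := by
    simp only [hJ, add_mul, mul_add, hprod, h1, h2, h3, h4', h5, h6, hz, hz', add_zero, zero_add, hAA, hDD, hA₂A₂, hKK,
      hLL, slot_neg, slot_one, slot_smul, mul_neg, mul_one, neg_mul, smul_mul_smul_comm, mul_inv_cancel₀ hμ,
      neg_smul, one_smul]
    have e1 : (slot a p : Matrix (τ → γ) (τ → γ) F) = 1 - slot a q := by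
      rw [eq_sub_iff_add_eq, ← slot_add, hpq, slot_one]
    have e2 : (slot b p : Matrix (τ → γ) (τ → γ) F) = 1 - slot b q := by
      rw [eq_sub_iff_add_eq, ← slot_add, hpq, slot_one]
    rw [e1, e2, mul_sub, mul_one]
    abel
  have hJs : P.dag J = -J := by
    simp only [hJ, P.dag_add, P.dag_mul, P.dag_slot, hD, hA, hA₂, hK, hL, slot_neg]
    rw [mul_neg, neg_mul, mul_neg, (slot_comm hab D A).eq, (slot_comm hab A₂ D).eq, (slot_comm hab K L).eq]
    abel
  set R : Matrix (τ → γ) (τ → γ) F := slot i ((P.B v v)⁻¹ • P.E v) with hR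
  have hEE : P.E v * P.E v = P.B v v • P.E v := by
    have h := P.E_mul_E (g := v) (1 : Matrix γ γ F)
    rwa [mul_one, one_mulVec] at h
  have hRR : R * R = R := by
    rw [hR, ← slot_mul, smul_mul_smul_comm, hEE, smul_smul, mul_assoc, inv_mul_cancel₀ hv, mul_one]
  have hRJ : Commute R J := by
    rw [hR, hJ]
    exact (((slot_comm hia _ _).mul_right (slot_comm hib _ _)).add_right
      ((slot_comm hia _ _).mul_right (slot_comm hib _ _))).add_right
      ((slot_comm hia _ _).mul_right (slot_comm hib _ _))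
  have hRs : P.dag R = R := by
    rw [hR, P.dag_slot, adj, P.T.adjU_smul, show P.T.adjU (P.E v) = P.E v from P.adj_E v]
  set G := 1 + R * (J - 1) with hG
  set G' := 1 + R * (-J - 1) with hG'
  have hdagG : P.dag G = G' := by
    rw [hG, P.dag_add, P.dag_one, P.dag_mul, P.dag_sub, P.dag_one, hJs, hRs, hG',
      ((hRJ.neg_right).sub_right (Commute.one_right R)).eq]
  have hmul : ∀ U V : Matrix (τ → γ) (τ → γ) F, Commute R U → (1 + R * U) * (1 + R * V) = 1 + R * (U + V + U * V) :=
    fun U V hU => by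
    rw [add_mul, one_mul, mul_add, mul_one, mul_assoc R U, ← mul_assoc U, ← hU.eq, mul_assoc R U, ← mul_assoc R R, hRR,
      mul_add R, mul_add R]
    abel
  have hiso : G' * G = 1 := by
    rw [hG', hG, hmul _ _ ((hRJ.neg_right).sub_right (Commute.one_right R))]
    have e : -J - 1 + (J - 1) + (-J - 1) * (J - 1) = 0 := by
      rw [sub_mul, neg_mul, mul_sub, one_mul, mul_one, hJJ]
      abel
    rw [e, mul_zero, add_zero]
  let g : GL (τ → γ) F := ⟨G, G', mul_eq_one_comm.mp hiso, hiso⟩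
  have hn : 2 ≤ Fintype.card (τ → γ) := by
    rw [Fintype.card_fun]
    haveI : Nonempty τ := ⟨i⟩
    calc 2 ≤ Fintype.card γ := by omega
      _ = Fintype.card γ ^ 1 := (pow_one _).symm
      _ ≤ _ := Nat.pow_le_pow_right (by omega) Fintype.card_pos
  obtain ⟨k, hk, ek⟩ := InO.sq hn (g := g) (show P.dag G * G = 1 by rw [hdagG, hiso])
  refine ⟨k, hk, ek.trans ?_⟩
  rw [Units.val_mul, show (g : Matrix (τ → γ) (τ → γ) F) = G from rfl, hG, hmul _ _ (hRJ.sub_right (Commute.one_right R))]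
  have e : J - 1 + (J - 1) + (J - 1) * (J - 1) = -(2 : F) • (1 : Matrix (τ → γ) (τ → γ) F) := by
    rw [sub_mul, mul_sub, one_mul, mul_one, hJJ]
    module
  rw [e, mul_smul_comm, mul_one, hR, slot_sub, slot_one, slot_smul, slot_smul, smul_smul, div_eq_mul_inv, sub_eq_add_neg,
    ← neg_smul, neg_mul]

/-- The generators of one factor at a slot lie in `Ω`. -/
theorem grp_inO (href : P.refl → 3 ≤ Fintype.card τ) (i : τ) {h : Matrix γ γ F} (hh : h ∈ P.Grp) :
    P.InO τ (slot i h) := by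
  classical
  induction hh using Submonoid.closure_induction with
  | mem x hx =>
    rcases hx with ⟨e, z, he, hz, rfl⟩ | ⟨h4, hr, v, hv, rfl⟩
    · exact sie_inO i he hz
    · obtain ⟨a, -, ha⟩ := Finset.exists_mem_notMem_of_card_lt_card (s := {i}) (t := (Finset.univ : Finset τ))
        (by rw [Finset.card_singleton, Finset.card_univ]; have := href hr; omega)
      obtain ⟨b, -, hb⟩ := Finset.exists_mem_notMem_of_card_lt_card (s := {i, a}) (t := (Finset.univ : Finset τ))
        (by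
          have := Finset.card_le_two (a := i) (b := a)
          rw [Finset.card_univ]
          have := href hr
          omega)
      simp only [Finset.mem_insert, Finset.mem_singleton, not_or] at ha hb
      exact refl_inO (Ne.symm ha) (Ne.symm hb.1) (Ne.symm hb.2) h4 hv
  | one => rw [slot_one]; exact InO.one
  | mul x y _ _ hx hy => rw [slot_mul]; exact hx.mul hy

/-- The product of an isometry at two slots lies in `Ω`, if its square does at one. -/
theorem pair_inO {i l : τ} (hil : i ≠ l) {b : Matrix γ γ F} (hb : P.Iso b) (h : P.InO τ (slot i (b * b))) :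
    P.InO τ (slot i b * slot l b) := by
  have hb' : P.Iso (P.adj b) := hb.adj_iso
  have hc := InO.comm (slotU_iso i _ hb') (perm_iso (P := P) (Equiv.swap i l))
  have e : ((slotU i (P.adj b) hb' * permGL (Equiv.swap i l) * (slotU i (P.adj b) hb')⁻¹ *
      (permGL (Equiv.swap i l))⁻¹ : GL (τ → γ) F) : Matrix (τ → γ) (τ → γ) F) = slot i (P.adj b) * slot l b := by
    rw [Units.val_mul, Units.val_mul, Units.val_mul, slotU_val, slotU_inv, permGL_val,
      show (((permGL (Equiv.swap i l))⁻¹ : GL (τ → γ) F) : Matrix (τ → γ) (τ → γ) F) = perm (Equiv.swap i l)⁻¹ from rfl,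
      show P.adj (P.adj b) = b from P.T.adjU_adjU b, mul_assoc (slot i (P.adj b)), perm_slot, Equiv.swap_apply_left,
      mul_assoc, mul_assoc (slot l b), perm_mul, mul_inv_cancel, perm_one, mul_one]
  rw [e] at hc
  convert h.mul hc using 1
  rw [← mul_assoc, ← slot_mul, mul_assoc b, hb.mul_adj, mul_one]

end Frm

end Cfsg.Lib.Classical.OrthPow
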