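import Cfsg.Agent.Classical.OrthPow.Geom

/-!
# Operations in the span of the conjugations by one factor, and sums over root groups
-/

set_option autoImplicit false
set_option linter.unusedSectionVars false
set_option linter.unusedSimpArgs false
set_option linter.style.haveILetI false

namespace Cfsg.Lib.Classical.OrthPow

open Matrix Finset
open scoped MatrixGroups
open Cfsg.Lib.Classical.TensorOrth (sie)

universe u

section Ring

variable {F : Type u} [Field F] [Fintype F] {A : Type*} [Ring A] [Algebra F A]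

/-- Conjugation by a one parameter quadratic family. -/
def tr (N M : A) (c : F) (Y : A) : A := (1 + c • N + (c * c) • M) * Y * (1 - c • N + (c * c) • M)

def co2 (N M Y : A) : A := M * Y + Y * M - N * Y * N

theorem tr_expand (N M : A) (c : F) (Y : A) :
    tr N M c Y = Y + c • (N * Y - Y * N) + c ^ 2 • co2 N M Y + c ^ 3 • (N * Y * M - M * Y * N) +
      c ^ 4 • (M * Y * M) := by
  simp only [tr, co2, add_mul, mul_add, sub_mul, mul_sub, one_mul, mul_one, smul_mul_assoc, mul_smul_comm,
    smul_smul, smul_add, smul_sub]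
  module

theorem sum_tr (N M Y : A) (w : F → F) :
    ∑ c, w c • tr N M c Y = (∑ c, w c) • Y + (∑ c, w c * c) • (N * Y - Y * N) +
      (∑ c, w c * c ^ 2) • co2 N M Y + (∑ c, w c * c ^ 3) • (N * Y * M - M * Y * N) +
        (∑ c, w c * c ^ 4) • (M * Y * M) := by
  simp only [tr_expand, smul_add, smul_smul, Finset.sum_add_distrib, ← Finset.sum_smul]

theorem sum_pow_top : ∑ c : F, c ^ (Fintype.card F - 1) = -1 := by
  classical
  have h : ∀ c : F, c ^ (Fintype.card F - 1) = if c = 0 then 0 else 1 := fun c => by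
    split_ifs with hc
    · rw [hc, zero_pow]; have := Fintype.one_lt_card (α := F); omega
    · exact FiniteField.pow_card_sub_one_eq_one c hc
  simp only [h, Finset.sum_ite, Finset.sum_const_zero, zero_add, Finset.sum_const, nsmul_one]
  rw [Finset.filter_ne', Finset.card_erase_of_mem (Finset.mem_univ _), Finset.card_univ,
    Nat.cast_sub Fintype.card_pos, FiniteField.cast_card_eq_zero, zero_sub, Nat.cast_one]

theorem sum_pow_low {i : ℕ} (h : i < Fintype.card F - 1) : ∑ c : F, c ^ i = 0 :=
  FiniteField.sum_pow_lt_card_sub_one F i h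

/-- The top coefficient. -/
theorem extract_four (h5 : 5 ≤ Fintype.card F) (N M Y : A) :
    ∑ c : F, c ^ (Fintype.card F - 5) • tr N M c Y = -(M * Y * M) := by
  rw [sum_tr]
  simp only [← pow_succ, ← pow_add]
  rw [sum_pow_low (i := Fintype.card F - 5) (by omega), sum_pow_low (i := Fintype.card F - 5 + 1) (by omega),
    sum_pow_low (i := Fintype.card F - 5 + 2) (by omega), sum_pow_low (i := Fintype.card F - 5 + 3) (by omega),
    show Fintype.card F - 5 + 4 = Fintype.card F - 1 by omega, sum_pow_top]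
  simp

/-- The middle coefficient. -/
theorem extract_two (h5 : 5 ≤ Fintype.card F) (N M Y : A) :
    ∑ c : F, c ^ (Fintype.card F - 3) • tr N M c Y = -co2 N M Y := by
  rw [sum_tr]
  simp only [← pow_succ, ← pow_add]
  have h3 : ∀ c : F, c ^ (Fintype.card F - 3 + 3) = c := fun c => by
    rw [show Fintype.card F - 3 + 3 = Fintype.card F by omega, FiniteField.pow_card]
  have h4 : ∀ c : F, c ^ (Fintype.card F - 3 + 4) = c ^ 2 := fun c => by
    rw [show Fintype.card F - 3 + 4 = Fintype.card F + 1 by omega, pow_succ, FiniteField.pow_card, sq]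
  rw [sum_pow_low (i := Fintype.card F - 3) (by omega), sum_pow_low (i := Fintype.card F - 3 + 1) (by omega),
    show Fintype.card F - 3 + 2 = Fintype.card F - 1 by omega, sum_pow_top]
  simp only [h3, h4]
  rw [sum_pow_low (i := 2) (by omega), show ∑ c : F, c = 0 by simpa using sum_pow_low (F := F) (i := 1) (by omega)]
  simp

theorem sum_tr_big (h5 : 5 ≤ Fintype.card F) (N M Y : A) :
    ∑ c : F, tr N M c Y = (∑ c : F, c ^ 4) • (M * Y * M) := by
  have h := sum_tr N M Y (fun _ : F => (1 : F))
  simp only [one_smul, one_mul] at h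
  rw [h, Finset.sum_const, Finset.card_univ, nsmul_one, FiniteField.cast_card_eq_zero,
    show ∑ c : F, c = 0 by simpa using sum_pow_low (F := F) (i := 1) (by omega), sum_pow_low (i := 2) (by omega),
    sum_pow_low (i := 3) (by omega)]
  simp

theorem sum_tr_three (h3 : Fintype.card F = 3) (N M Y : A) :
    ∑ c : F, tr N M c Y = -(co2 N M Y + M * Y * M) := by
  classical
  have h30 : (3 : F) = 0 := by
    have := FiniteField.cast_card_eq_zero F
    rw [h3] at this
    exact_mod_cast this
  have h2 : (2 : F) ≠ 0 := fun h => one_ne_zero (α := F) (by linear_combination h30 - h)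
  have hu : (Finset.univ : Finset F) = {0, 1, -1} := by
    refine (Finset.eq_univ_of_card _ ?_).symm
    rw [h3]
    refine Finset.card_eq_three.mpr ⟨0, 1, -1, zero_ne_one, ?_, ?_, rfl⟩
    · exact fun h => one_ne_zero (neg_eq_zero.mp h.symm)
    · exact fun h => h2 (by linear_combination h)
  have hne : (1 : F) ≠ -1 := fun h => h2 (by linear_combination h)
  have h01 : (0 : F) ∉ ({1, -1} : Finset F) := by simp
  rw [hu, Finset.sum_insert h01, Finset.sum_pair hne]
  simp only [tr_expand]
  have h3' : (3 : F) • (Y + co2 N M Y + M * Y * M) = 0 := by rw [h30, zero_smul]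
  linear_combination (norm := module) h3'

/-- Two orthogonal families compose to the central one. -/
theorem co2_comp {N N' Z : A} (a b : F) (hZ : Z * Z = 0) (h1 : N * Z = 0) (h2 : Z * N = 0) (h1' : N' * Z = 0)
    (h2' : Z * N' = 0) (h : N' * N = 0) (Y : A) :
    co2 N' (b • Z) (co2 N (a • Z) Y + a • Z * Y * (a • Z)) +
        b • Z * (co2 N (a • Z) Y + a • Z * Y * (a • Z)) * (b • Z) = (2 * (a * b)) • (Z * Y * Z) := by
  have z1 : ∀ x, Z * (Z * x) = 0 := fun x => by rw [← mul_assoc, hZ, zero_mul]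
  have z2 : ∀ x, N * (Z * x) = 0 := fun x => by rw [← mul_assoc, h1, zero_mul]
  have z3 : ∀ x, Z * (N * x) = 0 := fun x => by rw [← mul_assoc, h2, zero_mul]
  have z4 : ∀ x, N' * (Z * x) = 0 := fun x => by rw [← mul_assoc, h1', zero_mul]
  have z5 : ∀ x, Z * (N' * x) = 0 := fun x => by rw [← mul_assoc, h2', zero_mul]
  have z6 : ∀ x, N' * (N * x) = 0 := fun x => by rw [← mul_assoc, h, zero_mul]
  simp only [co2, mul_add, add_mul, mul_sub, sub_mul, smul_mul_assoc, mul_smul_comm, smul_smul, smul_add, smul_sub,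
    mul_assoc, hZ, h1, h2, h1', h2', z1, z2, z3, z4, z5, z6, mul_zero, smul_zero, add_zero, zero_add, sub_zero,
    zero_sub, sub_self]
  module

end Ring

variable {γ : Type} [Fintype γ] [DecidableEq γ] {F : Type u} [Field F]

namespace Frm

variable {P : Frm γ F}

theorem wedge_E {e v : γ → F} (he : P.B e e = 0) (hv : P.B e v = 0) :
    P.wedge e v * P.E e = 0 ∧ P.E e * P.wedge e v = 0 ∧ P.E e * P.E e = 0 := by
  refine ⟨ext fun x => ?_, ext fun x => ?_, ext fun x => ?_⟩ <;>
    simp [← mulVec_mulVec, E_mulVec, wedge_mulVec, mulVec_smul, mulVec_sub, he, hv, P.B_comm v e, B_sub_right,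
      B_smul_right]

theorem wedge_sq {e v : γ → F} (he : P.B e e = 0) (hv : P.B e v = 0) :
    P.wedge e v * P.wedge e v = -(P.B v v) • P.E e := by
  refine ext fun x => ?_
  rw [← mulVec_mulVec, smul_mulVec, E_mulVec, wedge_mulVec, wedge_mulVec]
  simp only [B_sub_right, B_smul_right, he, hv, P.B_comm v e, smul_smul]
  match_scalars <;> ring

theorem wedge_orth {e v w : γ → F} (he : P.B e e = 0) (hv : P.B e v = 0) (hw : P.B e w = 0) (hwv : P.B w v = 0) :
    P.wedge e w * P.wedge e v = 0 := by
  refine ext fun x => ?_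
  simp [← mulVec_mulVec, wedge_mulVec, mulVec_smul, mulVec_sub, he, hv, hw, hwv, P.B_comm w e, B_sub_right,
    B_smul_right]

theorem wedge_smul (e v : γ → F) (c : F) : P.wedge e (c • v) = c • P.wedge e v := P.T.wedge_smul_right c e v

theorem wedge_add (e v w : γ → F) : P.wedge e (v + w) = P.wedge e v + P.wedge e w := P.T.wedge_add_right e v w

theorem sie_line (e v : γ → F) (c : F) :
    sie P.G e (c • v) = 1 + c • P.wedge e v + (c * c) • (-(P.B v v / 2) • P.E e) := by
  rw [sie_eq, wedge_smul, B_smul_left, B_smul_right, smul_smul, sub_eq_add_neg, ← neg_smul]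
  congr 2
  ring

theorem sie_line_neg (e v : γ → F) (c : F) :
    sie P.G e (-(c • v)) = 1 - c • P.wedge e v + (c * c) • (-(P.B v v / 2) • P.E e) := by
  rw [← neg_smul, sie_line, neg_mul_neg, neg_smul, ← sub_eq_add_neg]

theorem E_mul_E {g : γ → F} (Y : Matrix γ γ F) : P.E g * Y * P.E g = P.B g (Y *ᵥ g) • P.E g := by
  refine ext fun x => ?_
  rw [← mulVec_mulVec, ← mulVec_mulVec, smul_mulVec, E_mulVec, E_mulVec, mulVec_smul, B_smul_right, smul_smul,
    mul_comm]

/-- The scalars needed: over nine elements in dimension three only the prime field. -/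
def Ok (P : Frm γ F) (w : F) : Prop := Fintype.card γ = 3 → Nat.card F = 9 → w ^ 3 = w

/-- Stable, through `φ`, under conjugation by the group of the factor and under the scalars `Ok`. -/
structure Inv (P : Frm γ F) {N : Type} [Fintype N] [DecidableEq N] (φ : Matrix γ γ F →ₐ[F] Matrix N N F)
    (S : AddSubgroup (Matrix N N F)) : Prop where
  conj : ∀ h ∈ P.Grp, ∀ Y ∈ S, φ h * Y * φ (P.adj h) ∈ S
  smul : ∀ w, P.Ok w → ∀ Y ∈ S, w • Y ∈ S

variable [Fintype F] {N : Type} [Fintype N] [DecidableEq N] {φ : Matrix γ γ F →ₐ[F] Matrix N N F}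
  {S : AddSubgroup (Matrix N N F)}

theorem Inv.tr_mem (hS : P.Inv φ S) {e v : γ → F} (he : P.B e e = 0)
    (hv : P.B e v = 0) (c : F) {Y : Matrix N N F} (hY : Y ∈ S) :
    tr (φ (P.wedge e v)) (-(P.B v v / 2) • φ (P.E e)) c Y ∈ S := by
  have hcv : P.B e (c • v) = 0 := by rw [B_smul_right, hv, mul_zero]
  have h := hS.conj _ (sie_mem he hcv) _ hY
  rw [adj_sie he hcv, sie_line, sie_line_neg] at h
  simpa only [map_add, map_sub, map_one, map_smul, tr] using h

theorem Inv.co2_mem (hS : P.Inv φ S) {e v : γ → F} (he : P.B e e = 0) (hv : P.B e v = 0) {Y : Matrix N N F}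
    (hY : Y ∈ S) (h0 : φ (P.E e) * Y * φ (P.E e) = 0) :
    co2 (φ (P.wedge e v)) (-(P.B v v / 2) • φ (P.E e)) Y ∈ S := by
  rcases three_or_five P with h3 | h5
  · have h := sum_mem (t := (Finset.univ : Finset F)) fun c _ => hS.tr_mem he hv c hY
    rw [sum_tr_three h3, smul_mul_assoc, mul_smul_comm, smul_mul_assoc, h0, smul_zero, smul_zero, add_zero] at h
    exact neg_mem_iff.mp h
  by_cases h9 : Fintype.card γ = 3 ∧ Nat.card F = 9
  · have hq : Fintype.card F = 9 := by rw [← Nat.card_eq_fintype_card]; exact h9.2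
    have hw : ∀ c : F, P.Ok (c ^ 6 + c ^ 2) := fun c _ _ => by
      have h9c : c ^ 9 = c := by rw [← hq]; exact FiniteField.pow_card c
      have h30 : (3 : F) = 0 := by
        have := FiniteField.cast_card_eq_zero F
        rw [hq] at this
        exact (pow_eq_zero_iff (n := 2) two_ne_zero).mp (by
          calc (3 : F) ^ 2 = ((9 : ℕ) : F) := by norm_num
            _ = 0 := this)
      linear_combination (c ^ 14 + c ^ 10) * h30 + (c ^ 9 + c) * h9c
    have h := sum_mem (t := (Finset.univ : Finset F)) fun c _ => hS.smul _ (hw c) _ (hS.tr_mem he hv c hY)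
    simp only [add_smul, Finset.sum_add_distrib] at h
    have e6 := extract_two (A := Matrix N N F) h5 (φ (P.wedge e v)) (-(P.B v v / 2) • φ (P.E e)) Y
    rw [hq] at e6
    rw [e6, sum_tr] at h
    simp only [← pow_succ, ← pow_add] at h
    rw [sum_pow_low (i := 2) (by omega), sum_pow_low (i := 3) (by omega), sum_pow_low (i := 2 + 2) (by omega),
      sum_pow_low (i := 2 + 3) (by omega), sum_pow_low (i := 2 + 4) (by omega)] at h
    simp only [zero_smul, add_zero] at h
    exact neg_mem_iff.mp h
  · have h := sum_mem (t := (Finset.univ : Finset F)) fun c _ =>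
      hS.smul (c ^ (Fintype.card F - 3)) (fun a b => absurd ⟨a, b⟩ h9) _ (hS.tr_mem he hv c hY)
    rw [extract_two h5] at h
    exact neg_mem_iff.mp h

theorem Inv.top_mem (hS : P.Inv φ S) {e f : γ → F} (hp : P.Pair e f) {Y : Matrix N N F} (hY : Y ∈ S) :
    ∃ κ : F, κ ≠ 0 ∧ κ • (φ (P.E e) * Y * φ (P.E e)) ∈ S := by
  obtain ⟨v, hv, hvv⟩ := exists_perp hp
  obtain ⟨h1, h2, hZ⟩ := wedge_E hp.ee hv.left
  have hq : P.B v v / 2 ≠ 0 := div_ne_zero hvv P.two
  rcases three_or_five P with h3 | h5
  · obtain ⟨w, hw, hvw, hww⟩ := exists_twin h3 hp hv hvv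
    obtain ⟨h1', h2', -⟩ := wedge_E hp.ee hw.left
    have hin : ∀ Y ∈ S, ∀ u, P.Perp e f u → co2 (φ (P.wedge e u)) (-(P.B u u / 2) • φ (P.E e)) Y +
        -(P.B u u / 2) • φ (P.E e) * Y * (-(P.B u u / 2) • φ (P.E e)) ∈ S := by
      intro Y hY u hu
      have h := sum_mem (t := (Finset.univ : Finset F)) fun c _ => hS.tr_mem hp.ee hu.left c hY
      rw [sum_tr_three h3] at h
      exact neg_mem_iff.mp h
    have h := hin _ (hin Y hY v hv) w hw
    rw [co2_comp _ _ (by rw [← map_mul, hZ, map_zero]) (by rw [← map_mul, h1, map_zero])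
        (by rw [← map_mul, h2, map_zero]) (by rw [← map_mul, h1', map_zero]) (by rw [← map_mul, h2', map_zero])
        (by rw [← map_mul, wedge_orth hp.ee hv.left hw.left (by rw [B_comm]; exact hvw), map_zero]), hww] at h
    exact ⟨_, mul_ne_zero P.two (mul_ne_zero (neg_ne_zero.mpr hq) (neg_ne_zero.mpr hq)), h⟩
  · have h := sum_mem (t := (Finset.univ : Finset F)) fun c _ =>
      hS.smul (c ^ (Fintype.card F - 5)) (fun a b => by
        have h9c : c ^ 9 = c := by rw [← b, Nat.card_eq_fintype_card]; exact FiniteField.pow_card c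
        rw [← Nat.card_eq_fintype_card, b, show 9 - 5 = 4 from rfl]
        linear_combination c ^ 3 * h9c) _ (hS.tr_mem hp.ee hv.left c hY)
    rw [extract_four h5, smul_mul_assoc, mul_smul_comm, smul_mul_assoc, smul_smul] at h
    exact ⟨_, mul_ne_zero (neg_ne_zero.mpr hq) (neg_ne_zero.mpr hq), neg_mem_iff.mp h⟩

/-- The middle coefficient of a skew map. -/
theorem co2_skew {e f v : γ → F} (hp : P.Pair e f) (hv : P.Perp e f v) {K : Matrix γ γ F} (hK : P.adj K = -K) :
    co2 (P.wedge e v) (-(P.B v v / 2) • P.E e) K = P.wedge e ((P.B v v / 2) • (P.proj e f *ᵥ (K *ᵥ e)) -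
      P.B v (P.proj e f *ᵥ (K *ᵥ e)) • v) := by
  have hsk : ∀ a b, P.B a (K *ᵥ b) = -P.B (K *ᵥ a) b := fun a b => by
    rw [B, P.T.B₁_adjU, show P.T.adjU K = -K from hK, neg_mulVec]
    exact P.B_neg_left _ _
  have hself : ∀ a, P.B a (K *ᵥ a) = 0 := fun a => by
    have h := hsk a a
    rw [P.B_comm (K *ᵥ a) a] at h
    exact (mul_eq_zero.mp (show (2 : F) * P.B a (K *ᵥ a) = 0 by linear_combination h)).resolve_left P.two
  refine ext fun x => ?_
  simp only [co2, sub_mulVec, add_mulVec, ← mulVec_mulVec, smul_mulVec, E_mulVec, wedge_mulVec, mulVec_sub,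
    mulVec_smul, B_sub_right, B_smul_right, B_sub_left, B_smul_left, proj_apply, hsk e x, hsk e v, hself, hv.left,
    hv.left', hv.right', P.B_comm (K *ᵥ e) v, smul_smul, smul_sub]
  match_scalars <;> ring

theorem co2_one {e v : γ → F} (he : P.B e e = 0) (hv : P.B e v = 0) :
    co2 (P.wedge e v) (-(P.B v v / 2) • P.E e) (1 : Matrix γ γ F) = 0 := by
  rw [co2, mul_one, one_mul, mul_one, wedge_sq he hv]
  have h2 := P.two
  match_scalars
  field_simp
  ring

/-- A root group without singular parameters, whose orbit sums only see the top coefficient. -/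
theorem exists_root {e f : γ → F} (hp : P.Pair e f) :
    ∃ (d : ℕ) (L : (Fin d → F) →ₗ[F] (γ → F)), (∀ c, P.Perp e f (L c)) ∧
      (∀ c, c ≠ 0 → P.B (L c) (L c) ≠ 0) ∧ ∃ κ : F, ∀ (N : Type) [Fintype N] [DecidableEq N]
        (φ : Matrix γ γ F →ₐ[F] Matrix N N F) (Y : Matrix N N F),
        ∑ c, φ (sie P.G e (L c)) * Y * φ (sie P.G e (-(L c))) = κ • (φ (P.E e) * Y * φ (P.E e)) := by
  obtain ⟨v, hv, hvv⟩ := exists_perp hp
  obtain ⟨h1, h2, hZ⟩ := wedge_E hp.ee hv.left
  have key : ∀ (u : γ → F) (c : F) (N : Type) [Fintype N] [DecidableEq N]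
      (φ : Matrix γ γ F →ₐ[F] Matrix N N F) (Y : Matrix N N F),
      φ (sie P.G e (c • u)) * Y * φ (sie P.G e (-(c • u))) =
        tr (φ (P.wedge e u)) (-(P.B u u / 2) • φ (P.E e)) c Y := by
    intro u c N _ _ φ Y
    rw [sie_line, sie_line_neg, tr]
    simp only [map_add, map_sub, map_one, map_smul]
  rcases three_or_five P with h3 | h5
  · obtain ⟨w, hw, hvw, hww⟩ := exists_twin h3 hp hv hvv
    have hwv : P.B w v = 0 := by rw [B_comm]; exact hvw
    obtain ⟨h1', h2', -⟩ := wedge_E hp.ee hw.left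
    let L : (Fin 2 → F) →ₗ[F] (γ → F) :=
      (LinearMap.proj 0).smulRight v + (LinearMap.proj 1).smulRight w
    have hL : ∀ c, L c = c 0 • v + c 1 • w := fun c => rfl
    refine ⟨2, L, fun c => hL c ▸ (hv.smul _).add (hw.smul _), fun c hc h0 => hc ?_,
      2 * (-(P.B v v / 2) * -(P.B w w / 2)), fun N _ _ φ Y => ?_⟩
    · rw [hL, B_add_left, B_add_right, B_add_right] at h0
      simp only [B_smul_left, B_smul_right, hvw, hwv, hww, mul_zero, add_zero, zero_add] at h0
      have h0' : c 0 * c 0 + c 1 * c 1 = 0 := mul_right_cancel₀ hvv (by linear_combination h0)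
      have hsq : ∀ x : F, x ≠ 0 → x * x = 1 := fun x hx => by rcases three_pm h3 hx with rfl | rfl <;> ring
      funext i
      by_contra hi
      by_cases a : c 0 = 0 <;> by_cases b : c 1 = 0
      · fin_cases i
        · exact hi a
        · exact hi b
      · rw [a, hsq _ b] at h0'; simp at h0'
      · rw [b, hsq _ a] at h0'; simp at h0'
      · rw [hsq _ a, hsq _ b] at h0'
        exact P.two (by linear_combination h0')
    · have hmul : ∀ a b : γ → F, P.Perp e f a → P.Perp e f b → sie P.G e (a + b) = sie P.G e a * sie P.G e b :=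
        fun a b ha hb => (TensorOrth.sie_mul P.symm P.two hp.ee ha.left hb.left).symm
      rw [← (piFinTwoEquiv fun _ => F).symm.sum_comp, Fintype.sum_prod_type, Finset.sum_comm]
      have e1 : ∀ b a : F, φ (sie P.G e (L ((piFinTwoEquiv fun _ => F).symm (a, b)))) * Y *
          φ (sie P.G e (-(L ((piFinTwoEquiv fun _ => F).symm (a, b))))) =
          φ (sie P.G e (b • w)) * tr (φ (P.wedge e v)) (-(P.B v v / 2) • φ (P.E e)) a Y *
            φ (sie P.G e (-(b • w))) := by
        intro b a
        rw [hL, ← key v a N φ Y, neg_add, show ((piFinTwoEquiv fun _ => F).symm (a, b)) 0 = a from rfl,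
          show ((piFinTwoEquiv fun _ => F).symm (a, b)) 1 = b from rfl, add_comm (a • v) (b • w),
          hmul _ _ (hw.smul _) (hv.smul _), hmul _ _ (by rw [← neg_smul]; exact hv.smul _)
            (by rw [← neg_smul]; exact hw.smul _), map_mul, map_mul]
        noncomm_ring
      simp only [e1, ← Finset.mul_sum, ← Finset.sum_mul, sum_tr_three h3]
      simp only [key w _ N φ, sum_tr_three h3]
      have hm := co2_comp (A := Matrix N N F) (N := φ (P.wedge e v)) (N' := φ (P.wedge e w)) (Z := φ (P.E e))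
        (-(P.B v v / 2)) (-(P.B w w / 2)) (by rw [← map_mul, hZ, map_zero]) (by rw [← map_mul, h1, map_zero])
        (by rw [← map_mul, h2, map_zero]) (by rw [← map_mul, h1', map_zero]) (by rw [← map_mul, h2', map_zero])
        (by rw [← map_mul, wedge_orth hp.ee hv.left hw.left hwv, map_zero]) Y
      rw [← hm]
      have hneg : ∀ (n m x : Matrix N N F), co2 n m (-x) = -co2 n m x := fun n m x => by
        simp only [co2, mul_neg, neg_mul]
        abel
      simp only [hneg, mul_neg, neg_mul, ← neg_add, neg_neg]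
  · let L : (Fin 1 → F) →ₗ[F] (γ → F) := (LinearMap.proj 0).smulRight v
    have hL : ∀ c, L c = c 0 • v := fun c => rfl
    refine ⟨1, L, fun c => hL c ▸ hv.smul _, fun c hc h0 => hc ?_,
      (∑ c : F, c ^ 4) * (-(P.B v v / 2) * -(P.B v v / 2)), fun N _ _ φ Y => ?_⟩
    · rw [hL, B_smul_left, B_smul_right] at h0
      funext i
      rw [Subsingleton.elim i 0]
      simpa [hvv] using h0
    · rw [← (Equiv.funUnique (Fin 1) F).symm.sum_comp]
      have e1 : ∀ a : F, L ((Equiv.funUnique (Fin 1) F).symm a) = a • v := fun a => rfl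
      simp only [e1, key v _ N φ, sum_tr_big h5, smul_mul_assoc, mul_smul_comm, smul_smul]

end Frm

end Cfsg.Lib.Classical.OrthPow
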