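import Cfsg.Agent.Classical.OrthPow.Scal

/-!
# Bringing one slot of an invariant set into standard shape
-/

set_option autoImplicit false
set_option linter.unusedSectionVars false
set_option linter.unusedSimpArgs false
set_option linter.style.haveILetI false

namespace Cfsg.Lib.Classical.OrthPow

open Matrix Finset
open scoped Kronecker MatrixGroups
open Cfsg.Lib.Classical.TensorOrth (sie)
open Cfsg.Lib.Classical.TensorPowLin (Rest slot slot_mul slot_one slot_smul slot_add slot_comm)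

universe u

variable {γ : Type} [Fintype γ] [DecidableEq γ] {F : Type u} [Field F]

namespace Frm

variable {P : Frm γ F}

theorem vec_mul_adj (x y : γ → F) (m : Matrix γ γ F) :
    vecMulVec x (P.G *ᵥ y) * P.adj m = vecMulVec x (P.G *ᵥ (m *ᵥ y)) := ext fun v => by
  rw [← mulVec_mulVec, show vecMulVec x (P.G *ᵥ y) *ᵥ (P.adj m *ᵥ v) = _ from P.T.B₁_vec x y _,
    show vecMulVec x (P.G *ᵥ (m *ᵥ y)) *ᵥ v = _ from P.T.B₁_vec x _ v, P.T.B₁_adjU, adj, P.T.adjU_adjU]

theorem self_form {Y : Matrix γ γ F} (hY : P.adj Y = Y) (a b : γ → F) : P.B a (Y *ᵥ b) = P.B b (Y *ᵥ a) := by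
  conv_lhs => rw [B, P.T.B₁_adjU, show P.T.adjU Y = Y from hY]
  exact P.B_comm _ _

theorem skew_self {K : Matrix γ γ F} (hK : P.adj K = -K) (a b : γ → F) : P.B a (K *ᵥ b) = -P.B b (K *ᵥ a) := by
  conv_lhs => rw [B, P.T.B₁_adjU, show P.T.adjU K = -K from hK, neg_mulVec, P.T.B₁_neg_left]
  rw [neg_inj]
  exact P.B_comm _ _

variable [Fintype F]

/-- A self-adjoint map whose form vanishes at the singular vectors is a scalar. -/
theorem self_scalar {Y : Matrix γ γ F} (hY : P.adj Y = Y) (h : ∀ g, P.B g g = 0 → P.B g (Y *ᵥ g) = 0) :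
    ∃ c : F, Y = c • 1 := by
  obtain ⟨e, f, hp⟩ := exists_pair' P
  set c := P.B e (Y *ᵥ f) with hc
  have h2 := P.two
  have key : ∀ z, P.Perp e f z →
      (P.B z (Y *ᵥ f) - P.B z z / 2 * P.B z (Y *ᵥ e)) = 0 ∧ P.B z (Y *ᵥ z) = c * P.B z z := by
    intro z hz
    have h1 := h _ (sie_pair hp hz).ff
    have h1' := h _ (sie_pair hp (hz.smul (-1))).ff
    rw [sie_f hp hz] at h1
    rw [sie_f hp (hz.smul _)] at h1'
    simp only [B_sub_left, B_sub_right, B_smul_left, B_smul_right, mulVec_sub, mulVec_smul, h e hp.ee, h f hp.ff,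
      self_form hY f z, self_form hY f e, self_form hY e z, ← hc] at h1 h1'
    constructor
    · have e2 : (4 : F) * (P.B z (Y *ᵥ f) - P.B z z / 2 * P.B z (Y *ᵥ e)) = 0 := by linear_combination h1' - h1
      exact (mul_eq_zero.mp e2).resolve_left (by
        rw [show (4 : F) = 2 * 2 by norm_num]; exact mul_ne_zero h2 h2)
    · field_simp at h1 h1' ⊢
      have e2 : (8 : F) * (P.B z (Y *ᵥ z) - c * P.B z z) = 0 := by linear_combination h1 + h1'
      have := (mul_eq_zero.mp e2).resolve_left (by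
        rw [show (8 : F) = 2 * 2 * 2 by norm_num]; exact mul_ne_zero (mul_ne_zero h2 h2) h2)
      linear_combination this
  have hzero : ∀ v, P.Perp e f v → P.B v v ≠ 0 → P.B v (Y *ᵥ e) = 0 := by
    intro v hv hvv
    rcases three_or_five P with h3 | h5
    · obtain ⟨w, hw, hvw, hww⟩ := exists_twin h3 hp hv hvv
      have k0 := (key v hv).1
      have k1 := (key w hw).1
      have k2 := (key _ (hv.add hw)).1
      have k3 := (key _ (hv.sub hw)).1
      simp only [B_add_left, B_add_right, B_sub_left, B_sub_right, hvw, P.B_comm w v, hww] at k1 k2 k3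
      have e2 : P.B v v * P.B v (Y *ᵥ e) = 0 := by
        field_simp at k0 k1 k2 k3
        refine (mul_eq_zero.mp (show (2 : F) * (P.B v v * P.B v (Y *ᵥ e)) = 0 by
          linear_combination (2 : F) * k0 - k2 - k3)).resolve_left h2
      exact (mul_eq_zero.mp e2).resolve_left hvv
    · classical
      obtain ⟨a, ha0, ha⟩ : ∃ a : F, a ≠ 0 ∧ a * a ≠ 1 := by
        by_contra hh
        push Not at hh
        have hsub : (Finset.univ : Finset F) ⊆ {0, 1, -1} := fun x _ => by
          simp only [Finset.mem_insert, Finset.mem_singleton]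
          by_cases hx : x = 0
          · exact Or.inl hx
          · exact Or.inr (mul_self_eq_one_iff.mp (hh x hx))
        have := (Finset.card_le_card hsub).trans Finset.card_le_three
        rw [Finset.card_univ] at this
        omega
      have k1 := (key v hv).1
      have k2 := (key _ (hv.smul a)).1
      simp only [B_smul_left, B_smul_right] at k2
      have e2 : a * (1 - a * a) * (P.B v v / 2 * P.B v (Y *ᵥ e)) = 0 := by linear_combination k2 - a * k1
      have h3 := (mul_eq_zero.mp e2).resolve_left (mul_ne_zero ha0 (sub_ne_zero.mpr (Ne.symm ha)))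
      exact (mul_eq_zero.mp h3).resolve_left (div_ne_zero hvv h2)
  have hze : ∀ z, P.Perp e f z → P.B z (Y *ᵥ e) = 0 := fun z hz => by
    have := perp_span hp (LinearMap.ker (P.Bl (Y *ᵥ e))) (fun v hv hvv => LinearMap.mem_ker.mpr (hzero v hv hvv)) hz
    exact LinearMap.mem_ker.mp this
  have hzf : ∀ z, P.Perp e f z → P.B z (Y *ᵥ f) = 0 := fun z hz => by
    have := (key z hz).1
    rwa [hze z hz, mul_zero, sub_zero] at this
  have hzw : ∀ z w, P.Perp e f z → P.Perp e f w → P.B z (Y *ᵥ w) = c * P.B z w := by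
    intro z w hz hw
    have h1 := (key _ (hz.add hw)).2
    simp only [B_add_left, B_add_right, mulVec_add, (key z hz).2, (key w hw).2, self_form hY w z, P.B_comm w z] at h1
    exact sub_eq_zero.mp ((mul_eq_zero.mp (show (2 : F) * (P.B z (Y *ᵥ w) - c * P.B z w) = 0 by
      linear_combination h1)).resolve_left h2)
  refine ⟨c, ext fun v => sub_eq_zero.mp (P.T.eq_zero₁ fun u => ?_)⟩
  show P.B u (Y *ᵥ v - (c • (1 : Matrix γ γ F)) *ᵥ v) = 0
  obtain ⟨z, hz, hv⟩ := decomp hp v
  obtain ⟨w, hw, hu⟩ := decomp hp u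
  rw [hu, hv]
  simp only [smul_mulVec, one_mulVec, B_sub_right, B_add_left, B_add_right, B_smul_left, B_smul_right, mulVec_add,
    mulVec_smul, h e hp.ee, h f hp.ff, self_form hY f e, self_form hY e z, self_form hY f z, hze z hz, hze w hw,
    hzf z hz, hzf w hw, hzw w z hw hz, ← hc, hp.ee, hp.ff, hp.ef, hp.fe, hz.left, hz.right, hw.left', hw.right']
  ring

/-- A skew map without middle coefficients vanishes. -/
theorem skew_zero {K : Matrix γ γ F} (hK : P.adj K = -K)
    (h : ∀ e f v, P.Pair e f → P.Perp e f v → P.B v v ≠ 0 →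
      co2 (P.wedge e v) (-(P.B v v / 2) • P.E e) K = 0) : K = 0 := by
  have h2 := P.two
  have hline : ∀ e f, P.Pair e f → P.proj e f *ᵥ (K *ᵥ e) = 0 := by
    intro e f hp
    obtain ⟨v, hv, hvv⟩ := exists_perp hp
    set y := P.proj e f *ᵥ (K *ᵥ e)
    have hy : P.Perp e f y := proj_perp hp _
    have h0 : P.wedge e ((P.B v v / 2) • y - P.B v y • v) = 0 := (co2_skew hp hv hK).symm.trans (h e f v hp hv hvv)
    have h1 := congrArg (· *ᵥ f) h0
    simp only [wedge_mulVec, zero_mulVec, hp.ef, B_sub_left, B_smul_left, hy.right', hv.right', mul_zero, sub_zero,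
      zero_smul, zero_sub, one_smul, neg_eq_zero] at h1
    have hvy : P.B v y = 0 := by
      have := congrArg (P.B v) h1
      rw [B_sub_right, B_smul_right, B_smul_right, B_zero_right] at this
      field_simp at this
      exact (mul_eq_zero.mp (show P.B v v * P.B v y = 0 by linear_combination (-1 : F) * this)).resolve_left hvv
    rw [hvy, zero_smul, sub_zero] at h1
    exact (smul_eq_zero.mp h1).resolve_left (div_ne_zero hvv h2)
  have hev : ∀ e f, P.Pair e f → K *ᵥ e = P.B f (K *ᵥ e) • e := by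
    intro e f hp
    have h1 := hline e f hp
    rw [proj_apply, show P.B e (K *ᵥ e) = 0 by
      have := skew_self hK e e
      exact (mul_eq_zero.mp (show (2 : F) * P.B e (K *ᵥ e) = 0 by linear_combination this)).resolve_left h2,
      zero_smul, sub_zero, sub_eq_zero] at h1
    exact h1
  obtain ⟨e, f, hp⟩ := exists_pair' P
  set l := P.B f (K *ᵥ e) with hl
  have hKf : K *ᵥ f = (-l) • f := by rw [hev f e hp.symm', skew_self hK e f]
  have hKe : K *ᵥ e = l • e := hev e f hp
  have hv0 : ∀ v, P.Perp e f v → K *ᵥ v + (l * 1) • v = 0 ∧ (P.B v v * l) • e = 0 := by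
    have key : ∀ v, P.Perp e f v → K *ᵥ (sie P.G e v *ᵥ f) = (-l) • (sie P.G e v *ᵥ f) := by
      intro v hv
      have hg := sie_pair hp hv
      rw [hev _ e hg.symm']
      congr 1
      rw [sie_f hp hv]
      simp only [mulVec_sub, mulVec_smul, B_sub_right, B_smul_right, hKe, hKf, hp.ee, hp.ef, skew_self hK e v,
        hv.left']
      ring
    intro v hv
    have k1 := key v hv
    have k2 := key _ (hv.smul (-1))
    rw [sie_f hp hv, mulVec_sub, mulVec_sub, mulVec_smul, hKe, hKf] at k1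
    rw [sie_f hp (hv.smul _), mulVec_sub, mulVec_sub, mulVec_smul, mulVec_smul, hKe, hKf, B_smul_left,
      B_smul_right] at k2
    have h2' := h2
    constructor
    · linear_combination (norm := (match_scalars <;> field_simp <;> ring)) (2 : F)⁻¹ • k2 - (2 : F)⁻¹ • k1
    · linear_combination (norm := (match_scalars <;> field_simp <;> ring)) (-(2 : F)⁻¹) • k1 - (2 : F)⁻¹ • k2
  obtain ⟨v, hv, hvv⟩ := exists_perp hp
  have hl0 : l = 0 := by
    have := (smul_eq_zero.mp (hv0 v hv).2).resolve_right hp.ne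
    exact (mul_eq_zero.mp this).resolve_left hvv
  refine ext fun x => ?_
  obtain ⟨z, hz, hx⟩ := decomp hp x
  have := (hv0 z hz).1
  rw [hl0, zero_mul, zero_smul, add_zero] at this
  rw [hx, mulVec_add, mulVec_add, mulVec_smul, mulVec_smul, hKe, hKf, hl0, this, zero_mulVec]
  simp

/-- A standard factor of a monomial. -/
inductive Fac (P : Frm γ F) : Matrix γ γ F → Prop where
  | one : Fac P 1
  | E {e : γ → F} (h0 : e ≠ 0) (he : P.B e e = 0) : Fac P (P.E e)
  | A {e f v : γ → F} (hp : P.Pair e f) (hv : P.Perp e f v) (hvv : P.B v v ≠ 0) : Fac P (P.wedge e v)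

variable {τ : Type} [Fintype τ] [DecidableEq τ]

theorem comp_co2 (l : τ) (x y : Rest l → γ) (N M : Matrix γ γ F) (Y : Matrix (τ → γ) (τ → γ) F) :
    comp l x y (co2 (slot l N) (slot l M) Y) = co2 N M (comp l x y Y) := by
  simp only [co2, map_add, map_sub, comp_slot_mul, comp_mul_slot]

/-- One slot of a non-zero element can be made standard. -/
theorem refine_slot {l : τ} {S : AddSubgroup (Matrix (τ → γ) (τ → γ) F)} (hS : P.Inv (slotHom l) S)
    (hpure : P.Full ∨ ∀ M ∈ S, ∃ K N, CM l N ∧ M = N * slot l K) {M : Matrix (τ → γ) (τ → γ) F} (hM : M ∈ S)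
    (hM0 : M ≠ 0) : ∃ g N, P.Fac g ∧ CM l N ∧ N * slot l g ∈ S ∧ N * slot l g ≠ 0 := by
  classical
  haveI := nonempty P
  have hne : ∀ Y : Matrix (τ → γ) (τ → γ) F, ∀ x y, comp l x y Y ≠ 0 → Y ≠ 0 := fun Y x y h h0 =>
    h (by rw [h0, map_zero])
  -- the top coefficient
  by_cases htop : ∃ g, g ≠ 0 ∧ P.B g g = 0 ∧ ∃ x y, P.B g (comp l x y M *ᵥ g) ≠ 0
  · obtain ⟨g, hg0, hg, x₀, y₀, hxy⟩ := htop
    obtain ⟨f, hp⟩ := exists_partner' hg0 hg
    obtain ⟨κ, hκ, hin⟩ := hS.top_mem hp hM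
    rw [slotHom_apply] at hin
    have hc : ∀ x y, comp l x y (κ • (slot l (P.E g) * M * slot l (P.E g))) =
        (κ * P.B g (comp l x y M *ᵥ g)) • P.E g := fun x y => by
      rw [map_smul, comp_mul_slot, comp_slot_mul, E_mul_E, smul_smul]
    obtain ⟨N, hN, e⟩ := split fun x y => ⟨_, hc x y⟩
    refine ⟨_, N, Fac.E hg0 hg, hN, e ▸ hin, e ▸ hne _ x₀ y₀ ?_⟩
    rw [hc]
    exact smul_ne_zero (mul_ne_zero hκ hxy) (E_ne_zero hg0)
  push Not at htop
  have hsplit : ∀ x y, ∃ (c : F) (K : Matrix γ γ F), P.adj K = -K ∧ comp l x y M = c • 1 + K := by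
    intro x y
    set Y := comp l x y M
    have hs : P.adj (Y + P.adj Y) = Y + P.adj Y := by
      rw [adj, P.T.adjU_add, P.T.adjU_adjU, add_comm]
    obtain ⟨c, hc⟩ := self_scalar hs fun g hg => by
      by_cases hg0 : g = 0
      · rw [hg0, B_zero_left]
      rw [add_mulVec, B_add_right, htop g hg0 hg x y, zero_add, P.B_comm, B, ← P.T.B₁_adjU]
      exact htop g hg0 hg x y
    refine ⟨c / 2, Y - (c / 2) • 1, ?_, by abel⟩
    rw [adj, P.T.adjU_sub, P.T.adjU_smul, P.T.adjU_one, show P.T.adjU Y = c • 1 - Y from eq_sub_of_add_eq' hc]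
    have := P.two
    match_scalars <;> field_simp <;> ring
  choose c K hK hcK using hsplit
  by_cases hmid : ∀ e f v, P.Pair e f → P.Perp e f v → P.B v v ≠ 0 → ∀ x y,
      co2 (P.wedge e v) (-(P.B v v / 2) • P.E e) (K x y) = 0
  · refine ⟨1, M, Fac.one, cm_iff.mpr fun x y => ⟨c x y, ?_⟩, by rwa [slot_one, mul_one], by rwa [slot_one, mul_one]⟩
    rw [hcK, skew_zero (hK x y) fun e f v hp hv hvv => hmid e f v hp hv hvv x y, add_zero]
  push Not at hmid
  obtain ⟨e, f, v, hp, hv, hvv, x₀, y₀, hxy⟩ := hmid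
  set M' := co2 (slot l (P.wedge e v)) (slot l (-(P.B v v / 2) • P.E e)) M with hM'
  have hin : M' ∈ S := by
    have h0 : slot l (P.E e) * M * slot l (P.E e) = 0 := comp_ext (l := l) fun x y => by
      rw [comp_mul_slot, comp_slot_mul, E_mul_E, map_zero, htop e hp.ne hp.ee x y, zero_smul]
    have := hS.co2_mem hp.ee hv.left hM h0
    rwa [slotHom_apply, slotHom_apply, ← slot_smul] at this
  set z : (Rest l → γ) → (Rest l → γ) → γ → F := fun x y =>
    (P.B v v / 2) • (P.proj e f *ᵥ (K x y *ᵥ e)) - P.B v (P.proj e f *ᵥ (K x y *ᵥ e)) • v with hz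
  have hzp : ∀ x y, P.Perp e f (z x y) := fun x y => ((proj_perp hp _).smul _).sub (hv.smul _)
  have hlin : ∀ (N₁ N₂ Y Y' : Matrix γ γ F) (a : F), co2 N₁ N₂ (a • Y + Y') = a • co2 N₁ N₂ Y + co2 N₁ N₂ Y' :=
    fun N₁ N₂ Y Y' a => by
      simp only [co2, mul_add, add_mul, mul_smul_comm, smul_mul_assoc, smul_add, smul_sub]
      abel
  have hcomp : ∀ x y, comp l x y M' = P.wedge e (z x y) := fun x y => by
    rw [hM', comp_co2, hcK, hlin, co2_one hp.ee hv.left, smul_zero, zero_add, co2_skew hp hv (hK x y)]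
  have hz0 : z x₀ y₀ ≠ 0 := fun h0 => hxy (by
    rw [co2_skew hp hv (hK x₀ y₀)]
    show P.wedge e (z x₀ y₀) = 0
    rw [h0, wedge, TensorOrth.TForm.wedge, mulVec_zero, vecMulVec_zero, zero_vecMulVec, sub_zero])
  have hwne : ∀ {a : γ → F}, P.Perp e f a → a ≠ 0 → P.wedge e a ≠ 0 := fun {a} ha ha0 h0 => by
    have := congrArg (· *ᵥ f) h0
    simp only [wedge_mulVec, zero_mulVec, ha.right', hp.ef, zero_smul, zero_sub, one_smul, neg_eq_zero] at this
    exact ha0 this
  have hv0 : v ≠ 0 := fun h0 => hvv (by rw [h0, B_zero_left])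
  by_cases hF : P.Full
  swap
  · -- dimension four without reflections
    obtain ⟨L, N, hN, eN⟩ := (hpure.resolve_left hF) M' hin
    have h4 : Fintype.card γ = 4 := by
      by_contra h; exact hF (Or.inl h)
    obtain ⟨a, ha⟩ := cm_iff.mp hN x₀ y₀
    have e0 : P.wedge e (z x₀ y₀) = a • L := by
      rw [← hcomp, eN, comp_mul_slot, ha, Matrix.smul_mul, one_mul]
    have ha0 : a ≠ 0 := fun h0 => hwne (hzp _ _) hz0 (by rw [e0, h0, zero_smul])
    refine ⟨_, a⁻¹ • N, Fac.A hp (hzp x₀ y₀) (fun h0 => hz0 (small' hp (hzp _ _) h4 h0)), hN.smul _, ?_⟩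
    have e1 : a⁻¹ • N * slot l (P.wedge e (z x₀ y₀)) = M' := by
      rw [e0, slot_smul, smul_mul_assoc, mul_smul_comm, smul_smul, inv_mul_cancel₀ ha0, one_smul, eN]
    exact ⟨e1 ▸ hin, e1 ▸ hne _ x₀ y₀ (hcomp x₀ y₀ ▸ hwne (hzp _ _) hz0)⟩
  by_cases h3 : Fintype.card γ = 3
  · -- the complement of a pair is a line
    have hline : ∀ x, P.Perp e f x → x = (P.B v x / P.B v v) • v := fun x hx => by
      have hf3 : TensorOrth.Frame P.G e v f := ⟨hp.ee, hp.ff, hp.ef, hv.left, hv.right, hvv⟩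
      have := hf3.expand ⟨P.symm, P.det, P.two, h3⟩ x
      rwa [show f ⬝ᵥ P.G *ᵥ x = 0 from hx.right, show e ⬝ᵥ P.G *ᵥ x = 0 from hx.left, zero_smul, zero_smul,
        zero_add, add_zero] at this
    obtain ⟨N, hN, eN⟩ := split (M := M') (A := P.wedge e v) fun x y =>
      ⟨P.B v (z x y) / P.B v v, by rw [hcomp, ← wedge_smul, ← hline _ (hzp x y)]⟩
    exact ⟨_, N, Fac.A hp hv hvv, hN, eN ▸ hin, eN ▸ hne _ x₀ y₀ (hcomp x₀ y₀ ▸ hwne (hzp _ _) hz0)⟩
  -- purify by the span of the Levi group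
  have hsm : ∀ (a : F) (Y : Matrix (τ → γ) (τ → γ) F), Y ∈ S → a • Y ∈ S := fun a Y hY =>
    hS.smul a (fun h => absurd h h3) Y hY
  let S' : Submodule F (Matrix γ γ F) :=
    { carrier := {m | slot l m * M' + M' * slot l (P.adj m) ∈ S}
      zero_mem' := by simp [TensorPowLin.slot_zero, adj, TensorOrth.TForm.adjU, S.zero_mem]
      add_mem' := fun {m m'} h h' => by
        have := S.add_mem h h'
        show _ ∈ S
        rw [adj, P.T.adjU_add, slot_add, slot_add, add_mul, mul_add]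
        convert this using 1
        abel
      smul_mem' := fun a m h => by
        show _ ∈ S
        rw [adj, P.T.adjU_smul, slot_smul, slot_smul, smul_mul_assoc, mul_smul_comm, ← smul_add]
        exact hsm a _ h }
  have hcm : ∀ (m : Matrix γ γ F), m *ᵥ e = 0 → ∀ x y,
      comp l x y (slot l m * M' + M' * slot l (P.adj m)) = P.wedge e (m *ᵥ z x y) := by
    intro m hm x y
    rw [map_add, comp_slot_mul, comp_mul_slot, hcomp, wedge, TensorOrth.TForm.wedge, Matrix.mul_sub, Matrix.sub_mul,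
      show P.T.G₁ = P.G from rfl, vec_mul_adj, vec_mul_adj, mul_vecMulVec, mul_vecMulVec, hm, mulVec_zero,
      vecMulVec_zero, zero_vecMulVec, zero_sub, sub_zero, wedge, TensorOrth.TForm.wedge,
      show P.T.G₁ = P.G from rfl]
    abel
  have hlevi : ∀ ρ h, P.Levi e f ρ h → h * P.proj e f ∈ S' := by
    intro ρ h hl
    show _ ∈ S
    convert hsm ρ⁻¹ _ (hS.conj h hl.mem M' hin) using 1
    refine comp_ext (l := l) fun x y => ?_
    rw [hcm _ (by rw [← mulVec_mulVec, proj_apply, hp.ee, hp.fe]; simp) x y, ← mulVec_mulVec, proj_fix (hzp x y),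
      map_smul, slotHom_apply, slotHom_apply, comp_mul_slot, comp_slot_mul, hcomp, conj_wedge, hl.he, wedge, wedge,
      P.T.wedge_smul_left, smul_smul, inv_mul_cancel₀ hl.ne, one_smul]
  obtain ⟨w, hw, hwz⟩ : ∃ w, P.Perp e f w ∧ P.B w (z x₀ y₀) ≠ 0 := by
    by_contra hh
    push Not at hh
    refine hz0 (P.T.eq_zero₁ fun u => ?_)
    obtain ⟨w, hw, hu⟩ := decomp hp u
    show P.B u _ = 0
    rw [hu, B_add_left, B_add_left, B_smul_left, B_smul_left, (hzp x₀ y₀).left, (hzp x₀ y₀).right, hh w hw]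
    simp
  set M'' := slot l (vecMulVec v (P.G *ᵥ w)) * M' + M' * slot l (P.adj (vecMulVec v (P.G *ᵥ w)))
  have hc'' : ∀ x y, comp l x y M'' = P.B w (z x y) • P.wedge e v := fun x y => by
    rw [hcm _ (by rw [show vecMulVec v (P.G *ᵥ w) *ᵥ e = P.B w e • v from P.T.B₁_vec v w e, hw.left', zero_smul]) x y,
      show vecMulVec v (P.G *ᵥ w) *ᵥ z x y = P.B w (z x y) • v from P.T.B₁_vec v w _, wedge_smul]
  obtain ⟨N, hN, eN⟩ := split fun x y => ⟨_, hc'' x y⟩
  refine ⟨_, N, Fac.A hp hv hvv, hN, eN ▸ (full_span hF hp S' hlevi hv hw), eN ▸ hne _ x₀ y₀ ?_⟩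
  rw [hc'']
  exact smul_ne_zero hwz (hwne hv hv0)

end Frm

end Cfsg.Lib.Classical.OrthPow
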