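import Cfsg.Agent.Classical.OrthPow.Unip

/-!
# Conjugates of a slot that commute with a root of another, and some small tools
-/

set_option autoImplicit false
set_option linter.unusedSectionVars false
set_option linter.unusedSimpArgs false
set_option linter.style.haveILetI false

namespace Cfsg.Lib.Classical.OrthPow

open Matrix Finset Module
open scoped Kronecker MatrixGroups
open Cfsg.Lib.Classical.TensorOrth (TForm inc kron_mul_inc sie)
open Cfsg.Lib.Classical.TensorPowLin (Rest toBig slot slot_eq slot_mul slot_one slot_smul slot_sub conjM conjM_apply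
  conjM_mul conjM_one commute_conjM)

universe u

variable {τ γ : Type} [Fintype τ] [DecidableEq τ] [Fintype γ] [DecidableEq γ] {F : Type u} [Field F]

theorem cubic {V : Type*} [AddCommGroup V] [Module F V] (h2 : (2 : F) ≠ 0) {c : F} (hc0 : c ≠ 0) (hc : c * c ≠ 1)
    {a b d : V} (h : ∀ x : F, (x * x * x) • a + (x * x) • b + x • d = 0) : a = 0 ∧ b = 0 ∧ d = 0 := by
  have h1 := h 1
  have h1' := h (-1)
  have hb : b = 0 := by
    have : (2 : F) • b = 0 := by linear_combination (norm := module) h1 + h1'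
    exact (smul_eq_zero.mp this).resolve_left h2
  have hd : d = -a := by
    rw [hb] at h1
    linear_combination (norm := module) h1
  have ha : a = 0 := by
    have h3 := h c
    rw [hb, hd] at h3
    have : (c * (c * c - 1)) • a = 0 := by linear_combination (norm := module) h3
    exact (smul_eq_zero.mp this).resolve_left (mul_ne_zero hc0 (sub_ne_zero.mpr hc))
  exact ⟨ha, hb, by rw [hd, ha, neg_zero]⟩

theorem exists_sq_ne_one [Fintype F] (h5 : 5 ≤ Fintype.card F) : ∃ c : F, c ≠ 0 ∧ c * c ≠ 1 := by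
  classical
  by_contra hh
  push Not at hh
  have hsub : (Finset.univ : Finset F) ⊆ {0, 1, -1} := fun x _ => by
    simp only [Finset.mem_insert, Finset.mem_singleton]
    by_cases hx : x = 0
    · exact Or.inl hx
    · exact Or.inr (mul_self_eq_one_iff.mp (hh x hx))
  have := (Finset.card_le_card hsub).trans Finset.card_le_three
  rw [Finset.card_univ] at this
  omega

theorem card_rest (i j : τ) : Fintype.card (Rest i → γ) = Fintype.card (Rest j → γ) := by
  rw [Fintype.card_fun, Fintype.card_fun]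
  congr 1
  simp [Rest, Fintype.card_subtype_compl]

theorem nul_smul {n : Type} [Fintype n] [DecidableEq n] {c : F} (hc : c ≠ 0) (M : Matrix n n F) :
    nul (c • M) = nul M := by
  have : LinearMap.ker (c • M).mulVecLin = LinearMap.ker M.mulVecLin := by
    ext v
    rw [mem_ker_mulVecLin, mem_ker_mulVecLin, smul_mulVec, smul_eq_zero]
    simp [hc]
  rw [nul, this, nul]

namespace Frm

/-- The conjugate of slot `i` commutes with a root of slot `j`. -/
def Pw (P : Frm γ F) (g : GL (τ → γ) F) (i j : τ) (e : γ → F) : Prop :=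
  ∀ A, Commute (conjM g (slot i A)) (slot j (P.E e))

variable {P : Frm γ F}

theorem sie_sq {e z : γ → F} (he : P.B e e = 0) (hz : P.B e z = 0) :
    (sie P.G e z - 1) * (sie P.G e z - 1) = -(P.B z z) • P.E e := by
  obtain ⟨h1, h2, h3⟩ := wedge_E he hz
  rw [sie_eq, add_sub_assoc, add_sub_cancel_left]
  simp only [sub_mul, mul_sub, smul_mul_assoc, mul_smul_comm, h1, h2, h3, smul_zero, sub_zero, wedge_sq he hz]

theorem slot_sq {j : τ} {e z : γ → F} (he : P.B e e = 0) (hz : P.B e z = 0) :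
    (slot j (sie P.G e z) - 1 : Matrix (τ → γ) (τ → γ) F) * (slot j (sie P.G e z) - 1) =
      -(P.B z z) • slot j (P.E e) := by
  rw [← slot_one j, ← slot_sub, ← slot_mul, sie_sq he hz, slot_smul]

/-- What commutes with a root element commutes with its square part. -/
theorem comm_E {j : τ} {e z : γ → F} (he : P.B e e = 0) (hz : P.B e z = 0) (hzz : P.B z z ≠ 0)
    {M : Matrix (τ → γ) (τ → γ) F} (h : Commute M (slot j (sie P.G e z))) : Commute M (slot j (P.E e)) := by
  have h1 : Commute M (slot j (sie P.G e z) - 1) := h.sub_right (Commute.one_right _)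
  have h2 := h1.mul_right h1
  rw [slot_sq he hz] at h2
  have h3 := h2.smul_right (-(P.B z z))⁻¹
  rwa [smul_smul, inv_mul_cancel₀ (neg_ne_zero.mpr hzz), one_smul] at h3

theorem conjM_fix {y : GL (τ → γ) F} {M : Matrix (τ → γ) (τ → γ) F}
    (h : Commute (y : Matrix (τ → γ) (τ → γ) F) M) : conjM y M = M := by
  rw [conjM_apply, h.eq, mul_assoc, Units.mul_inv, mul_one]

theorem sie_smul (e z : γ → F) (ρ σ : F) : sie P.G (ρ • e) (σ • z) = sie P.G e ((ρ * σ) • z) := by
  rw [sie_eq, sie_eq, E_smul, wedge_smul, wedge_smul, wedge, P.T.wedge_smul_left, B_smul_left, B_smul_left,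
    B_smul_right, B_smul_right]
  match_scalars <;> ring

theorem conj_sie {L : Matrix γ γ F} (hL : P.Iso L) (e z : γ → F) :
    L * sie P.G e z * P.adj L = sie P.G (L *ᵥ e) (L *ᵥ z) := by
  rw [sie_eq, sie_eq, Matrix.mul_sub, Matrix.sub_mul, Matrix.mul_add, Matrix.add_mul, Matrix.mul_one, hL.mul_adj,
    Matrix.mul_smul, Matrix.smul_mul, conj_E, conj_wedge, hL.form]

theorem sie_red {e f z : γ → F} (hp : P.Pair e f) (hz : P.B e z = 0) :
    ∃ z₀, P.Perp e f z₀ ∧ sie P.G e z = sie P.G e z₀ := by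
  obtain ⟨z₀, hz₀, ez⟩ := decomp hp z
  rw [hz, zero_smul, add_zero] at ez
  refine ⟨z₀, hz₀, ?_⟩
  have hw : P.wedge e (P.B f z • e + z₀) = P.wedge e z₀ := by
    rw [wedge_add, wedge_smul, wedge, P.T.wedge_self, smul_zero, zero_add]
  rw [sie_eq, sie_eq, ez, hw, B_add_left, B_add_right, B_add_right, B_smul_left, B_smul_left, B_smul_right,
    B_smul_right, hp.ee, hz₀.left, hz₀.left']
  simp

theorem pr_kron {j : τ} (A : Matrix (Rest j → γ) (Rest j → γ) F) (b : Matrix γ γ F) (φ w : γ → F) :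
    (P.Tj j).pr φ * (A ⊗ₖ b) * inc (Rest j → γ) w = P.B φ (b *ᵥ w) • A := by
  rw [Matrix.mul_assoc, kron_mul_inc, ← Matrix.mul_assoc, TForm.pr_mul_inc, Matrix.smul_mul, Matrix.one_mul]
  rfl

theorem E_rank {e : γ → F} (he : e ≠ 0) : (P.E e).rank = 1 := by
  obtain ⟨z, hz⟩ : ∃ z, P.B e z ≠ 0 := by
    by_contra hh
    push Not at hh
    exact he (P.T.eq_zero₁ fun z => by rw [← hh z]; exact P.B_comm z e)
  have : LinearMap.range (P.E e).mulVecLin = Submodule.span F {e} := by
    refine le_antisymm ?_ ?_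
    · rintro _ ⟨v, rfl⟩
      rw [Matrix.mulVecLin_apply, E_mulVec]
      exact Submodule.smul_mem _ _ (Submodule.mem_span_singleton_self e)
    · rw [Submodule.span_le, Set.singleton_subset_iff]
      exact ⟨(P.B e z)⁻¹ • z, by
        rw [Matrix.mulVecLin_apply, E_mulVec, B_smul_right, inv_mul_cancel₀ hz, one_smul]⟩
  rw [Matrix.rank, this, finrank_span_singleton he]

/-- A rank one matrix whose kernel is orthogonal to its range. -/
theorem form_of_rank_one {N : Matrix γ γ F} (hr : N.rank = 1)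
    (hperp : ∀ x y, N *ᵥ y = 0 → P.B (N *ᵥ x) y = 0) : ∃ (w : γ → F) (κ : F), κ ≠ 0 ∧ w ≠ 0 ∧ N = κ • P.E w := by
  obtain ⟨x₀, hx₀⟩ : ∃ x, N *ᵥ x ≠ 0 := by
    by_contra hh
    push Not at hh
    rw [show N = 0 from Matrix.ext_of_mulVec_single fun x => by rw [hh, zero_mulVec], Matrix.rank_zero] at hr
    omega
  set w := N *ᵥ x₀ with hw
  have hrange : LinearMap.range N.mulVecLin = Submodule.span F {w} := by
    refine (Submodule.eq_of_le_of_finrank_le ?_ ?_).symm
    · rw [Submodule.span_le, Set.singleton_subset_iff]; exact ⟨x₀, rfl⟩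
    · rw [finrank_span_singleton hx₀]; exact hr.le
  have hφ : ∀ v, ∃ c : F, N *ᵥ v = c • w := fun v => by
    have : N *ᵥ v ∈ Submodule.span F {w} := hrange ▸ ⟨v, rfl⟩
    obtain ⟨c, hc⟩ := Submodule.mem_span_singleton.mp this
    exact ⟨c, hc.symm⟩
  have hrel : ∀ v c, N *ᵥ v = c • w → P.B w v = c * P.B w x₀ := fun v c hc => by
    have h1 : N *ᵥ (v - c • x₀) = 0 := by rw [mulVec_sub, mulVec_smul, hc, hw, sub_self]
    have h2 := hperp x₀ _ h1
    rwa [← hw, B_sub_right, B_smul_right, sub_eq_zero] at h2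
  have hBx : P.B w x₀ ≠ 0 := fun h => hx₀ (P.T.eq_zero₁ fun v => by
    obtain ⟨c, hc⟩ := hφ v
    show P.B v w = 0
    rw [B_comm, hrel v c hc, h, mul_zero])
  refine ⟨w, (P.B w x₀)⁻¹, inv_ne_zero hBx, hx₀, ext fun v => ?_⟩
  obtain ⟨c, hc⟩ := hφ v
  rw [hc, smul_mulVec, E_mulVec, hrel v c hc, smul_smul, mul_comm c, ← mul_assoc, inv_mul_cancel₀ hBx, one_mul]

end Frm

end Cfsg.Lib.Classical.OrthPow
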