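import Cfsg.Agent.Classical.OrthPow.Hyp

/-!
# Scalars of the central elements
-/

set_option autoImplicit false
set_option linter.unusedSectionVars false
set_option linter.unusedSimpArgs false
set_option linter.style.haveILetI false

namespace Cfsg.Lib.Classical.OrthPow

open Matrix Finset
open scoped Kronecker MatrixGroups
open Cfsg.Lib.Classical.TensorPowLin (slot slot_mul slot_one slot_smul slot_comm In)

universe u

/-- An additive group with all `n`-th powers is everything, for small `n`. -/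
theorem eq_top_of_pow {F : Type u} [Field F] [Fintype F] (h2 : (2 : F) ≠ 0) {n : ℕ} (hn0 : 0 < n) (hn : n ≤ 4)
    (h9 : n ≤ 3 ∨ Fintype.card F ≠ 9) (W : AddSubgroup F) (h : ∀ c : F, c ^ n ∈ W) : W = ⊤ := by
  classical
  refine eq_top_iff.mpr fun x _ => ?_
  set K := Subring.closure {y : F | ∃ c, c ^ n = y} with hK
  have hKW : ∀ y ∈ K, y ∈ W := fun y hy => by
    rw [hK, Subring.mem_closure_iff] at hy
    induction hy using AddSubgroup.closure_induction with
    | mem z hz =>
      obtain ⟨c, rfl⟩ : ∃ c, c ^ n = z := by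
        induction hz using Submonoid.closure_induction with
        | mem w hw => exact hw
        | one => exact ⟨1, one_pow n⟩
        | mul a b _ _ ha hb =>
          obtain ⟨c, rfl⟩ := ha
          obtain ⟨d, rfl⟩ := hb
          exact ⟨c * d, mul_pow c d n⟩
      exact h c
    | zero => exact zero_mem W
    | add a b _ _ ha hb => exact add_mem ha hb
    | neg a _ ha => exact neg_mem ha
  refine hKW x ?_
  by_contra hx
  set T : Finset F := Finset.univ.filter (· ∈ K) with hT
  have hmem : ∀ y, y ∈ T ↔ y ∈ K := fun y => by simp [hT]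
  have hinvK : ∀ a ∈ K, a ≠ 0 → a⁻¹ ∈ K := fun a ha ha0 => by
    have h1 : 1 < Fintype.card F := Fintype.one_lt_card
    have e : a⁻¹ = a ^ (Fintype.card F - 2) := inv_eq_of_mul_eq_one_left (by
      rw [← pow_succ, show Fintype.card F - 2 + 1 = Fintype.card F - 1 by omega]
      exact FiniteField.pow_card_sub_one_eq_one a ha0)
    rw [e]
    exact pow_mem ha _
  have hsq : T.card * T.card ≤ Fintype.card F := by
    rw [← Finset.card_product, ← Finset.card_univ]
    refine Finset.card_le_card_of_injOn (fun p => p.1 + p.2 * x) (fun p _ => Finset.mem_univ _) ?_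
    intro p hp q hq hpq
    rw [Finset.mem_coe, Finset.mem_product, hmem, hmem] at hp hq
    have hpq' : p.1 + p.2 * x = q.1 + q.2 * x := hpq
    by_cases h2' : p.2 = q.2
    · exact Prod.ext (by rwa [h2', add_left_inj] at hpq') h2'
    · exfalso
      refine hx ?_
      have hd : q.2 - p.2 ≠ 0 := sub_ne_zero.mpr (Ne.symm h2')
      have : x = (p.1 - q.1) * (q.2 - p.2)⁻¹ := by
        rw [eq_mul_inv_iff_mul_eq₀ hd]
        linear_combination -hpq'
      rw [this]
      exact K.mul_mem (K.sub_mem hp.1 hq.1) (hinvK _ (K.sub_mem hq.2 hp.2) hd)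
  have h0 : (0 : F) ∈ T := (hmem _).mpr K.zero_mem
  have hle : Fintype.card F - 1 ≤ n * (T.card - 1) := by
    rw [← Finset.card_univ, ← Finset.card_erase_of_mem (Finset.mem_univ (0 : F)), ← Finset.card_erase_of_mem h0]
    refine Finset.card_le_mul_card_image_of_maps_to (f := fun c : F => c ^ n) (fun c hc => ?_) n fun b _ => ?_
    · rw [Finset.mem_erase] at hc
      exact Finset.mem_erase.mpr ⟨pow_ne_zero n hc.1, (hmem _).mpr (Subring.subset_closure ⟨c, rfl⟩)⟩
    · refine le_trans (Finset.card_le_card (t := (Polynomial.X ^ n - Polynomial.C b).roots.toFinset) ?_)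
        (le_trans (Multiset.toFinset_card_le _) (le_trans (Polynomial.card_roots' _) ?_))
      · intro c hc
        rw [Finset.mem_filter] at hc
        rw [Multiset.mem_toFinset, Polynomial.mem_roots (Polynomial.X_pow_sub_C_ne_zero hn0 b)]
        simp [hc.2]
      · rw [Polynomial.natDegree_X_pow_sub_C]
  have h3 : 3 ≤ T.card := by
    refine le_trans (le_of_eq ?_) (Finset.card_le_card (show ({0, 1, 2} : Finset F) ⊆ T from fun y hy => ?_))
    · refine (Finset.card_eq_three.mpr ⟨0, 1, 2, zero_ne_one, h2.symm, fun h12 => ?_, rfl⟩).symm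
      exact one_ne_zero (α := F) (by linear_combination -h12)
    · rw [hmem]
      simp only [Finset.mem_insert, Finset.mem_singleton] at hy
      rcases hy with rfl | rfl | rfl
      · exact K.zero_mem
      · exact K.one_mem
      · rw [← one_add_one_eq_two]; exact K.add_mem K.one_mem K.one_mem
  have hle4 : n * (T.card - 1) ≤ 4 * (T.card - 1) := Nat.mul_le_mul_right _ hn
  have h4 : T.card ≤ 3 := by
    by_contra hh
    have := Nat.mul_le_mul_right T.card (show 4 ≤ T.card by omega)
    omega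
  have h5 : T.card = 3 := by omega
  rw [h5] at hsq hle hle4
  rcases h9 with h9 | h9
  · have := Nat.mul_le_mul_right (3 - 1) h9
    omega
  · omega

variable {γ : Type} [Fintype γ] [DecidableEq γ] {F : Type u} [Field F]

namespace Frm

variable {P : Frm γ F}

section

variable [Fintype F]

/-- Every norm occurs orthogonally to a pair, in dimension at least four. -/
theorem exists_norm {e f : γ → F} (hp : P.Pair e f) (h4 : 4 ≤ Fintype.card γ) (r : F) :
    ∃ z, P.Perp e f z ∧ P.B z z = r := by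
  obtain ⟨v, hv, hvv⟩ := exists_perp hp
  obtain ⟨w, hw, hvw, hww⟩ := exists_perp_orth hp hv hvv h4
  have hodd : Fintype.card F % 2 = 1 := by
    refine FiniteField.odd_card_of_char_ne_two fun h => P.two ?_
    have := ringChar.Nat.cast_ringChar (R := F)
    rw [h] at this
    exact_mod_cast this
  obtain ⟨a, b, hab⟩ := FiniteField.exists_root_sum_quadratic (R := F)
    (f := Polynomial.C (P.B v v) * Polynomial.X ^ 2)
    (g := Polynomial.C (P.B w w) * Polynomial.X ^ 2 - Polynomial.C r)
    (Polynomial.degree_C_mul_X_pow 2 hvv)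
    (by
      rw [Polynomial.degree_sub_eq_left_of_degree_lt]
      · exact Polynomial.degree_C_mul_X_pow 2 hww
      · rw [Polynomial.degree_C_mul_X_pow 2 hww]
        exact lt_of_le_of_lt Polynomial.degree_C_le (by norm_num)) hodd
  refine ⟨a • v + b • w, (hv.smul a).add (hw.smul b), ?_⟩
  simp only [Polynomial.eval_mul, Polynomial.eval_C, Polynomial.eval_pow, Polynomial.eval_X,
    Polynomial.eval_sub] at hab
  rw [B_add_left, B_add_right, B_add_right, B_smul_left, B_smul_left, B_smul_left, B_smul_left, B_smul_right,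
    B_smul_right, B_smul_right, B_smul_right, hvw, P.B_comm w v, hvw]
  linear_combination hab

theorem exists_levi {e f : γ → F} (hp : P.Pair e f) (h4 : 4 ≤ Fintype.card γ) {ρ : F} (hρ : ρ ≠ 0) :
    ∃ h, P.Levi e f ρ h := by
  obtain ⟨v, hv, hvv⟩ := exists_perp hp
  obtain ⟨z, hz, hzz⟩ := exists_norm hp h4 (ρ * P.B v v)
  have hl := levi_tor hp hz (by rw [hzz]; exact mul_ne_zero hρ hvv) hv hvv
  rw [hzz, mul_div_cancel_right₀ _ hvv] at hl
  exact ⟨_, hl⟩

theorem exists_levi_sq {e f : γ → F} (hp : P.Pair e f) {c : F} (hc : c ≠ 0) :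
    ∃ h, P.Levi e f (c * c) h ∧ ∀ x, P.Perp e f x → (∀ v, P.Perp e f v → ∃ a : F, v = a • x) → h *ᵥ x = x := by
  obtain ⟨v, hv, hvv⟩ := exists_perp hp
  have hcv : P.B (c • v) (c • v) ≠ 0 := by
    rw [B_smul_left, B_smul_right]; exact mul_ne_zero hc (mul_ne_zero hc hvv)
  have hl := levi_tor hp (hv.smul c) hcv hv hvv
  refine ⟨_, by rw [B_smul_left, B_smul_right, ← mul_assoc, mul_div_cancel_right₀ _ hvv] at hl; exact hl,
    fun x hx hline => ?_⟩
  obtain ⟨a, ha⟩ := hline v hv
  have ha0 : a ≠ 0 := fun h => hvv (by rw [ha, h, zero_smul, B_zero_left])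
  have hxv : x = a⁻¹ • v := by rw [ha, smul_smul, inv_mul_cancel₀ ha0, one_smul]
  rw [(tor_apply hp (hv.smul c) hcv hv hvv).2.2 x hx, hxv]
  simp only [B_smul_left, B_smul_right, B_sub_right]
  match_scalars
  field_simp
  ring

/-- The torus of a pair: its square is in the group. -/
def diagTor (P : Frm γ F) (e f : γ → F) (ρ : F) : Matrix γ γ F :=
  ρ • vecMulVec e (P.G *ᵥ f) + ρ⁻¹ • vecMulVec f (P.G *ᵥ e) + P.proj e f

theorem diagTor_apply {e f : γ → F} (ρ : F) (x : γ → F) :
    P.diagTor e f ρ *ᵥ x = (ρ * P.B f x) • e + (ρ⁻¹ * P.B e x) • f + P.proj e f *ᵥ x := by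
  rw [diagTor, add_mulVec, add_mulVec, smul_mulVec, smul_mulVec,
    show vecMulVec e (P.G *ᵥ f) *ᵥ x = _ from P.T.B₁_vec e f x,
    show vecMulVec f (P.G *ᵥ e) *ᵥ x = _ from P.T.B₁_vec f e x, smul_smul, smul_smul]

theorem diagTor_spec {e f : γ → F} (hp : P.Pair e f) {ρ : F} (hρ : ρ ≠ 0) :
    P.diagTor e f ρ *ᵥ e = ρ • e ∧ P.diagTor e f ρ *ᵥ f = ρ⁻¹ • f ∧
      ∀ x, P.Perp e f x → P.diagTor e f ρ *ᵥ x = x := by
  refine ⟨?_, ?_, fun x hx => ?_⟩
  · rw [diagTor_apply, proj_apply, hp.fe, hp.ee]; simp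
  · rw [diagTor_apply, proj_apply, hp.ef, hp.ff]; simp
  · rw [diagTor_apply, proj_fix hx, hx.left, hx.right]; simp

theorem diagTor_iso {e f : γ → F} (hp : P.Pair e f) {ρ : F} (hρ : ρ ≠ 0) : P.Iso (P.diagTor e f ρ) := by
  refine ext fun x => sub_eq_zero.mp (P.T.eq_zero₁ fun z => ?_)
  show P.B z (_ - _) = 0
  rw [B_sub_right, one_mulVec, ← mulVec_mulVec, B, P.T.B₁_adjU, adj, P.T.adjU_adjU, ← B]
  have he : ∀ y, P.B e (P.diagTor e f ρ *ᵥ y) = ρ⁻¹ * P.B e y := fun y => by
    rw [diagTor_apply, proj_apply]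
    simp only [B_add_right, B_sub_right, B_smul_right, hp.ee, hp.ef]
    ring
  obtain ⟨w, hw, hzw⟩ := decomp hp z
  rw [hzw, mulVec_add, mulVec_add, mulVec_smul, mulVec_smul, (diagTor_spec hp hρ).1, (diagTor_spec hp hρ).2.1,
    (diagTor_spec hp hρ).2.2 w hw]
  simp only [diagTor_apply, proj_apply, B_add_left, B_add_right, B_sub_right, B_smul_left, B_smul_right, hp.ee, hp.ff,
    hp.ef, hp.fe, hw.left', hw.right']
  field_simp
  ring

theorem diagTor_sq {e f : γ → F} (hp : P.Pair e f) {ρ : F} (hρ : ρ ≠ 0) :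
    P.diagTor e f ρ * P.diagTor e f ρ ∈ P.Grp := by
  obtain ⟨v, hv, hvv⟩ := exists_perp hp
  have hcv : P.B (ρ • v) (ρ • v) ≠ 0 := by
    rw [B_smul_left, B_smul_right]; exact mul_ne_zero hρ (mul_ne_zero hρ hvv)
  obtain ⟨te, tf, tx⟩ := tor_apply hp (hv.smul ρ) hcv hv hvv
  obtain ⟨de, df, dx⟩ := diagTor_spec hp hρ
  convert tor_mem hp (hv.smul ρ) hv using 1
  refine ext fun x => ?_
  obtain ⟨w, hw, hxw⟩ := decomp hp x
  rw [hxw]
  simp only [← mulVec_mulVec, mulVec_add, mulVec_smul, de, df, dx w hw, te, tf, tx w hw, B_smul_left, B_smul_right,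
    B_sub_right]
  match_scalars <;> field_simp <;> ring

end

variable {τ : Type} [Fintype τ] [DecidableEq τ] [Fintype F] {X : Subgroup (GL (τ → γ) F)}

namespace Hyp

variable (hX : P.Hyp X)
include hX

theorem cen_smul {i : τ} {e : γ → F} (he : P.B e e = 0) (he0 : e ≠ 0) {w : F} (hw : P.Ok w)
    {M : Matrix (τ → γ) (τ → γ) F} (hM : M ∈ hX.cen i he) : w • M ∈ hX.cen i he := by
  classical
  obtain ⟨f, hp⟩ := exists_partner' he0 he
  let W : AddSubgroup F :=
    (hX.cen i he).comap (AddMonoidHom.mk' (fun c : F => c • M) fun a b => add_smul a b M)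
  have h4 : ∀ c : F, c ^ 4 ∈ W := fun c => by
    by_cases hc : c = 0
    · rw [hc, zero_pow (by norm_num)]; exact zero_mem W
    obtain ⟨h, hl, -⟩ := exists_levi_sq hp hc
    show c ^ 4 • M ∈ hX.cen i he
    rw [show c ^ 4 = c * c * (c * c) by ring]
    exact hX.cen_scale_sq he hl hM
  show w ∈ W
  by_cases hk : 4 ≤ Fintype.card γ
  · have hsq : ∀ c : F, c * c ∈ W := fun c => by
      by_cases hc : c = 0
      · rw [hc, mul_zero]; exact zero_mem W
      obtain ⟨h, hl⟩ := exists_levi hp hk hc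
      exact hX.cen_scale_sq he hl hM
    have h2 := P.two
    rw [show w = (w + 1) / 2 * ((w + 1) / 2) - (w - 1) / 2 * ((w - 1) / 2) by field_simp; ring]
    exact sub_mem (hsq _) (hsq _)
  · by_cases h9 : Fintype.card F = 9
    · have h3 : w ^ 3 = w := hw (by have := P.card; omega) (by rw [Nat.card_eq_fintype_card, h9])
      rcases mul_eq_zero.mp (show w * (w * w - 1) = 0 by linear_combination h3) with h | h
      · rw [h]; exact zero_mem W
      · have h1 : (1 : F) ∈ W := by simpa using h4 1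
        rcases mul_self_eq_one_iff.mp (sub_eq_zero.mp h) with rfl | rfl
        · exact h1
        · exact neg_mem h1
    · rw [eq_top_of_pow P.two (by norm_num) le_rfl (Or.inr h9) W h4]; exact AddSubgroup.mem_top w

/-- The central elements are stable, in the sense of one slot, at every other slot. -/
theorem cen_inv {i l : τ} (hil : i ≠ l) {e : γ → F} (he : P.B e e = 0) (he0 : e ≠ 0) :
    P.Inv (slotHom l) (hX.cen i he) :=
  ⟨fun _ hh _ hM => hX.cen_slot_conj hil he hh hM, fun _ hw _ hM => hX.cen_smul he he0 hw hM⟩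

end Hyp

end Frm

end Cfsg.Lib.Classical.OrthPow
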