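import Cfsg.Agent.Classical.OrthPow.Comps

/-!
# The scalar theorem for the components
-/

set_option autoImplicit false
set_option linter.unusedSectionVars false
set_option linter.unusedSimpArgs false
set_option linter.style.haveILetI false

namespace Cfsg.Lib.Classical.OrthPow

open Matrix Finset
open scoped Kronecker MatrixGroups
open Cfsg.Lib.Classical.TensorOrth (TForm inc inc_sub inc_add inc_smul kron_mul_inc sie sie_mul sie_cube sie_mul_neg
  sie_neg_mul exists_common conj_sub_nil)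
open Cfsg.Lib.Classical.TensorPowLin (Rest slot slot_mul slot_comm slot_one slot_sub slot_smul slot_injective slot_add
  eq_slot_of_comm)

universe u

variable {τ γ : Type} [Fintype τ] [DecidableEq τ] [Fintype γ] [DecidableEq γ] {F : Type u} [Field F]

namespace Frm

set_option maxHeartbeats 1000000

variable {P : Frm γ F} [Fintype F] {X : Subgroup (GL (τ → γ) F)} {j : τ}

/-- In the full case a component commuting with the root groups of all slots is scalar. -/
theorem Good.scalar_full (hG : P.Good X) (hF : P.Full) {e f : γ → F} (hp : P.Pair e f) {x y : γ → F}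
    (hxy : P.Pair x y) {G : Matrix ((Rest j → γ) × γ) ((Rest j → γ) × γ) F} (hg : Mem X j G)
    (hr : (P.Tj j).IsRad e G) {w : γ → F} (hw : P.B e w = 0)
    (hc : ∀ (l : Rest j) z, P.B x z = 0 → Commute (slot l (sie P.G x z)) ((P.Tj j).comp f G w)) :
    ∃ c : F, (P.Tj j).comp f G w = c • 1 := by
  set T := P.Tj j with hT
  set Φ := T.comp f G w with hΦ
  obtain ⟨c, hcψ⟩ := fix_line (v := Φ *ᵥ pten fun _ : Rest j => x) hxy.ne hxy.ee fun l z hz => by
    rw [mulVec_mulVec, (hc l z hz).eq, ← mulVec_mulVec, slot_mulVec_pten]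
    congr 1
    rw [sie_apply, P.B_comm z x, hz, hxy.ee]
    simp
  let s : Set (Matrix (Rest j → γ) (Rest j → γ) F) :=
    {D | IsNilpotent D ∧ ∃ G', Mem X j G' ∧ T.IsRad e G' ∧ ∃ w', P.B e w' = 0 ∧ ∃ c' : F, T.comp f G' w' = D + c' • 1}
  have hD : Φ - c • 1 = 0 := by
    refine nil_family (P := P) s (fun D h => h.1) ?_ ?_ _ ⟨?_, G, hg, hr, w, hw, c, (sub_add_cancel _ _).symm⟩
    · rintro D ⟨-, G₁, hg₁, hr₁, w₁, hw₁, c₁, e₁⟩ D' ⟨-, G₂, hg₂, hr₂, w₂, hw₂, c₂, e₂⟩
      have h := hG.comp_comm hF hp hg₁ hr₁ hg₂ hr₂ hw₁ hw₂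
      rw [← hT] at h
      rw [eq_sub_of_add_eq e₁.symm, eq_sub_of_add_eq e₂.symm]
      exact (h.sub_left ((Commute.one_left _).smul_left _)).sub_right ((Commute.one_right _).smul_right _)
    · rintro l a ha D ⟨hn, G₁, hg₁, hr₁, w₁, hw₁, c₁, e₁⟩
      obtain ⟨G', hg', hr', hY⟩ := rad_conj hG.hyp hp l ha hg₁ hr₁
      have h1 : slot l a * slot l (P.adj a) = (1 : Matrix (Rest j → γ) (Rest j → γ) F) := by
        rw [← slot_mul, (Grp.iso ha).mul_adj, slot_one]
      have h2 : slot l (P.adj a) * slot l a = (1 : Matrix (Rest j → γ) (Rest j → γ) F) := mul_eq_one_comm.mp h1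
      refine ⟨?_, G', hg', hr', w₁, hw₁, c₁, ?_⟩
      · obtain ⟨n, hn⟩ := hn
        refine ⟨n, ?_⟩
        have : ∀ m : ℕ, (slot l a * D * slot l (P.adj a)) ^ m = slot l a * D ^ m * slot l (P.adj a) := by
          intro m
          induction m with
          | zero => rw [pow_zero, pow_zero, Matrix.mul_one, h1]
          | succ m ih =>
            rw [pow_succ, ih, pow_succ]
            simp only [Matrix.mul_assoc]
            rw [← Matrix.mul_assoc (slot l (P.adj a)) (slot l a), h2, Matrix.one_mul]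
        rw [this, hn, Matrix.mul_zero, Matrix.zero_mul]
      · rw [hY w₁ hw₁, e₁, Matrix.mul_add, Matrix.add_mul, Matrix.mul_smul, Matrix.smul_mul, Matrix.mul_one, h1]
    · refine nil_of_fix hxy.ne hxy.ee (fun l z hz => (hc l z hz).sub_right ((Commute.one_right _).smul_right _)) ?_
      rw [sub_mulVec, smul_mulVec, one_mulVec, hcψ, sub_self]
  exact ⟨c, sub_eq_zero.mp hD⟩

/-- With two slots in dimension four the components are scalar too. -/
theorem Good.scalar_two (hG : P.Good X) (hF : ¬ P.Full) {e f : γ → F} (hp : P.Pair e f) {x y : γ → F}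
    (hxy : P.Pair x y) {G : Matrix ((Rest j → γ) × γ) ((Rest j → γ) × γ) F} (hg : Mem X j G)
    (hr : (P.Tj j).IsRad e G)
    (hc : ∀ w, P.B e w = 0 → ∀ (l : Rest j) z, P.B x z = 0 → Commute (slot l (sie P.G x z)) ((P.Tj j).comp f G w)) :
    ∀ w, P.B e w = 0 → ∃ c : F, (P.Tj j).comp f G w = c • 1 := by
  classical
  haveI : Nonempty γ := P.nonempty
  set T := P.Tj j with hT
  have hp₂ : T.Pair₂ e f := pair₂ hp
  have h4 : Fintype.card γ = 4 := by
    by_contra h
    exact hF (Or.inl h)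
  have h2τ : Fintype.card τ = 2 := hG.hyp.full.resolve_left hF
  have hsub : Subsingleton (Rest j) := by
    refine Fintype.card_le_one_iff_subsingleton.mp ?_
    rw [Fintype.card_subtype_compl]
    simp [h2τ]
  obtain ⟨l₀⟩ : Nonempty (Rest j) := by
    refine Fintype.card_pos_iff.mp ?_
    rw [Fintype.card_subtype_compl]
    simp [h2τ]
  have hC : ∀ w, ∃ C, T.comp f G w = slot l₀ C := fun w =>
    eq_slot_of_comm fun l hl => absurd (Subsingleton.elim l l₀) hl
  choose C hC using hC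
  have hCadd : ∀ u v, C (u + v) = C u + C v := fun u v =>
    slot_injective l₀ (by rw [slot_add, ← hC, ← hC, ← hC, T.comp_add])
  have hCsmul : ∀ (c : F) v, C (c • v) = c • C v := fun c v =>
    slot_injective l₀ (by rw [slot_smul, ← hC, ← hC, T.comp_smul])
  have hform : ∀ w, P.B e w = 0 → C w = P.B x (C w *ᵥ y) • (1 : Matrix γ γ F) + P.B y (C w *ᵥ y) • P.E x := by
    intro w hw
    have hCs : P.adj (C w) = C w := slot_injective l₀ (by
      rw [← adjU_slot (P := P) (j := j) l₀, ← hC]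
      exact hG.self_adj hp hg hr hw)
    refine P.T.fixed_form P.two P.card (small₁ P) (fun h => by rw [← Nat.card_eq_fintype_card]; exact P.ex h)
      ⟨hxy.ee, hxy.ff, hxy.ef⟩ hCs fun z hz => ⟨0, ?_⟩
    refine slot_injective l₀ ?_
    have h1 := hc w hw l₀ z hz
    rw [hC] at h1
    show slot l₀ (sie P.G x z * C w * sie P.G x (-z) - C w) = slot l₀ ((0 : F) • (1 : Matrix γ γ F))
    rw [zero_smul, slot_sub, slot_mul, slot_mul, h1.eq, Matrix.mul_assoc, ← slot_mul l₀ (sie P.G x z),
      sie_mul_neg P.symm P.two hxy.ee hz, slot_one, Matrix.mul_one, sub_self, TensorPowLin.slot_zero]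
  let b : (γ → F) →ₗ[F] F :=
    { toFun := fun w => P.B y (C w *ᵥ y)
      map_add' := fun u v => by rw [hCadd, add_mulVec, B_add_right]
      map_smul' := fun c v => by rw [hCsmul, smul_mulVec, B_smul_right]; rfl }
  obtain ⟨a, ha, haa⟩ := exists_perp hxy
  set h := sie P.G y a with hh'
  have hh : h ∈ P.Grp := sie_mem hxy.ff ha.right
  obtain ⟨G', hg', hr', hY⟩ := rad_conj hG.hyp hp l₀ hh hg hr
  set x' := h *ᵥ x with hx'
  have hxx' : P.B x x' ≠ 0 := by
    rw [hx', hh', sie_apply, B_sub_right, B_sub_right, B_add_right, B_smul_right, B_smul_right, B_smul_right, hxy.ee,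
      hxy.ef, hxy.fe, ha.left, show P.B a x = 0 from ha.left']
    simp only [mul_zero, add_zero, mul_one, sub_zero, zero_sub, neg_ne_zero, zero_add]
    exact div_ne_zero haa P.two
  have hC' : ∀ w, P.B e w = 0 → T.comp f G' w =
      slot l₀ (P.B x (C w *ᵥ y) • (1 : Matrix γ γ F) + b w • P.E x') := by
    intro w hw
    rw [hY w hw, hC, ← slot_mul, ← slot_mul]
    congr 1
    conv_lhs => rw [hform w hw]
    rw [Matrix.mul_add, Matrix.add_mul, Matrix.mul_smul, Matrix.smul_mul, Matrix.mul_smul, Matrix.smul_mul,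
      Matrix.mul_one, (Grp.iso hh).mul_adj, conj_E]
    rfl
  set S := ∑ k, b (T.us e f k) * b (T.us' e f k) with hS
  have heq := hG.rad_comm hp hg hr hg' hr'
  rw [← hT] at heq
  have hE : S • (P.E x * P.E x' - P.E x' * P.E x) = 0 := by
    refine slot_injective l₀ ?_
    rw [TensorPowLin.slot_zero]
    have e1 : ∀ u v, P.B e u = 0 → P.B e v = 0 →
        T.comp f G u * T.comp f G' v - T.comp f G' u * T.comp f G v =
          slot l₀ ((b u * P.B x (C v *ᵥ y) - P.B x (C u *ᵥ y) * b v) • P.E x +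
            (P.B x (C u *ᵥ y) * b v - b u * P.B x (C v *ᵥ y)) • P.E x' +
            (b u * b v) • (P.E x * P.E x' - P.E x' * P.E x)) := by
      intro u v hu hv
      rw [hC' v hv, hC' u hu, hC u, hC v, ← slot_mul, ← slot_mul, ← slot_sub]
      congr 1
      have eu : C u = P.B x (C u *ᵥ y) • (1 : Matrix γ γ F) + b u • P.E x := hform u hu
      have ev : C v = P.B x (C v *ᵥ y) • (1 : Matrix γ γ F) + b v • P.E x := hform v hv
      set au := P.B x (C u *ᵥ y)
      set av := P.B x (C v *ᵥ y)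
      rw [eu, ev]
      simp only [Matrix.mul_add, Matrix.add_mul, Matrix.mul_smul, Matrix.smul_mul, Matrix.mul_one, Matrix.one_mul]
      module
    have e2 : ∑ k, (T.comp f G (T.us e f k) * T.comp f G' (T.us' e f k) -
        T.comp f G' (T.us e f k) * T.comp f G (T.us' e f k)) = 0 := by
      rw [Finset.sum_sub_distrib, heq, sub_self]
    simp only [fun k => e1 _ _ (hp₂.us_left k) (hp₂.us'_left k)] at e2
    rw [← TensorPowLin.slot_sum] at e2
    have hsym : ∑ k, b (T.us e f k) * P.B x (C (T.us' e f k) *ᵥ y) =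
        ∑ k, P.B x (C (T.us e f k) *ᵥ y) * b (T.us' e f k) := by
      let a' : (γ → F) →ₗ[F] F :=
        { toFun := fun w => P.B x (C w *ᵥ y)
          map_add' := fun u v => by rw [hCadd, add_mulVec, B_add_right]
          map_smul' := fun c v => by rw [hCsmul, smul_mulVec, B_smul_right]; rfl }
      have hus : ∀ k, T.us' e f k = ∑ l, T.B₂ (T.us' e f l) (T.us' e f k) • T.us e f l := fun k => by
        conv_lhs => rw [hp₂.expand (T.us' e f k), hp₂.us'_left, hp₂.us'_right, zero_smul, zero_smul, zero_add,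
          zero_add]
      show ∑ k, b (T.us e f k) * a' (T.us' e f k) = ∑ k, a' (T.us e f k) * b (T.us' e f k)
      conv_lhs => arg 2; ext k; rw [hus k, map_sum, Finset.mul_sum]
      conv_rhs => arg 2; ext k; rw [hus k, map_sum, Finset.mul_sum]
      rw [Finset.sum_comm]
      simp only [map_smul, smul_eq_mul]
      exact Finset.sum_congr rfl fun k _ => Finset.sum_congr rfl fun l _ => by rw [T.B₂_comm]; ring
    simpa only [Finset.sum_add_distrib, ← Finset.sum_smul, Finset.sum_sub_distrib, hsym, sub_self, zero_smul,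
      zero_add] using e2
  have hEE : P.E x * P.E x' - P.E x' * P.E x ≠ 0 := fun h0 => by
    have h1 := congrArg (· *ᵥ x) h0
    simp only [sub_mulVec, ← mulVec_mulVec, E_mulVec, mulVec_smul, zero_mulVec, hxy.ee, zero_smul, sub_zero,
      smul_smul, P.B_zero_right] at h1
    exact smul_ne_zero (mul_ne_zero (show P.B x' x ≠ 0 by rw [P.B_comm]; exact hxx') hxx') hxy.ne h1
  have hS0 : S = 0 := (smul_eq_zero.mp hE).resolve_right hEE
  set zg : γ → F := ∑ k, b (T.us e f k) • T.us' e f k with hzg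
  have hzgp : P.Perp e f zg := by
    constructor
    · show T.B₂ e zg = 0
      simp only [hzg, TForm.B₂, mulVec_sum, dotProduct_sum, mulVec_smul, dotProduct_smul]
      exact Finset.sum_eq_zero fun k _ => by
        rw [show e ⬝ᵥ T.G₂ *ᵥ T.us' e f k = 0 from hp₂.us'_left k, smul_zero]
    · show T.B₂ f zg = 0
      simp only [hzg, TForm.B₂, mulVec_sum, dotProduct_sum, mulVec_smul, dotProduct_smul]
      exact Finset.sum_eq_zero fun k _ => by
        rw [show f ⬝ᵥ T.G₂ *ᵥ T.us' e f k = 0 from hp₂.us'_right k, smul_zero]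
  have hbe : b e = 0 := by
    show P.B y (C e *ᵥ y) = 0
    rw [show C e = 0 from slot_injective l₀ (by rw [← hC, TensorPowLin.slot_zero, hT, rad_comp_e hr]), zero_mulVec,
      B_zero_right]
  have hlin : ∀ w, P.B e w = 0 → T.B₂ zg w = b w := by
    intro w hw
    conv_rhs => rw [hp₂.expand w, map_add, map_add, map_smul, map_smul, map_sum, hbe,
      show T.B₂ e w = 0 from hw, smul_zero, zero_smul, zero_add, zero_add]
    rw [hzg, TForm.B₂, sum_dotProduct]
    refine Finset.sum_congr rfl fun k _ => ?_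
    rw [smul_dotProduct, map_smul, smul_eq_mul, smul_eq_mul, mul_comm]
    rfl
  have hzz : P.B zg zg = 0 := by
    show T.B₂ zg zg = 0
    rw [hlin zg hzgp.left, ← hS0, hS, hzg, map_sum]
    exact Finset.sum_congr rfl fun k _ => by rw [map_smul, smul_eq_mul]
  have hb0 : ∀ w, P.B e w = 0 → b w = 0 := fun w hw => by
    rw [← hlin w hw, small' hp hzgp h4 hzz, T.B₂_zero_left]
  intro w hw
  refine ⟨P.B x (C w *ᵥ y), ?_⟩
  conv_lhs => rw [hC, hform w hw, show P.B y (C w *ᵥ y) = 0 from hb0 w hw, zero_smul, add_zero, slot_smul, slot_one]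

/-- Without centres the components of radical elements are scalar. -/
theorem Good.comp_scalar (hG : P.Good X) {e f : γ → F} (hp : P.Pair e f)
    {G : Matrix ((Rest j → γ) × γ) ((Rest j → γ) × γ) F} (hg : Mem X j G) (hr : (P.Tj j).IsRad e G) {w : γ → F}
    (hw : P.B e w = 0) : ∃ c : F, (P.Tj j).comp f G w = c • 1 := by
  classical
  set T := P.Tj j with hT
  have hp₂ : T.Pair₂ e f := pair₂ hp
  obtain ⟨x, y, hxy⟩ := exists_pair' P
  let E := {w : γ → F // P.B e w = 0}
  let S : AddSubgroup (E → Matrix (Rest j → γ) (Rest j → γ) F) :=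
    { carrier := {Φ | ∃ g, Mem X j g ∧ T.IsRad e g ∧ ∀ w : E, Φ w = T.comp f g w.1}
      zero_mem' := ⟨1, Mem.one, ⟨by rw [Matrix.one_mul], fun w _ => ⟨0, by simp⟩⟩, fun w => by simp [TForm.comp]⟩
      add_mem' := by
        rintro Φ Ψ ⟨g, hg, hr, eg⟩ ⟨g', hg', hr', eg'⟩
        exact ⟨g * g', hg.mul hg', (hr.mul hp₂ hr').1, fun w => by
          rw [Pi.add_apply, eg, eg', (hr.mul hp₂ hr').2 _ w.2]⟩
      neg_mem' := by
        rintro Φ ⟨g, hg, hr, eg⟩
        exact ⟨_, hg.adj hG.hyp, (hr.adj hp₂ (hg.iso hG.hyp)).1, fun w => by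
          rw [Pi.neg_apply, eg, (hr.adj hp₂ (hg.iso hG.hyp)).2 _ w.2]⟩ }
  let N : AddSubgroup (E → Matrix (Rest j → γ) (Rest j → γ) F) :=
    { carrier := {Φ | ∀ w, ∃ c : F, Φ w = c • 1}
      zero_mem' := fun w => ⟨0, by simp⟩
      add_mem' := fun {Φ Ψ} h h' w => by
        obtain ⟨c, hc⟩ := h w
        obtain ⟨d, hd⟩ := h' w
        exact ⟨c + d, by rw [Pi.add_apply, hc, hd, add_smul]⟩
      neg_mem' := fun {Φ} h w => by
        obtain ⟨c, hc⟩ := h w
        exact ⟨-c, by rw [Pi.neg_apply, hc, neg_smul]⟩ }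
  let q : Rest j × {z : γ → F // P.B x z = 0} → Matrix (Rest j → γ) (Rest j → γ) F := fun k =>
    slot k.1 (sie P.G x k.2.1)
  let q' : Rest j × {z : γ → F // P.B x z = 0} → Matrix (Rest j → γ) (Rest j → γ) F := fun k =>
    slot k.1 (sie P.G x (-k.2.1))
  have hneg : ∀ z : γ → F, P.B x z = 0 → P.B x (-z) = 0 := fun z hz => by rw [B_neg_right, hz, neg_zero]
  have hqq : ∀ k, q k * q' k = 1 := fun k => by
    simp only [q, q', ← slot_mul]
    rw [sie_mul_neg P.symm P.two hxy.ee k.2.2, slot_one]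
  let L : Rest j × {z : γ → F // P.B x z = 0} → (E → Matrix (Rest j → γ) (Rest j → γ) F) →+
      (E → Matrix (Rest j → γ) (Rest j → γ) F) := fun k =>
    AddMonoidHom.mk' (fun Φ w => q k * Φ w * q' k - Φ w) fun a b => by
      funext w
      simp only [Pi.add_apply, Matrix.mul_add, Matrix.add_mul]
      abel
  have hsc : ∀ (k l : Rest j) (z z' : γ → F), P.B x z = 0 → P.B x z' = 0 →
      (slot k (sie P.G x z) : Matrix (Rest j → γ) (Rest j → γ) F) * slot l (sie P.G x z') =
        slot l (sie P.G x z') * slot k (sie P.G x z) := by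
    intro k l z z' hz hz'
    by_cases hkl : k = l
    · subst hkl
      rw [← slot_mul, ← slot_mul, sie_mul P.symm P.two hxy.ee hz hz', sie_mul P.symm P.two hxy.ee hz' hz, add_comm]
    · exact (slot_comm hkl _ _).eq
  by_contra hcon
  obtain ⟨Φ, ⟨g₀, hg₀, hr₀, eg₀⟩, hΦN, hfix⟩ := exists_common S N L
    (fun k Φ hΦ => by
      obtain ⟨g, hg, hr, eg⟩ := hΦ
      obtain ⟨g', hg', hr', hY⟩ := rad_conj hG.hyp hp k.1 (sie_mem hxy.ee k.2.2) hg hr
      refine ⟨g' * T.adjV g, hg'.mul (hg.adj hG.hyp), (hr'.mul hp₂ (hr.adj hp₂ (hg.iso hG.hyp)).1).1, fun w => ?_⟩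
      show q k * Φ w * q' k - Φ w = _
      rw [(hr'.mul hp₂ (hr.adj hp₂ (hg.iso hG.hyp)).1).2 _ w.2, hY _ w.2, (hr.adj hp₂ (hg.iso hG.hyp)).2 _ w.2, eg,
        adj_sie hxy.ee k.2.2, ← sub_eq_add_neg])
    (fun k Φ hΦ w => by
      obtain ⟨c, hc⟩ := hΦ w
      refine ⟨0, ?_⟩
      show q k * Φ w * q' k - Φ w = _
      rw [hc, Matrix.mul_smul, Matrix.smul_mul, Matrix.mul_one, hqq, sub_self, zero_smul])
    (fun k l Φ => by
      funext w
      show q k * (q l * Φ w * q' l - Φ w) * q' k - (q l * Φ w * q' l - Φ w) =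
        q l * (q k * Φ w * q' k - Φ w) * q' l - (q k * Φ w * q' k - Φ w)
      have e1 : q k * q l = q l * q k := hsc _ _ _ _ k.2.2 l.2.2
      have e2 : q' l * q' k = q' k * q' l := hsc _ _ _ _ (hneg _ l.2.2) (hneg _ k.2.2)
      simp only [Matrix.mul_sub, Matrix.sub_mul]
      simp only [Matrix.mul_assoc, e2]
      simp only [← Matrix.mul_assoc, e1]
      abel)
    (fun k => by
      have hn : ∀ z, P.B x z = 0 → IsNilpotent ((slot k.1 (sie P.G x z) : Matrix (Rest j → γ) (Rest j → γ) F) - 1) :=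
        fun z hz => ⟨3, by
          rw [show (slot k.1 (sie P.G x z) : Matrix (Rest j → γ) (Rest j → γ) F) - 1 =
            slotHom k.1 (sie P.G x z - 1) by rw [slotHom_apply, slot_sub, slot_one], ← map_pow,
            sie_cube P.symm hxy.ee hz, map_zero]⟩
      obtain ⟨n, hn⟩ := conj_sub_nil (R := Matrix (Rest j → γ) (Rest j → γ) F) (hn _ k.2.2) (hn _ (hneg _ k.2.2))
      refine ⟨n, fun Φ => funext fun w => ?_⟩
      have hi : ∀ m : ℕ, ((L k)^[m] Φ) w = (fun Y => q k * Y * q' k - Y)^[m] (Φ w) := by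
        intro m
        induction m with
        | zero => rfl
        | succ m ih => rw [Function.iterate_succ_apply', Function.iterate_succ_apply', ← ih]; rfl
      rw [hi, hn]
      rfl)
    ⟨fun w => T.comp f G w.1, ⟨G, hg, hr, fun _ => rfl⟩, fun h => hcon (h ⟨w, hw⟩)⟩ Finset.univ
  have hcomm : ∀ w, P.B e w = 0 → ∀ (l : Rest j) z, P.B x z = 0 →
      Commute (slot l (sie P.G x z)) (T.comp f g₀ w) := fun w hw =>
    hG.fixed_comm hp hxy hg₀ hr₀ hw fun l z hz => by
      obtain ⟨c, hc⟩ := hfix (l, ⟨z, hz⟩) (Finset.mem_univ _) ⟨w, hw⟩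
      refine ⟨c, ?_⟩
      rw [← eg₀ ⟨w, hw⟩]
      exact hc
  refine hΦN fun w => ?_
  rw [eg₀]
  by_cases hF : P.Full
  · exact hG.scalar_full hF hp hxy hg₀ hr₀ w.2 (hcomm w.1 w.2)
  · exact hG.scalar_two hF hp hxy hg₀ hr₀ hcomm w.1 w.2

end Frm

end Cfsg.Lib.Classical.OrthPow
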