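import Cfsg.Agent.Classical.OrthPow.Slots

/-!
# A root of the Lie algebra of one slot is moved into one slot
-/

set_option autoImplicit false
set_option linter.unusedSectionVars false
set_option linter.unusedSimpArgs false
set_option linter.style.haveILetI false

namespace Cfsg.Lib.Classical.OrthPow

open Matrix Finset
open scoped Kronecker MatrixGroups
open Cfsg.Lib.Classical.TensorOrth (TForm sie Three Frame)
open Cfsg.Lib.Classical.TensorPowLin (Rest toBig slot slot_eq slot_add slot_sub slot_smul slot_zero slot_neg slot_one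
  slot_mul slot_comm slot_injective conjM conjM_apply conjM_mul conjM_one conjM_conjM conjM_inv_conjM commute_conjM Eqj)

universe u

variable {τ γ : Type} [Fintype τ] [DecidableEq τ] [Fintype γ] [DecidableEq γ] {F : Type u} [Field F]

theorem commute_slot_sum {s : Finset τ} {a : τ} (ha : a ∉ s) (A : Matrix γ γ F) (φ : τ → Matrix γ γ F) :
    Commute (slot a A) (∑ l ∈ s, slot l (φ l)) :=
  Commute.sum_right _ _ _ fun l hl => slot_comm (fun e : a = l => ha (e ▸ hl)) _ _

/-- A vanishing sum over the slots has scalar terms. -/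
theorem scalar_of_slot_sum [Nonempty γ] {φ : τ → Matrix γ γ F} (h : ∑ l, slot l (φ l) = 0) (l : τ) :
    ∃ c : F, φ l = c • 1 := by
  have hc : ∀ B, Commute B (φ l) := fun B => by
    refine slot_injective (F := F) l ?_
    rw [slot_mul, slot_mul]
    have h1 : slot l (φ l) = -∑ m ∈ Finset.univ.erase l, slot m (φ m) := by
      rw [eq_neg_iff_add_eq_zero, Finset.add_sum_erase _ (fun m => slot m (φ m)) (Finset.mem_univ l), h]
    rw [h1]
    exact (commute_slot_sum (Finset.notMem_erase l _) B φ).neg_right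
  obtain ⟨c, hc'⟩ := Matrix.mem_range_scalar_of_commute_single fun i j _ => hc (Matrix.single i j 1)
  exact ⟨c, by rw [← hc', Matrix.scalar_apply, Matrix.smul_one_eq_diagonal]⟩

theorem slot_sum_pow [Nonempty γ] [Fintype F] (s : Finset τ) (φ : τ → Matrix γ γ F) :
    (∑ l ∈ s, slot l (φ l)) ^ ringChar F = ∑ l ∈ s, slot l (φ l ^ ringChar F) := by
  haveI : Fact (ringChar F).Prime := ⟨CharP.char_is_prime F _⟩
  haveI : Nonempty (τ → γ) := ⟨fun _ => Classical.arbitrary γ⟩
  haveI : CharP (Matrix (τ → γ) (τ → γ) F) (ringChar F) := Matrix.charP _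
  induction s using Finset.induction_on with
  | empty => rw [Finset.sum_empty, Finset.sum_empty, zero_pow (Fact.out : (ringChar F).Prime).ne_zero]
  | insert a s ha ih =>
    rw [Finset.sum_insert ha, Finset.sum_insert ha, add_pow_char_of_commute _ (commute_slot_sum ha _ φ), ih,
      Frm.slot_pow]

theorem slot_sum_bracket (φ ψ : τ → Matrix γ γ F) :
    (∑ l, slot l (φ l)) * (∑ l, slot l (ψ l)) - (∑ l, slot l (ψ l)) * (∑ l, slot l (φ l)) =
      ∑ l, slot l (φ l * ψ l - ψ l * φ l) := by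
  classical
  simp only [Finset.sum_mul, Finset.mul_sum]
  rw [Finset.sum_comm (f := fun l m => slot m (ψ m) * slot l (φ l)), ← Finset.sum_sub_distrib]
  refine Finset.sum_congr rfl fun l _ => ?_
  rw [← Finset.sum_sub_distrib, Finset.sum_eq_single l (fun m _ hm => ?_) (by simp), slot_sub, slot_mul, slot_mul]
  exact sub_eq_zero.mpr (slot_comm hm (φ m) (ψ l)).eq

namespace Frm

variable {P : Frm γ F}

theorem skew_scalar_zero {K : Matrix γ γ F} (hK : P.adj K = -K) {c : F} (h : K = c • 1) : K = 0 := by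
  rw [h, adj, P.T.adjU_smul, P.T.adjU_one, eq_neg_iff_add_eq_zero, ← two_smul F, smul_smul, smul_eq_zero] at hK
  haveI : Nonempty γ := P.nonempty
  rw [h, (mul_eq_zero.mp (hK.resolve_right one_ne_zero)).resolve_left P.two, zero_smul]

theorem skew_pow {K : Matrix γ γ F} (hK : P.adj K = -K) (n : ℕ) : P.adj (K ^ n) = (-1 : F) ^ n • K ^ n := by
  induction n with
  | zero => rw [pow_zero, pow_zero, one_smul, adj, P.T.adjU_one]
  | succ n ih =>
    simp only [adj] at ih hK ⊢
    rw [pow_succ', P.T.adjU_mul, ih, hK, Matrix.smul_mul, Matrix.mul_neg, ← pow_succ, ← pow_succ',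
      pow_succ (-1 : F), mul_neg_one, neg_smul, smul_neg]

/-- In dimension three a skew map killing `w` is a root at `w`. -/
theorem skew_fix (h3 : Fintype.card γ = 3) {w x f : γ → F} (hF : Frame P.G w x f) {K : Matrix γ γ F}
    (hK : P.adj K = -K) (hKw : K *ᵥ w = 0) : ∃ c : F, K = P.wedge w (c • x) := by
  have h3' : Three P.G := ⟨P.symm, P.det, P.two, h3⟩
  have hwx : P.B w x = 0 := hF.ex
  have hwf : P.B w f = 1 := hF.ef
  have hfx : P.B f x = 0 := hF.fx
  have hff : P.B f f = 0 := hF.ff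
  have hxx : P.B x x ≠ 0 := hF.xx
  have hww : P.B w w = 0 := hF.ee
  have hself : ∀ a, P.B a (K *ᵥ a) = 0 := fun a => by
    have h := skew_self hK a a
    exact (mul_eq_zero.mp (show (2 : F) * P.B a (K *ᵥ a) = 0 by linear_combination h)).resolve_left P.two
  have hKl : ∀ a, P.B w (K *ᵥ a) = 0 := fun a => by
    rw [skew_self hK w a, hKw, B_zero_right, neg_zero]
  set c := -(P.B x (K *ᵥ f) / P.B x x) with hc
  refine ⟨c, hF.ext h3' ?_ ?_ ?_⟩
  · rw [hKw, wedge_mulVec, B_smul_left, P.B_comm x w, hwx, hww]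
    simp
  · have h1 : K *ᵥ x = P.B f (K *ᵥ x) • w + (P.B x (K *ᵥ x) / P.B x x) • x + P.B w (K *ᵥ x) • f :=
      hF.expand h3' (K *ᵥ x)
    rw [hself, hKl, zero_div, zero_smul, zero_smul, add_zero, add_zero, skew_self hK f x] at h1
    rw [h1, wedge_mulVec, B_smul_left, hwx, zero_smul, sub_zero, hc]
    congr 1
    field_simp
  · have h1 : K *ᵥ f = P.B f (K *ᵥ f) • w + (P.B x (K *ᵥ f) / P.B x x) • x + P.B w (K *ᵥ f) • f :=
      hF.expand h3' (K *ᵥ f)
    rw [hself, hKl, zero_smul, zero_smul, zero_add, add_zero] at h1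
    rw [h1, wedge_mulVec, B_smul_left, hwf, P.B_comm x f, hfx, mul_zero, zero_smul, one_smul, zero_sub, hc,
      neg_smul, neg_neg]

/-- In dimension three a skew map commuting with `E w` is a root at `w`. -/
theorem skew_comm_E (h3 : Fintype.card γ = 3) {w x f : γ → F} (hF : Frame P.G w x f) {K : Matrix γ γ F}
    (hK : P.adj K = -K) (hc : Commute K (P.E w)) : ∃ c : F, K = P.wedge w (c • x) := by
  refine skew_fix h3 hF hK ?_
  have hwf : P.B w f = 1 := hF.ef
  have h1 := congrArg (· *ᵥ f) hc.eq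
  simp only [← mulVec_mulVec, E_mulVec, hwf, one_smul] at h1
  have h2 := congrArg (P.B f) h1
  rw [B_smul_right, P.B_comm f w, hwf, mul_one, skew_self hK f w] at h2
  have h0 : P.B w (K *ᵥ f) = 0 :=
    (mul_eq_zero.mp (show (2 : F) * P.B w (K *ᵥ f) = 0 by linear_combination -h2)).resolve_left P.two
  rwa [h0, zero_smul] at h1

/-- In dimension three a non-zero nilpotent skew map is a root. -/
theorem skew_nil_root [Fintype F] (h3 : Fintype.card γ = 3) {K : Matrix γ γ F} (hK : P.adj K = -K)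
    (hn : IsNilpotent K) (h0 : K ≠ 0) :
    ∃ w x f, ∃ c : F, Frame P.G w x f ∧ c ≠ 0 ∧ K = P.wedge w (c • x) := by
  classical
  have hex : ∃ n, K ^ n = 0 := hn
  have hn2 : 2 ≤ Nat.find hex := by
    by_contra hh
    refine h0 ?_
    have h := pow_eq_zero_of_le (show Nat.find hex ≤ 1 by omega) (Nat.find_spec hex)
    rwa [pow_one] at h
  obtain ⟨k, hk⟩ := Nat.exists_eq_add_of_le hn2
  obtain ⟨u, hu⟩ : ∃ u, K ^ (k + 1) *ᵥ u ≠ 0 := by
    by_contra hh
    push Not at hh
    exact Nat.find_min hex (show k + 1 < Nat.find hex by omega)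
      (Matrix.ext_of_mulVec_single fun j => by rw [hh, zero_mulVec])
  set w := K ^ (k + 1) *ᵥ u with hw
  have hKw : K *ᵥ w = 0 := by
    rw [hw, mulVec_mulVec, ← pow_succ', show k + 1 + 1 = Nat.find hex by omega, Nat.find_spec hex, zero_mulVec]
  have hww : P.B w w = 0 := by
    rw [show P.B w w = P.B w (K *ᵥ (K ^ k *ᵥ u)) by rw [hw, mulVec_mulVec, ← pow_succ'], skew_self hK, hKw,
      B_zero_right, neg_zero]
  obtain ⟨x, f, hF⟩ := TensorOrth.exists_frame (G := P.G) ⟨P.symm, P.det, P.two, h3⟩ hu hww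
  obtain ⟨c, hc⟩ := skew_fix h3 hF hK hKw
  refine ⟨w, x, f, c, hF, fun hc0 => h0 ?_, hc⟩
  rw [hc, hc0, wedge_smul, zero_smul]

theorem wedge_cube {e v : γ → F} (he : P.B e e = 0) (hv : P.B e v = 0) : P.wedge e v ^ 3 = 0 := by
  rw [pow_succ, pow_two, wedge_sq he hv, smul_mul_assoc, (wedge_E he hv).2.1, smul_zero]

theorem wedge_nul {e f v : γ → F} (hp : P.Pair e f) (hv : P.Perp e f v) (hvv : P.B v v ≠ 0) :
    nul (P.wedge e v) + 2 = Fintype.card γ := by
  set U := 1 + (2 : F)⁻¹ • P.wedge e v with hU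
  have hUu : IsUnit U := IsNilpotent.isUnit_one_add (IsNilpotent.smul ⟨3, wedge_cube hp.ee hv.left⟩ _)
  have e1 : sie P.G e v - 1 = P.wedge e v * U := by
    rw [hU, mul_add, mul_one, mul_smul_comm, wedge_sq hp.ee hv.left, smul_smul, sie_eq]
    module
  have h1 := nul_root hp hv hvv
  have h2 := nul_add_rank (sie P.G e v - 1)
  have h3 := nul_add_rank (P.wedge e v)
  rw [e1, Matrix.rank_mul_eq_left_of_isUnit_det _ _ ((Matrix.isUnit_iff_isUnit_det _).mp hUu)] at h2
  rw [e1] at h1
  omega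

theorem slot_skew_unique [Nonempty γ] {φ ψ : τ → Matrix γ γ F} (hφ : ∀ l, P.adj (φ l) = -φ l)
    (hψ : ∀ l, P.adj (ψ l) = -ψ l) (h : ∑ l, slot l (φ l) = ∑ l, slot l (ψ l)) : φ = ψ := by
  funext l
  obtain ⟨c, hc⟩ := scalar_of_slot_sum (φ := fun l => φ l - ψ l)
    (by simp only [slot_sub, Finset.sum_sub_distrib, h, sub_self]) l
  exact sub_eq_zero.mp (skew_scalar_zero (P := P) (by
    rw [show P.adj (φ l - ψ l) = P.adj (φ l) - P.adj (ψ l) from P.T.adjU_sub _ _, hφ, hψ]; abel) hc)

variable {X : Subgroup (GL (τ → γ) F)} [Fintype F]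

theorem Good.root_nil (hG : P.Good X) {g : GL (τ → γ) F} {i : τ} {e v : γ → F} (he : P.B e e = 0)
    (hv : P.B e v = 0) {φ : τ → Matrix γ γ F} (hs : ∀ l, P.adj (φ l) = -φ l)
    (h : conjM g (slot i (P.wedge e v)) = ∑ l, slot l (φ l)) (l : τ) : φ l ^ ringChar F = 0 := by
  haveI : Nonempty γ := P.nonempty
  haveI : Fact (ringChar F).Prime := ⟨CharP.char_is_prime F _⟩
  have hp2 : ringChar F ≠ 2 := fun h2 => P.two (by
    have h' := ringChar.Nat.cast_ringChar (R := F)
    rw [h2] at h'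
    exact_mod_cast h')
  have hp3 : 3 ≤ ringChar F := by
    have := (Fact.out : (ringChar F).Prime).two_le
    omega
  obtain ⟨m, hm⟩ := (Fact.out : (ringChar F).Prime).odd_of_ne_two hp2
  have hW : (∑ l, slot l (φ l)) ^ 3 = 0 := by
    rw [← h, pow_succ, pow_two, ← conjM_mul, ← conjM_mul, ← slot_mul, ← slot_mul, ← pow_two, ← pow_succ,
      wedge_cube he hv, slot_zero, map_zero]
  have h0 := pow_eq_zero_of_le hp3 hW
  rw [slot_sum_pow] at h0
  obtain ⟨c, hc⟩ := scalar_of_slot_sum h0 l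
  refine skew_scalar_zero (P := P) ?_ hc
  rw [skew_pow (hs l), hm, Odd.neg_one_pow ⟨m, rfl⟩, neg_one_smul]

set_option maxHeartbeats 1000000 in
/-- Only one slot occurs in the conjugate of a root of a slot. -/
theorem Good.root_single (hG : P.Good X) {g : GL (τ → γ) F} (hg : g ∈ X) (i : τ) {e f v : γ → F}
    (hp : P.Pair e f) (hv : P.Perp e f v) (hvv : P.B v v ≠ 0) :
    ∃ l K, K ≠ 0 ∧ P.adj K = -K ∧ conjM g (slot i (P.wedge e v)) = slot l K := by
  classical
  haveI : Nonempty γ := P.nonempty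
  obtain ⟨φ, hs, hφ⟩ := hG.conj_skew hg i (P.adj_wedge e v)
  have hnil : ∀ l, IsNilpotent (φ l) := fun l => ⟨_, hG.root_nil hp.ee hv.left hs hφ l⟩
  obtain ⟨l, hl⟩ : ∃ l, φ l ≠ 0 := by
    by_contra hh
    push Not at hh
    simp only [hh, slot_zero, Finset.sum_const_zero] at hφ
    have h1 := congrArg (conjM g⁻¹) hφ
    rw [conjM_inv_conjM, map_zero, ← slot_zero i] at h1
    have h2 := congrArg (· *ᵥ v) (slot_injective i h1)
    rw [wedge_mulVec, hv.left, zero_smul, sub_zero, zero_mulVec, smul_eq_zero] at h2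
    exact h2.elim hvv hp.ne
  refine ⟨l, φ l, hl, hs l, ?_⟩
  suffices honly : ∀ m, m ≠ l → φ m = 0 by
    rw [hφ, Finset.sum_eq_single l (fun m _ hm => by rw [honly m hm, slot_zero]) (by simp)]
  intro m hm
  by_contra hm0
  rcases (P.card).lt_or_eq with h4 | h3
  · -- two slots bound the kernel
    set M : Matrix (Rest l → γ) (Rest l → γ) F := ∑ m : Rest l, slot m (φ m.1) with hM
    have hMn : IsNilpotent M := ⟨ringChar F, by
      rw [hM, slot_sum_pow]
      exact Finset.sum_eq_zero fun m _ => by rw [hG.root_nil hp.ee hv.left hs hφ, slot_zero]⟩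
    have hM0 : M ≠ 0 := fun h0 => hm0 (by
      obtain ⟨c, hc⟩ := scalar_of_slot_sum (φ := fun m : Rest l => φ m.1) h0 ⟨m, hm⟩
      exact skew_scalar_zero (hs m) hc)
    have hlt := fix_bound hMn hM0 (-φ l) ((SkN.of_skew (hnil l).neg (by
      rw [← neg_one_smul F (φ l), adj, P.T.adjU_smul, ← adj, hs l, smul_neg])).bound_cond (neg_ne_zero.mpr hl) h4)
    have e1 : ∑ m, slot m (φ m) = toBig l (M ⊗ₖ (1 : Matrix γ γ F) -
        (1 : Matrix (Rest l → γ) (Rest l → γ) F) ⊗ₖ (-φ l)) := by
      rw [map_sub, ← slot_eq, slot_neg, sub_neg_eq_add, Fintype.sum_eq_add_sum_subtype_ne _ l, add_comm, hM]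
      congr 1
      rw [show ((∑ m : Rest l, slot m (φ m.1)) ⊗ₖ (1 : Matrix γ γ F)) =
          ∑ m : Rest l, (slot m (φ m.1) ⊗ₖ (1 : Matrix γ γ F)) by
        ext ⟨a, b⟩ ⟨c, d⟩
        simp only [kroneckerMap_apply, Matrix.sum_apply, Finset.sum_mul], map_sum]
      exact Finset.sum_congr rfl fun m _ => (slot_rest l m _).symm
    have h1 : nul (conjM g (slot i (P.wedge e v))) = Fintype.card (Rest l → γ) * (Fintype.card γ - 2) := by
      rw [conjM_apply, nul_conj, nul_slot, card_rest i l]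
      congr 1
      have := wedge_nul hp hv hvv
      omega
    rw [hφ, e1, nul_toBig] at h1
    omega
  · -- dimension three
    have h3' : Fintype.card γ = 3 := h3.symm
    obtain ⟨w, x, f', c, hF, hc0, hlw⟩ := skew_nil_root h3' (hs l) (hnil l) hl
    have hpw : P.Pair w f' := ⟨hF.ee, hF.ff, hF.ef⟩
    have hxp : P.Perp w f' x := ⟨hF.ex, hF.fx⟩
    have hu : P.Perp w f' (c • x) := hxp.smul c
    have huu : P.B (c • x) (c • x) ≠ 0 := by
      rw [B_smul_left, B_smul_right]
      exact mul_ne_zero hc0 (mul_ne_zero hc0 hF.xx)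
    obtain ⟨r, hr, er⟩ := hG.hyp.slotMem l _ (sie_mem hpw.ee hu.left)
    have hrW : Commute (r : Matrix (τ → γ) (τ → γ) F) (∑ m, slot m (φ m)) := by
      refine Commute.sum_right _ _ _ fun m' _ => ?_
      rw [er]
      by_cases hml : m' = l
      · subst hml
        obtain ⟨a1, a2, -⟩ := wedge_E hpw.ee hu.left
        show _ = _
        rw [← slot_mul, ← slot_mul, hlw, sie_eq]
        simp only [add_mul, mul_add, sub_mul, mul_sub, one_mul, mul_one, a1, a2, smul_mul_assoc, mul_smul_comm]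
      · exact slot_comm (Ne.symm hml) _ _
    have hcomm : Commute ((g⁻¹ * r * g : GL (τ → γ) F) : Matrix (τ → γ) (τ → γ) F) (slot i (P.E e)) := by
      have h1 := commute_conjM g⁻¹ hrW
      rw [← hφ, conjM_inv_conjM, conjM_apply, inv_inv] at h1
      have h2 : Commute ((g⁻¹ * r * g : GL (τ → γ) F) : Matrix (τ → γ) (τ → γ) F) (slot i (P.wedge e v)) := h1
      have h3 := h2.mul_right h2
      rw [← slot_mul, wedge_sq hp.ee hv.left, slot_smul] at h3
      have h4 := h3.smul_right (-(P.B v v))⁻¹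
      rwa [smul_smul, inv_mul_cancel₀ (neg_ne_zero.mpr hvv), one_smul] at h4
    rcases hG.root_cases hg hpw hu huu hr er (hG.normal_of_comm (mul_mem (mul_mem (inv_mem hg) hr) hg) hp.ne hp.ee
      hcomm) with h | h
    · obtain ⟨N', hN'⟩ := h (P.wedge e v)
      obtain ⟨c', hc'⟩ := scalar_of_slot_sum (φ := fun m => φ m - if m = l then N' else 0) (by
        simp only [slot_sub, Finset.sum_sub_distrib]
        rw [← hφ, hN', Finset.sum_eq_single l (fun b _ hb => by rw [if_neg hb, slot_zero]) (by simp), if_pos rfl,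
          sub_self]) m
      rw [if_neg hm, sub_zero] at hc'
      exact hm0 (skew_scalar_zero (hs m) hc')
    · have hline : ∀ {A : Matrix γ γ F}, P.adj A = -A → ∀ ψ : τ → Matrix γ γ F, (∀ l, P.adj (ψ l) = -ψ l) →
          conjM g (slot i A) = ∑ l, slot l (ψ l) → ∃ c : F, ψ l = P.wedge w (c • x) := by
        intro A _ ψ hψ eψ
        refine skew_comm_E h3' hF (hψ l) (slot_injective (F := F) l ?_)
        rw [slot_mul, slot_mul]
        have h1 := h A
        rw [eψ, ← Finset.add_sum_erase _ (fun m => slot m (ψ m)) (Finset.mem_univ l)] at h1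
        have h2 := (h1.sub_left (commute_slot_sum (Finset.notMem_erase l Finset.univ) (P.E w) ψ).symm).eq
        rwa [add_sub_cancel_right] at h2
      obtain ⟨ψ, hψ, eψ⟩ := hG.conj_skew hg i (P.adj_wedge e f)
      have hbr : P.wedge e f * P.wedge e v - P.wedge e v * P.wedge e f = P.wedge e v := by
        refine ext fun y => ?_
        simp only [sub_mulVec, ← mulVec_mulVec, wedge_mulVec, B_sub_right, B_smul_right, hp.ee, hp.ff, hp.ef, hp.fe,
          hv.left, hv.right, hv.left', hv.right']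
        match_scalars <;> ring
      obtain ⟨a, ha⟩ := hline (P.adj_wedge e f) ψ hψ eψ
      have h1 := congrArg (fun A => conjM g (slot i A)) hbr
      rw [slot_sub, map_sub, slot_mul, slot_mul, conjM_mul, conjM_mul, hφ, eψ, slot_sum_bracket] at h1
      have h2 := congrFun (slot_skew_unique (P := P) (fun l => ?_) hs h1) l
      swap
      · simp only [adj, TForm.adjU_sub, TForm.adjU_mul]
        rw [show P.T.adjU (φ l) = -φ l from hs l, show P.T.adjU (ψ l) = -ψ l from hψ l]
        noncomm_ring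
      rw [ha, hlw] at h2
      simp only [wedge_smul, smul_mul_assoc, mul_smul_comm, smul_smul] at h2
      rw [mul_comm c a, sub_self] at h2
      rw [← wedge_smul, ← hlw] at h2
      exact hl h2.symm

end Frm

end Cfsg.Lib.Classical.OrthPow
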