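import Cfsg.Agent.Classical.OrthPow.Avg

/-!
# A skew map of one slot is moved into the span of the slots
-/

set_option autoImplicit false
set_option linter.unusedSectionVars false
set_option linter.unusedSimpArgs false
set_option linter.style.haveILetI false

namespace Cfsg.Lib.Classical.OrthPow

open Matrix Finset
open scoped Kronecker MatrixGroups
open Cfsg.Lib.Classical.TensorOrth (TForm sie)
open Cfsg.Lib.Classical.TensorPowLin (Rest tens tens_apply tens_mul slot slot_add slot_sub slot_smul slot_zero slot_neg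
  slot_one slot_mul slot_comm slot_injective ptr ptr_eq_zero ptr_ext trace_slot_conjM conjM conjM_apply conjM_mul
  conjM_one conjM_conjM conjM_id conjM_inv_conjM conjM_conjM_inv commute_conjM Eqj qop qop_apply qop_normal qop_left
  Orbit rep rep_mk rep_smul)

universe u

variable {τ γ : Type} [Fintype τ] [DecidableEq τ] [Fintype γ] [DecidableEq γ] {F : Type u} [Field F]

theorem trace_tens (f : τ → Matrix γ γ F) : (tens f).trace = ∏ l, (f l).trace := by
  simp only [Matrix.trace, Matrix.diag_apply, tens_apply, Fintype.prod_sum]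

theorem slot_mul_tens (i : τ) (A : Matrix γ γ F) (f : τ → Matrix γ γ F) :
    slot i A * tens f = tens (Function.update f i (A * f i)) := by
  rw [slot, tens_mul]
  congr 1
  funext l
  by_cases hl : l = i
  · subst hl; simp
  · simp [hl]

namespace Frm

variable {P : Frm γ F} {X : Subgroup (GL (τ → γ) F)}

theorem dag_iso_conj (hX : P.Hyp X) {g : GL (τ → γ) F} (hg : g ∈ X) (M : Matrix (τ → γ) (τ → γ) F) :
    P.dag (conjM g M) = conjM g (P.dag M) := by
  rw [conjM_apply, conjM_apply, P.dag_mul, P.dag_mul, hX.inv_eq hg, P.dag_dag, ← mul_assoc]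

theorem skew_trace {A : Matrix γ γ F} (hA : P.adj A = -A) : A.trace = 0 := by
  have h1 : (P.adj A).trace = A.trace := by
    rw [show P.adj A = P.G⁻¹ * Aᵀ * P.G from rfl, Matrix.trace_mul_cycle, show P.G * P.G⁻¹ = 1 from P.T.mul_inv₁,
      Matrix.one_mul, Matrix.trace_transpose]
  rw [hA, Matrix.trace_neg, neg_eq_iff_add_eq_zero, ← two_mul] at h1
  exact (mul_eq_zero.mp h1).resolve_left P.two

theorem E_trace (v : γ → F) : (P.E v).trace = P.B v v := by
  rw [E, Matrix.trace_vecMulVec]
  rfl

theorem sum_skew {φ : τ → Matrix γ γ F} {M : Matrix (τ → γ) (τ → γ) F} (hM : M = ∑ l, slot l (φ l))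
    (hs : P.dag M = -M) :
    ∃ ψ : τ → Matrix γ γ F, (∀ l, P.adj (ψ l) = -ψ l) ∧ M = ∑ l, slot l (ψ l) := by
  have h2 := P.two
  refine ⟨fun l => (2 : F)⁻¹ • (φ l - P.adj (φ l)), fun l => ?_, ?_⟩
  · simp only [adj, TForm.adjU_smul, TForm.adjU_sub, TForm.adjU_adjU, ← smul_neg, neg_sub]
  · have hd : P.dag M = ∑ l, slot l (P.adj (φ l)) := by
      let D : Matrix (τ → γ) (τ → γ) F →+ Matrix (τ → γ) (τ → γ) F :=
        AddMonoidHom.mk' (fun M => P.dag M) fun a b => P.dag_add a b
      show D M = _
      rw [hM, map_sum]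
      exact Finset.sum_congr rfl fun l _ => P.dag_slot l _
    have e : (2 : F) • M = ∑ l, slot l (φ l - P.adj (φ l)) := by
      simp only [slot_sub, Finset.sum_sub_distrib]
      rw [← hM, ← hd, hs, sub_neg_eq_add, two_smul]
    simp only [slot_smul, ← Finset.smul_sum]
    rw [← e, smul_smul, inv_mul_cancel₀ h2, one_smul]

variable [Fintype F]

set_option maxHeartbeats 1000000 in
/-- The conjugate of a skew map of one slot is a sum of skew maps of the slots. -/
theorem Good.conj_skew (hG : P.Good X) {g : GL (τ → γ) F} (hg : g ∈ X) (i : τ) {A : Matrix γ γ F}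
    (hA : P.adj A = -A) :
    ∃ φ : τ → Matrix γ γ F, (∀ l, P.adj (φ l) = -φ l) ∧ conjM g (slot i A) = ∑ l, slot l (φ l) := by
  classical
  have hX := hG.hyp
  haveI : Nonempty γ := P.nonempty
  letI : Fintype (Orbit X i) := Fintype.ofFinite _
  obtain ⟨e, f, hp⟩ := exists_pair' P
  obtain ⟨v, hv, hvv⟩ := exists_perp hp
  set W : τ → Matrix γ γ F := fun _ => (P.B v v)⁻¹ • P.E v with hW
  set F₀ : τ → Matrix γ γ F := Function.update W i A with hF₀
  set M := tens F₀ with hM
  have hWtr : ∀ l, (W l).trace = 1 := fun l => by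
    rw [hW, Matrix.trace_smul, E_trace, smul_eq_mul, inv_mul_cancel₀ hvv]
  have hMs : P.dag M = -M := by
    rw [hM, P.dag_tens, show (fun l => P.adj (F₀ l)) = Function.update F₀ i ((-1 : F) • F₀ i) by
      funext l
      by_cases hl : l = i
      · subst hl; simp [hF₀, hA]
      · simp [hF₀, hl, hW, adj, TForm.adjU_smul, show P.T.adjU (P.E v) = P.E v from P.adj_E v],
      tens_update_smul, neg_one_smul]
  set T : Matrix (τ → γ) (τ → γ) F →ₗ[F] Matrix (τ → γ) (τ → γ) F := ∑ ω : Orbit X i, qop i (rep i ω) with hT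
  have hTa : ∀ M, T M = ∑ ω : Orbit X i, qop i (rep i ω) M := fun M => by rw [hT, LinearMap.sum_apply]
  have hTeq : ∀ x ∈ X, ∀ M, T (conjM x M) = conjM x (T M) := by
    intro x hx M
    rw [hTa, hTa, map_sum]
    refine (Equiv.sum_comp (MulAction.toPerm (⟨x, hx⟩ : X) : Equiv.Perm (Orbit X i)) _).symm.trans ?_
    refine Finset.sum_congr rfl fun ω _ => ?_
    obtain ⟨k, hk, ek⟩ := rep_smul i (⟨x, hx⟩ : X) ω
    rw [MulAction.toPerm_apply, ek, qop_normal hk, qop_left, conjM_inv_conjM]
  have hTS : ∀ N, P.dag N = -N → T N = ∑ ω ∈ (bad X i)ᶜ, qop i (rep i ω) N := fun N hN => by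
    have h1 := hG.bad_skew i hN
    rw [badOp, LinearMap.sum_apply] at h1
    rw [hTa, ← Finset.sum_add_sum_compl (bad X i), h1, zero_add]
  -- the base value
  have hbase : T M = slot i A := by
    rw [hTS M hMs]
    obtain ⟨k, hk, ek⟩ := rep_mk i (1 : X)
    rw [Subgroup.coe_one, one_mul] at ek
    have h0 : qop i (rep i (QuotientGroup.mk (1 : X) : Orbit X i)) M = slot i A := by
      rw [ek, ← one_mul k, qop_normal hk, qop_apply, inv_one, conjM_id, conjM_id]
      congr 1
      refine ptr_ext fun A' => ?_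
      rw [hM, slot_mul_tens, trace_tens, ← Finset.mul_prod_erase _ _ (Finset.mem_univ i), Function.update_self, hF₀,
        Function.update_self, Finset.prod_eq_one (s := Finset.univ.erase i) fun l (hl : l ∈ Finset.univ.erase i) => by
          rw [Function.update_of_ne (Finset.ne_of_mem_erase hl), Function.update_of_ne (Finset.ne_of_mem_erase hl)]
          exact hWtr l, mul_one]
    rw [← h0]
    refine Finset.sum_eq_single _ (fun ω hω hne => ?_) (fun h => absurd ?_ h)
    · rw [Finset.mem_compl, mem_bad, not_forall_not] at hω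
      obtain ⟨l, hl⟩ := hω
      have hli : l ≠ i := by
        intro e'
        rw [e'] at hl
        refine hne ?_
        rw [← QuotientGroup.out_eq' ω]
        refine (QuotientGroup.eq.mpr ?_)
        show Eqj (((ω.out)⁻¹ * 1 : X) : GL (τ → γ) F) i i
        rw [mul_one]
        exact Eqj.inv hl
      rw [qop_apply, ptr_eq_zero, slot_zero, map_zero]
      intro A'
      obtain ⟨A'', hA''⟩ := hl A'
      rw [trace_slot_conjM, hA'', hM, slot_mul_tens, trace_tens]
      refine Finset.prod_eq_zero (Finset.mem_univ i) ?_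
      rw [Function.update_of_ne hli.symm, hF₀, Function.update_self, skew_trace hA]
    · rw [Finset.mem_compl, mem_bad, not_forall_not]
      exact ⟨i, ek ▸ hk⟩
  -- the conjugate
  have hTL : TensorPowLin.InL (conjM g (slot i A)) := by
    rw [← hbase, ← hTeq g hg, hTS _ (by rw [dag_iso_conj hX hg, hMs, map_neg])]
    refine TensorPowLin.InL.sum _ fun ω hω => ?_
    rw [Finset.mem_compl, mem_bad, not_forall_not] at hω
    obtain ⟨l, hl⟩ := hω
    obtain ⟨A', hA'⟩ := hl (ptr i (conjM (rep i ω)⁻¹ (conjM g M)))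
    rw [qop_apply, hA']
    exact TensorPowLin.InL.slot l A'
  obtain ⟨φ, hφ⟩ := hTL
  exact sum_skew hφ (by rw [dag_iso_conj hX hg, P.dag_slot, hA, slot_neg, map_neg])

end Frm

end Cfsg.Lib.Classical.OrthPow
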