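import Cfsg.Agent.Classical.OrthPow.Nil
import Cfsg.Agent.Classical.TensorOrth.Stab

/-!
# The stabiliser of a layer
-/

set_option autoImplicit false
set_option linter.unusedSectionVars false
set_option linter.unusedSimpArgs false
set_option linter.style.haveILetI false

namespace Cfsg.Lib.Classical.OrthPow

open Matrix Finset
open scoped Kronecker MatrixGroups
open Cfsg.Lib.Classical.TensorOrth (TForm inc inc_sub inc_add inc_smul inc_sum inc_mulVec inc_mul_ev kron_mul_inc sie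
  sie_mul sie_cube sie_mul_neg sie_neg_mul sie_zero)
open Cfsg.Lib.Classical.TensorMax (pure)
open Cfsg.Lib.Classical.TensorPowLin (Rest slot slot_mul slot_one)

universe u

variable {τ γ : Type} [Fintype τ] [DecidableEq τ] [Fintype γ] [DecidableEq γ] {F : Type u} [Field F]

namespace Frm

set_option maxHeartbeats 1000000

variable {P : Frm γ F} {j : τ}

/-- A similitude of the factor. -/
def Sim (P : Frm γ F) (b : Matrix γ γ F) (ν : F) : Prop := bᵀ * P.G * b = ν • P.G ∧ ν ≠ 0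

theorem Sim.adj_mul {b : Matrix γ γ F} {ν : F} (h : P.Sim b ν) : P.adj b * b = ν • 1 := by
  show P.G⁻¹ * bᵀ * P.G * b = _
  rw [Matrix.mul_assoc P.G⁻¹, Matrix.mul_assoc P.G⁻¹, h.1, Matrix.mul_smul,
    show P.G⁻¹ * P.G = 1 from P.T.inv_mul₁]

theorem Sim.mul_adj {b : Matrix γ γ F} {ν : F} (h : P.Sim b ν) : b * P.adj b = ν • 1 := by
  have h1 : (ν⁻¹ • P.adj b) * b = 1 := by rw [Matrix.smul_mul, h.adj_mul, smul_smul, inv_mul_cancel₀ h.2, one_smul]
  have h2 := mul_eq_one_comm.mp h1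
  rw [Matrix.mul_smul] at h2
  calc b * P.adj b = ν • (ν⁻¹ • (b * P.adj b)) := by rw [smul_smul, mul_inv_cancel₀ h.2, one_smul]
    _ = ν • 1 := by rw [h2]

theorem Sim.form {b : Matrix γ γ F} {ν : F} (h : P.Sim b ν) (u v : γ → F) :
    P.B (b *ᵥ u) (b *ᵥ v) = ν * P.B u v := by
  rw [B, P.T.B₁_adjU, mulVec_mulVec, show P.T.adjU b * b = ν • 1 from h.adj_mul, smul_mulVec, one_mulVec]
  exact P.B_smul_left ν u v

/-- A similitude normalises the group. -/
theorem Sim.grp {b : Matrix γ γ F} {ν : F} (hb : P.Sim b ν) {h : Matrix γ γ F} (hh : h ∈ P.Grp) :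
    ν⁻¹ • (b * h * P.adj b) ∈ P.Grp := by
  induction hh using Submonoid.closure_induction with
  | mem h hh =>
    refine Submonoid.subset_closure ?_
    rcases hh with ⟨e, z, he, hz, rfl⟩ | ⟨h4, hr, v, hv, rfl⟩
    · refine Or.inl ⟨b *ᵥ e, ν⁻¹ • (b *ᵥ z), by rw [hb.form, he, mul_zero],
        by rw [B_smul_right, hb.form, hz, mul_zero, mul_zero], ?_⟩
      rw [sie_eq, sie_eq, Matrix.mul_sub, Matrix.sub_mul, Matrix.mul_add, Matrix.add_mul, Matrix.mul_one, hb.mul_adj,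
        Matrix.mul_smul, Matrix.smul_mul, conj_E, conj_wedge, B_smul_left, B_smul_right, hb.form,
        P.wedge_smul]
      have hν : ν⁻¹ * (ν * P.B z z) = P.B z z := by rw [← mul_assoc, inv_mul_cancel₀ hb.2, one_mul]
      rw [hν, smul_sub, smul_add, smul_smul, smul_smul, inv_mul_cancel₀ hb.2, one_smul]
      congr 2
      ring
    · refine Or.inr ⟨h4, hr, b *ᵥ v, by rw [hb.form]; exact mul_ne_zero hb.2 hv, ?_⟩
      rw [Matrix.mul_sub, Matrix.sub_mul, Matrix.mul_one, hb.mul_adj, Matrix.mul_smul, Matrix.smul_mul, conj_E,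
        hb.form, smul_sub, smul_smul, smul_smul, inv_mul_cancel₀ hb.2, one_smul]
      congr 2
      field_simp
  | one => rw [Matrix.mul_one, hb.mul_adj, smul_smul, inv_mul_cancel₀ hb.2, one_smul]; exact one_mem _
  | mul a c _ _ iha ihc =>
    have := mul_mem iha ihc
    rw [Matrix.smul_mul, Matrix.mul_smul, smul_smul, Matrix.mul_assoc (b * a), ← Matrix.mul_assoc (P.adj b),
      ← Matrix.mul_assoc (P.adj b), hb.adj_mul, Matrix.smul_mul, Matrix.smul_mul, Matrix.one_mul, Matrix.mul_smul,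
      smul_smul, mul_assoc ν⁻¹, inv_mul_cancel₀ hb.2, mul_one] at this
    simpa only [Matrix.mul_assoc] using this

theorem sim_iso {A sa : Matrix (Rest j → γ) (Rest j → γ) F} {μ : F} (hA : (P.Tj j).adjU A * A = μ • 1)
    (hA' : A * (P.Tj j).adjU A = μ • 1) (hsa : (P.Tj j).adjU sa * sa = 1) (hμ : μ ≠ 0) :
    (P.Tj j).adjU (μ⁻¹ • (A * sa * (P.Tj j).adjU A)) * (μ⁻¹ • (A * sa * (P.Tj j).adjU A)) = 1 := by
  rw [(P.Tj j).adjU_smul, (P.Tj j).adjU_mul, (P.Tj j).adjU_mul, (P.Tj j).adjU_adjU, Matrix.smul_mul, Matrix.mul_smul,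
    smul_smul]
  calc _ = (μ⁻¹ * μ⁻¹) • (A * ((P.Tj j).adjU sa * (((P.Tj j).adjU A * A) * sa)) * (P.Tj j).adjU A) := by
        simp only [Matrix.mul_assoc]
    _ = 1 := by
        rw [hA, Matrix.smul_mul, Matrix.one_mul, Matrix.mul_smul, hsa, Matrix.mul_smul, Matrix.mul_one,
          Matrix.smul_mul, hA', smul_smul, smul_smul]
        convert one_smul F (1 : Matrix (Rest j → γ) (Rest j → γ) F)
        field_simp

/-- Conjugating an element of the first factor by a product stabilising a layer. -/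
theorem kron_ZM_conj {e : γ → F} {b : Matrix γ γ F} {A sa K : Matrix (Rest j → γ) (Rest j → γ) F} {μ : F}
    (he : P.B e e = 0) (hb : P.Sim b μ⁻¹) (hbe : b *ᵥ e = e) (hA : (P.Tj j).adjU A * A = μ • 1) (hA' : A * (P.Tj j).adjU A = μ • 1)
    (hsa : (P.Tj j).adjU sa * sa = 1) (hK : (P.Tj j).adjU K = -K) :
    ((A ⊗ₖ b) * (P.Tj j).ZM e K) * (sa ⊗ₖ (1 : Matrix γ γ F)) * (P.Tj j).adjV ((A ⊗ₖ b) * (P.Tj j).ZM e K) =
      ((μ⁻¹ • (A * sa * (P.Tj j).adjU A)) ⊗ₖ (1 : Matrix γ γ F)) *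
        (P.Tj j).ZM e (A * ((P.Tj j).adjU sa * K * sa - K) * (P.Tj j).adjU A) := by
  have hμ : μ ≠ 0 := fun h => hb.2 (by rw [h, _root_.inv_zero])
  set T := P.Tj j with hT
  have hsa' : sa * T.adjU sa = 1 := mul_eq_one_comm.mp hsa
  have hZ : ∀ K' : Matrix (Rest j → γ) (Rest j → γ) F, T.ZM e K' = 1 + K' ⊗ₖ P.E e := fun K' => by
    rw [TForm.ZM, TForm.pr, inc_mul_ev]
    rfl
  have hE1 : b * P.E e * P.adj b = P.E e := by rw [conj_E, hbe]
  have s1 : T.ZM e K * (sa ⊗ₖ (1 : Matrix γ γ F)) =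
      (sa ⊗ₖ (1 : Matrix γ γ F)) * T.ZM e (T.adjU sa * K * sa) := by
    have := ZM_kron (P := P) (j := j) (e := e) (A := T.adjU sa) (by rw [← hT, T.adjU_adjU]; exact hsa') K
    rw [← hT, T.adjU_adjU] at this
    rw [← this, ← Matrix.mul_assoc, ← Matrix.mul_assoc, ← mul_kronecker_mul, hsa', Matrix.one_mul,
      one_kronecker_one, Matrix.one_mul]
  rw [T.adjV_mul, T.ZM_adj, hK, Matrix.mul_assoc (A ⊗ₖ b), s1,
    show T.adjV (A ⊗ₖ b) = T.adjU A ⊗ₖ P.adj b from T.adjV_kron A b]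
  calc (A ⊗ₖ b) * ((sa ⊗ₖ (1 : Matrix γ γ F)) * T.ZM e (T.adjU sa * K * sa)) *
        (T.ZM e (-K) * (T.adjU A ⊗ₖ P.adj b))
      = (A ⊗ₖ b) * (sa ⊗ₖ (1 : Matrix γ γ F)) * T.ZM e (T.adjU sa * K * sa - K) * (T.adjU A ⊗ₖ P.adj b) := by
        rw [sub_eq_add_neg, ← T.ZM_mul (show T.B₂ e e = 0 from he)]
        simp only [Matrix.mul_assoc]
    _ = _ := by
        generalize T.adjU sa * K * sa - K = D
        rw [hZ, hZ, Matrix.mul_add, Matrix.mul_add, Matrix.add_mul, Matrix.mul_one, Matrix.mul_one,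
          ← mul_kronecker_mul, ← mul_kronecker_mul, ← mul_kronecker_mul, ← mul_kronecker_mul, ← mul_kronecker_mul,
          Matrix.mul_one, Matrix.one_mul, hb.mul_adj, hE1, kronecker_smul, ← smul_kronecker]
        congr 2
        rw [Matrix.smul_mul]
        calc A * sa * D * T.adjU A = μ⁻¹ • (A * sa * ((μ • (1 : Matrix (Rest j → γ) (Rest j → γ) F)) * D) * T.adjU A) := by
              rw [Matrix.smul_mul, Matrix.one_mul, Matrix.mul_smul, Matrix.smul_mul, smul_smul, inv_mul_cancel₀ hμ,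
                one_smul]
          _ = _ := by rw [← hA]; simp only [Matrix.mul_assoc]

variable [Fintype F]

/-- Conjugating a radical element by a Levi element of the second factor. -/
theorem rad_levi {e f : γ → F} (hp : P.Pair e f) {ρ : F} {h : Matrix γ γ F} (hl : P.Levi e f ρ h)
    {G : Matrix ((Rest j → γ) × γ) ((Rest j → γ) × γ) F} (hr : (P.Tj j).IsRad e G) :
    (P.Tj j).IsRad e (((1 : Matrix (Rest j → γ) (Rest j → γ) F) ⊗ₖ h) * G *
        ((1 : Matrix (Rest j → γ) (Rest j → γ) F) ⊗ₖ P.adj h)) ∧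
      ∀ w, P.B e w = 0 → (P.Tj j).comp f (((1 : Matrix (Rest j → γ) (Rest j → γ) F) ⊗ₖ h) * G *
        ((1 : Matrix (Rest j → γ) (Rest j → γ) F) ⊗ₖ P.adj h)) w = ρ • (P.Tj j).comp f G (P.adj h *ᵥ w) := by
  set T := P.Tj j with hT
  have hp₂ : T.Pair₂ e f := pair₂ hp
  have h1 : h * P.adj h = 1 := (Grp.iso hl.mem).mul_adj
  have hperp : ∀ w, P.B e w = 0 → P.B e (P.adj h *ᵥ w) = 0 := fun w hw => by
    have := (Grp.iso (Grp.adj_mem hl.mem)).form e w
    rw [hl.adj'.he, B_smul_left, hw] at this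
    exact (mul_eq_zero.mp this).resolve_left (inv_ne_zero hl.ne)
  have key : ∀ w, P.B e w = 0 →
      ((1 : Matrix (Rest j → γ) (Rest j → γ) F) ⊗ₖ h) * G * ((1 : Matrix (Rest j → γ) (Rest j → γ) F) ⊗ₖ P.adj h) *
        inc (Rest j → γ) w = inc (Rest j → γ) w + inc (Rest j → γ) e * (ρ • T.comp f G (P.adj h *ᵥ w)) := by
    intro w hw
    rw [Matrix.mul_assoc, kron_mul_inc, Matrix.mul_one, Matrix.mul_assoc, hr.eq hp₂ (hperp w hw), Matrix.mul_add,
      ← Matrix.mul_assoc, kron_mul_inc, kron_mul_inc, Matrix.mul_one, Matrix.mul_one, mulVec_mulVec, h1, one_mulVec,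
      hl.he, inc_smul, Matrix.smul_mul, Matrix.mul_smul]
  refine ⟨⟨?_, fun w hw => ⟨_, key w hw⟩⟩, fun w hw => ?_⟩
  · rw [key e hp.ee, hl.adj'.he, T.comp_smul, rad_comp_e hr, smul_zero, smul_zero, Matrix.mul_zero, add_zero]
  · rw [TForm.comp, Matrix.mul_assoc, Matrix.sub_mul, Matrix.one_mul, key w hw, add_sub_cancel_left,
      ← Matrix.mul_assoc, T.pr_mul_inc, hp₂.fe, one_smul, Matrix.one_mul]

/-- Without centres an isometry stabilising a layer and exchanging two such groups is a Kronecker product. -/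
theorem Good.stab {X₁ X₂ : Subgroup (GL (τ → γ) F)} (h₁ : P.Good X₁) (h₂ : P.Good X₂)
    {x : Matrix ((Rest j → γ) × γ) ((Rest j → γ) × γ) F} (hi : (P.Tj j).IsIso x)
    (h12 : ∀ g, Mem X₁ j g → Mem X₂ j (x * g * (P.Tj j).adjV x))
    (h21 : ∀ g, Mem X₂ j g → Mem X₁ j ((P.Tj j).adjV x * g * x)) {e : γ → F} (he0 : e ≠ 0) (he : P.B e e = 0)
    {A : Matrix (Rest j → γ) (Rest j → γ) F} (hA : x * inc (Rest j → γ) e = inc (Rest j → γ) e * A) :
    ∃ (A' : Matrix (Rest j → γ) (Rest j → γ) F) (b : Matrix γ γ F), x = A' ⊗ₖ b := by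
  classical
  haveI : Nonempty γ := P.nonempty
  obtain ⟨f, hpP⟩ := exists_partner' he0 he
  set T := P.Tj j with hT
  have hp : T.Pair₂ e f := pair₂ hpP
  obtain ⟨H, hH⟩ : ∃ H, H = x := ⟨x, rfl⟩
  subst hH
  set H' : Matrix ((Rest j → γ) × γ) ((Rest j → γ) × γ) F := T.adjV H with hH'
  have hH'H : H' * H = 1 := hi
  have hadj' : T.adjV H' = H := by
    calc T.adjV (T.adjV H) = T.adjV (T.adjV H) * (T.adjV H * H) := by
          rw [show T.adjV H * H = 1 from hi, Matrix.mul_one]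
      _ = H := by rw [← Matrix.mul_assoc, ← T.adjV_mul, mul_eq_one_comm.mp hi, T.adjV_one, Matrix.one_mul]
  have hi' : T.IsIso H' := by
    show T.adjV H' * H' = 1
    rw [hadj']
    exact mul_eq_one_comm.mp hi
  have hAdet : A.det ≠ 0 := by
    intro hd
    obtain ⟨v, hv0, hv⟩ := Matrix.exists_mulVec_eq_zero_iff.mpr hd
    refine hv0 ?_
    have h1 := congrArg (fun M => M *ᵥ v) hA
    beta_reduce at h1
    rw [← mulVec_mulVec, ← mulVec_mulVec, hv, mulVec_zero, inc_mulVec] at h1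
    have h2 : pure v e = 0 := by
      rw [← one_mulVec (pure v e), ← hH'H, ← mulVec_mulVec, h1, mulVec_zero]
    exact (TensorMax.pure_eq_zero h2).resolve_right hp.ne
  have hAA : A * A⁻¹ = 1 := Matrix.mul_nonsing_inv _ (isUnit_iff_ne_zero.mpr hAdet)
  have hAA' : A⁻¹ * A = 1 := Matrix.nonsing_inv_mul _ (isUnit_iff_ne_zero.mpr hAdet)
  have hA' : H' * inc (Rest j → γ) e = inc (Rest j → γ) e * A⁻¹ := by
    calc H' * inc (Rest j → γ) e = H' * (H * inc (Rest j → γ) e) * A⁻¹ := by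
          rw [hA, Matrix.mul_assoc H', Matrix.mul_assoc (inc (Rest j → γ) e), hAA, Matrix.mul_one]
      _ = inc (Rest j → γ) e * A⁻¹ := by rw [← Matrix.mul_assoc, hH'H, Matrix.one_mul]
  have heH : T.pr e * H = T.adjU A⁻¹ * T.pr e := by
    rw [← hadj', ← T.star_inc e, ← T.star_mul_left, hA', T.star_mul_right]
  -- the middle block is a multiple of `A`
  have hmid : ∀ z w, T.B₂ e z = 0 → T.B₂ e w = 0 → ∃ c : F, T.pr z * H * inc (Rest j → γ) w = c • A := by
    intro z w hz hw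
    have hm : Mem X₁ j (T.adjV H * ((1 : Matrix (Rest j → γ) (Rest j → γ) F) ⊗ₖ sie T.G₂ e z) * H) :=
      h21 _ (Mem.slot₂ h₂.hyp (sie_mem he hz))
    set M := T.adjV H * ((1 : Matrix (Rest j → γ) (Rest j → γ) F) ⊗ₖ sie T.G₂ e z) * H with hM
    have ev : M = H' * ((1 : Matrix (Rest j → γ) (Rest j → γ) F) ⊗ₖ sie T.G₂ e z) * T.adjV H' := by
      rw [hadj', hM, hH']
    have hst : T.star (H' * inc (Rest j → γ) z) = T.pr z * H := by rw [T.star_mul_left, T.star_inc, hadj']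
    have key : ∀ v, T.B₂ e v = 0 → M * inc (Rest j → γ) v =
        inc (Rest j → γ) v + inc (Rest j → γ) e * (A⁻¹ * (T.pr z * H * inc (Rest j → γ) v)) := by
      intro v hv
      rw [ev, T.conj_sie z hi' hA', hst]
      simp only [Matrix.sub_mul, Matrix.add_mul, Matrix.smul_mul, Matrix.one_mul, Matrix.mul_assoc,
        T.pr_mul_inc, hv, zero_smul, Matrix.mul_zero, smul_zero, sub_zero]
    have hrad : T.IsRad e M := by
      refine ⟨?_, fun v hv => ⟨_, key v hv⟩⟩
      rw [key e hp.ee, Matrix.mul_assoc (T.pr z), hA, ← Matrix.mul_assoc (T.pr z), T.pr_mul_inc,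
        show T.B₂ z e = 0 by rw [T.B₂_comm]; exact hz, zero_smul, Matrix.zero_mul, Matrix.mul_zero, Matrix.mul_zero,
        add_zero]
    obtain ⟨c, hc⟩ := h₁.comp_scalar hpP hm hrad (w := w) hw
    refine ⟨c, ?_⟩
    rw [← hT, TForm.comp, Matrix.mul_assoc, Matrix.sub_mul, Matrix.one_mul, key w hw, add_sub_cancel_left,
      ← Matrix.mul_assoc, T.pr_mul_inc, hp.fe, one_smul, Matrix.one_mul] at hc
    rw [← Matrix.one_mul (T.pr z * H * inc (Rest j → γ) w), ← hAA, Matrix.mul_assoc A, hc, Matrix.mul_smul,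
      Matrix.mul_one]
  obtain ⟨i₀, j₀, hij⟩ : ∃ i j, A i j ≠ 0 := by
    by_contra hh
    push Not at hh
    exact hAdet (by rw [show A = 0 from Matrix.ext hh, det_zero])
  set cf : (γ → F) → (γ → F) → F := fun z w => (T.pr z * H * inc (Rest j → γ) w) i₀ j₀ / A i₀ j₀ with hcf
  have hcf' : ∀ z w, T.B₂ e z = 0 → T.B₂ e w = 0 → T.pr z * H * inc (Rest j → γ) w = cf z w • A := by
    intro z w hz hw
    obtain ⟨c, hc⟩ := hmid z w hz hw
    rw [hc, hcf]
    congr 1
    simp only [hc, Matrix.smul_apply, smul_eq_mul, mul_div_assoc, div_self hij, mul_one]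
  let D : (γ → F) →ₗ[F] (γ → F) :=
    { toFun := fun w => ∑ k, cf (T.us' e f k) w • T.us e f k
      map_add' := fun v w => by
        simp only [hcf, inc_add, Matrix.mul_add, Matrix.add_apply, add_div, add_smul, Finset.sum_add_distrib]
      map_smul' := fun c w => by
        simp only [hcf, inc_smul, Matrix.mul_smul, Matrix.smul_apply, smul_eq_mul, mul_div_assoc, mul_smul,
          Finset.smul_sum, RingHom.id_apply] }
  have heD : ∀ w, T.B₂ e (D w) = 0 := fun w => by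
    show T.B₂ e (∑ k, cf (T.us' e f k) w • T.us e f k) = 0
    rw [TForm.B₂, mulVec_sum, dotProduct_sum]
    exact Finset.sum_eq_zero fun k _ => by
      rw [mulVec_smul, dotProduct_smul, show e ⬝ᵥ T.G₂ *ᵥ T.us e f k = 0 from hp.us_left k, smul_zero]
  have hfD : ∀ w, T.B₂ f (D w) = 0 := fun w => by
    show T.B₂ f (∑ k, cf (T.us' e f k) w • T.us e f k) = 0
    rw [TForm.B₂, mulVec_sum, dotProduct_sum]
    exact Finset.sum_eq_zero fun k _ => by
      rw [mulVec_smul, dotProduct_smul, show f ⬝ᵥ T.G₂ *ᵥ T.us e f k = 0 from hp.us_right k, smul_zero]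
  have hHw : ∀ w, T.B₂ e w = 0 → ∃ Y : Matrix (Rest j → γ) (Rest j → γ) F, H * inc (Rest j → γ) w = inc (Rest j → γ) e * Y + inc (Rest j → γ) (D w) * A := by
    intro w hw
    refine ⟨T.pr f * (H * inc (Rest j → γ) w), ?_⟩
    conv_lhs => rw [← Matrix.one_mul (H * inc (Rest j → γ) w), hp.res]
    rw [Matrix.add_mul, Matrix.add_mul, Matrix.sum_mul]
    have h1 : inc (Rest j → γ) f * T.pr e * (H * inc (Rest j → γ) w) = 0 := by
      rw [Matrix.mul_assoc, ← Matrix.mul_assoc (T.pr e), heH, Matrix.mul_assoc, T.pr_mul_inc, hw, zero_smul,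
        Matrix.mul_zero, Matrix.mul_zero]
    rw [h1, add_zero, Matrix.mul_assoc]
    congr 1
    show _ = inc (Rest j → γ) (∑ k, cf (T.us' e f k) w • T.us e f k) * A
    rw [inc_sum, Matrix.sum_mul]
    refine Finset.sum_congr rfl fun k _ => ?_
    rw [Matrix.mul_assoc, ← Matrix.mul_assoc (T.pr _), hcf' _ _ (hp.us'_left k) hw, inc_smul, Matrix.smul_mul,
      Matrix.mul_smul]
  have hrel : ∀ w w', T.B₂ e w = 0 → T.B₂ e w' = 0 →
      T.B₂ (D w) (D w') • (T.adjU A * A) = T.B₂ w w' • (1 : Matrix (Rest j → γ) (Rest j → γ) F) := by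
    intro w w' hw hw'
    obtain ⟨Y, hY⟩ := hHw w hw
    obtain ⟨Y', hY'⟩ := hHw w' hw'
    have h1 : T.star (H * inc (Rest j → γ) w) * (H * inc (Rest j → γ) w') = T.B₂ w w' • (1 : Matrix (Rest j → γ) (Rest j → γ) F) := by
      rw [T.star_mul_left, T.star_inc, Matrix.mul_assoc, ← Matrix.mul_assoc (T.adjV H), show T.adjV H * H = 1 from hi,
        Matrix.one_mul, T.pr_mul_inc]
    rw [hY, hY'] at h1
    rw [← h1]
    have hst : T.star (inc (Rest j → γ) e * Y + inc (Rest j → γ) (D w) * A) = T.adjU Y * T.pr e + T.adjU A * T.pr (D w) := by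
      rw [← T.star_inc e, ← T.star_inc (D w), ← T.star_mul_right, ← T.star_mul_right, TForm.star, TForm.star, TForm.star, transpose_add,
        Matrix.mul_add, Matrix.add_mul]
    rw [hst]
    simp only [Matrix.add_mul, Matrix.mul_add, Matrix.mul_assoc]
    simp only [← Matrix.mul_assoc (T.pr _) (inc (Rest j → γ) _), T.pr_mul_inc, hp.ee, heD, T.B₂_comm (D w) e, zero_smul,
      Matrix.zero_mul, Matrix.mul_zero, zero_add, Matrix.smul_mul, Matrix.one_mul, Matrix.mul_smul]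
  obtain ⟨z₀, hez₀, hfz₀, hz₀⟩ := TensorOrth.exists_aniso_pair T.symm₂ T.det₂ P.two P.card hp.ee hp.ff hp.ef
  have hz₀' : T.B₂ z₀ z₀ ≠ 0 := hz₀
  have hD0 : T.B₂ (D z₀) (D z₀) ≠ 0 := by
    intro h0
    have h1 := hrel z₀ z₀ hez₀ hez₀
    rw [h0, zero_smul] at h1
    exact smul_ne_zero hz₀' one_ne_zero h1.symm
  set μ := T.B₂ z₀ z₀ / T.B₂ (D z₀) (D z₀) with hμ
  have hμ0 : μ ≠ 0 := div_ne_zero hz₀' hD0
  have hAμ : T.adjU A * A = μ • (1 : Matrix (Rest j → γ) (Rest j → γ) F) := by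
    refine smul_right_injective (Matrix (Rest j → γ) (Rest j → γ) F) hD0 ?_
    show T.B₂ (D z₀) (D z₀) • (T.adjU A * A) = _
    rw [hrel z₀ z₀ hez₀ hez₀]
    beta_reduce
    rw [smul_smul, hμ, mul_div_cancel₀ _ hD0]
  have hDrel : ∀ w w', T.B₂ e w = 0 → T.B₂ e w' = 0 → μ * T.B₂ (D w) (D w') = T.B₂ w w' := by
    intro w w' hw hw'
    have h1 := hrel w w' hw hw'
    rw [hAμ, smul_smul] at h1
    rw [mul_comm]
    exact smul_left_injective F (one_ne_zero (α := Matrix (Rest j → γ) (Rest j → γ) F)) h1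
  -- the Levi element
  let bL : (γ → F) →ₗ[F] (γ → F) :=
    { toFun := fun v => T.B₂ f v • e + (μ⁻¹ * T.B₂ e v) • f + D (T.proj₂ e f v)
      map_add' := fun v w => by
        have hpr : T.proj₂ e f (v + w) = T.proj₂ e f v + T.proj₂ e f w := by
          simp only [TForm.proj₂, TForm.B₂_add_right, add_smul]; abel
        rw [hpr, map_add, TForm.B₂_add_right, TForm.B₂_add_right, mul_add, add_smul, add_smul]; abel
      map_smul' := fun c v => by
        have hpr : T.proj₂ e f (c • v) = c • T.proj₂ e f v := by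
          simp only [TForm.proj₂, TForm.B₂_smul_right, mul_smul, smul_sub]
        rw [hpr, map_smul, TForm.B₂_smul_right, TForm.B₂_smul_right, RingHom.id_apply, smul_add, smul_add, smul_smul, smul_smul,
          mul_left_comm c μ⁻¹] }
  set b := LinearMap.toMatrix' bL with hb
  have hbv : ∀ v, b *ᵥ v = T.B₂ f v • e + (μ⁻¹ * T.B₂ e v) • f + D (T.proj₂ e f v) := fun v => by
    rw [hb, LinearMap.toMatrix'_mulVec]; rfl
  have hproj : ∀ v w : γ → F, T.B₂ v w =
      T.B₂ f v * T.B₂ e w + T.B₂ e v * T.B₂ f w + T.B₂ (T.proj₂ e f v) (T.proj₂ e f w) := by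
    intro v w
    simp only [TForm.proj₂, TForm.B₂_sub_left, TForm.B₂_sub_right, TForm.B₂_smul_left, TForm.B₂_smul_right, hp.ee, hp.ff, hp.ef, hp.fe,
      T.B₂_comm v f, T.B₂_comm v e]
    ring
  have hbsim : bᵀ * T.G₂ * b = μ⁻¹ • T.G₂ := by
    refine Matrix.ext_of_mulVec_single fun j => ?_
    refine dotProduct_eq _ _ fun u => ?_
    rw [dotProduct_comm _ u, dotProduct_comm _ u, ← mulVec_mulVec, ← mulVec_mulVec, dotProduct_mulVec u bᵀ,
      vecMul_transpose, smul_mulVec, dotProduct_smul, smul_eq_mul]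
    show T.B₂ (b *ᵥ u) (b *ᵥ Pi.single j 1) = μ⁻¹ * T.B₂ u (Pi.single j 1)
    rw [hbv, hbv, hproj u (Pi.single j 1), ← hDrel _ _ (hp.proj_left u) (hp.proj_left (Pi.single j 1))]
    simp only [TForm.B₂_add_left, TForm.B₂_add_right, TForm.B₂_smul_left, TForm.B₂_smul_right, hp.ee, hp.ff, hp.ef, hp.fe, heD, hfD,
      T.B₂_comm (D _) e, T.B₂_comm (D _) f]
    field_simp
    ring
  have hbe : b *ᵥ e = e := by
    rw [hbv, hp.fe, hp.ee, hp.proj_self.1, map_zero, one_smul, mul_zero, zero_smul, add_zero, add_zero]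
  have hℓ : T.IsIso (A ⊗ₖ b) := by
    rw [T.isIso_iff, ← kroneckerMap_transpose, TForm.G, ← mul_kronecker_mul, ← mul_kronecker_mul, TForm.B₁_sim hAμ, hbsim,
      smul_kronecker, kronecker_smul, smul_smul, mul_inv_cancel₀ hμ0, one_smul]
  set L := A ⊗ₖ b with hL
  have hLi : T.adjV L * L = 1 := hℓ
  have hLi' : L * T.adjV L = 1 := mul_eq_one_comm.mp hℓ
  have hLe : T.adjV L * inc (Rest j → γ) e = inc (Rest j → γ) e * A⁻¹ := by
    calc T.adjV L * inc (Rest j → γ) e = T.adjV L * (L * inc (Rest j → γ) e) * A⁻¹ := by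
          rw [hL, kron_mul_inc, hbe, Matrix.mul_assoc (T.adjV _), Matrix.mul_assoc (inc (Rest j → γ) e), hAA, Matrix.mul_one]
      _ = inc (Rest j → γ) e * A⁻¹ := by rw [← Matrix.mul_assoc, hLi, Matrix.one_mul]
  set u := T.adjV L * H with hu
  have hLadj : T.IsIso (T.adjV L) := by
    rw [TForm.IsIso]
    have : T.adjV (T.adjV L) = L := by
      calc T.adjV (T.adjV L) = T.adjV (T.adjV L) * (T.adjV L * L) := by rw [hLi, Matrix.mul_one]
        _ = L := by rw [← Matrix.mul_assoc, ← T.adjV_mul, hLi', T.adjV_one, Matrix.one_mul]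
    rw [this, hLi']
  have hui : T.IsIso u := TForm.IsIso.mul T hLadj hi
  have hurad : T.IsRad e u := by
    refine ⟨?_, fun w hw => ?_⟩
    · rw [hu, Matrix.mul_assoc, hA, ← Matrix.mul_assoc, hLe, Matrix.mul_assoc, hAA', Matrix.mul_one]
    · obtain ⟨Y, hY⟩ := hHw (T.proj₂ e f w) (hp.proj_left w)
      have hwe : w = T.B₂ f w • e + T.proj₂ e f w := by rw [TForm.proj₂, hw, zero_smul, sub_zero, add_sub_cancel]
      have hLw : L * inc (Rest j → γ) w = inc (Rest j → γ) e * (T.B₂ f w • A) + inc (Rest j → γ) (D (T.proj₂ e f w)) * A := by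
        rw [hL, kron_mul_inc, hbv, hw, mul_zero, zero_smul, add_zero, inc_add, inc_smul, Matrix.add_mul,
          Matrix.smul_mul, Matrix.mul_smul]
      have hH : H * inc (Rest j → γ) w = L * inc (Rest j → γ) w + inc (Rest j → γ) e * Y := by
        rw [hLw]
        conv_lhs => rw [hwe, inc_add, inc_smul, Matrix.mul_add, Matrix.mul_smul, hA, hY]
        rw [Matrix.mul_smul]
        abel
      refine ⟨A⁻¹ * Y, ?_⟩
      rw [hu, Matrix.mul_assoc, hH, Matrix.mul_add, ← Matrix.mul_assoc, hLi, Matrix.one_mul, ← Matrix.mul_assoc, hLe,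
        Matrix.mul_assoc]
  have hAsim : T.adjU A * A = μ • (1 : Matrix (Rest j → γ) (Rest j → γ) F) := hAμ
  have hb : P.Sim b μ⁻¹ := ⟨hbsim, inv_ne_zero hμ0⟩
  have hAAμ : A * T.adjU A = μ • (1 : Matrix (Rest j → γ) (Rest j → γ) F) := by
    have h1 : (μ⁻¹ • T.adjU A) * A = 1 := by rw [Matrix.smul_mul, hAsim, smul_smul, inv_mul_cancel₀ hμ0, one_smul]
    have h2 := mul_eq_one_comm.mp h1
    rw [Matrix.mul_smul] at h2
    calc A * T.adjU A = μ • (μ⁻¹ • (A * T.adjU A)) := by rw [smul_smul, mul_inv_cancel₀ hμ0, one_smul]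
      _ = μ • 1 := by rw [h2]
  have hLadjV : T.adjV L = T.adjU A ⊗ₖ P.adj b := by rw [hL, T.adjV_kron]; rfl
  -- the unipotent part has scalar components
  have hcL : ∀ (N : Matrix ((Rest j → γ) × γ) ((Rest j → γ) × γ) F), T.IsRad e N → ∀ v, P.B e v = 0 →
      T.IsRad e (L * N * T.adjV L) ∧
        T.comp f (L * N * T.adjV L) (b *ᵥ v) = μ⁻¹ • (A * T.comp f N v * T.adjU A) := by
    intro N hN v hv
    have hbe' : P.adj b *ᵥ e = μ⁻¹ • e := by
      conv_lhs => rw [← hbe, mulVec_mulVec, hb.adj_mul, smul_mulVec, one_mulVec]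
    have hperp : ∀ w, P.B e w = 0 → P.B e (P.adj b *ᵥ w) = 0 := fun w hw => by
      have h1 : P.B (b *ᵥ e) w = 0 := by rw [hbe]; exact hw
      show P.T.B₁ e (P.T.adjU b *ᵥ w) = 0
      rw [P.T.B₁_adjU, P.T.adjU_adjU]
      exact h1
    have key : ∀ w, P.B e w = 0 → L * N * T.adjV L * inc (Rest j → γ) w =
        inc (Rest j → γ) w + inc (Rest j → γ) e * (A * T.comp f N (P.adj b *ᵥ w) * T.adjU A) := by
      intro w hw
      rw [Matrix.mul_assoc, hLadjV, kron_mul_inc, Matrix.mul_assoc, ← Matrix.mul_assoc N, hN.eq hp (hperp w hw),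
        Matrix.add_mul, Matrix.mul_add, hL, ← Matrix.mul_assoc, kron_mul_inc, mulVec_mulVec, hb.mul_adj, smul_mulVec,
        one_mulVec, inc_smul, Matrix.smul_mul, Matrix.smul_mul, Matrix.mul_assoc, hAAμ, Matrix.mul_smul, smul_smul,
        inv_mul_cancel₀ hμ0, one_smul, Matrix.mul_one, ← Matrix.mul_assoc, ← Matrix.mul_assoc, kron_mul_inc, hbe]
      simp only [Matrix.mul_assoc]
    refine ⟨⟨?_, fun w hw => ⟨_, key w hw⟩⟩, ?_⟩
    · rw [key e hp.ee, hbe', T.comp_smul, rad_comp_e hN, smul_zero, Matrix.mul_zero, Matrix.zero_mul, Matrix.mul_zero,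
        add_zero]
    · have hbv : P.B e (b *ᵥ v) = 0 := by rw [← hbe, hb.form, hv, mul_zero]
      conv_lhs => rw [TForm.comp, Matrix.mul_assoc, Matrix.sub_mul, Matrix.one_mul, key _ hbv, add_sub_cancel_left,
        ← Matrix.mul_assoc, T.pr_mul_inc, hp.fe, one_smul, Matrix.one_mul, mulVec_mulVec, hb.adj_mul, smul_mulVec,
        one_mulVec, T.comp_smul, Matrix.mul_smul, Matrix.smul_mul]
  have hLu : L * u = H := by rw [hu, ← Matrix.mul_assoc, hLi', Matrix.one_mul]
  have hsc : ∀ v, P.Perp e f v → ∃ c : F, T.comp f u v = c • 1 := by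
    intro v hv
    let S : Submodule F (γ → F) :=
      { carrier := {v | ∃ c : F, T.comp f u v = c • 1}
        add_mem' := by
          rintro a b ⟨c, hc⟩ ⟨d, hd⟩
          exact ⟨c + d, by rw [T.comp_add, hc, hd, add_smul]⟩
        zero_mem' := ⟨0, by rw [TForm.comp, TensorOrth.inc_zero, Matrix.mul_zero, zero_smul]⟩
        smul_mem' := by
          rintro r a ⟨c, hc⟩
          exact ⟨r * c, by rw [T.comp_smul, hc, smul_smul]⟩ }
    refine perp_span hpP S (fun v hv hvv => ?_) hv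
    obtain ⟨h, ρ, σ, hl, hhv, hσ, hρσ⟩ := exists_shift hpP hv hvv
    have hhv' : P.adj h *ᵥ v = σ • v := by
      have h1 : P.adj h * h = 1 := Grp.iso hl.mem
      conv_rhs => rw [← one_mulVec v, ← h1, ← mulVec_mulVec, hhv, mulVec_smul, smul_smul, hσ, one_smul]
    have hru := rad_levi hpP hl (hurad.adj hp hui).1
    have hN := hurad.mul hp hru.1
    have hmem : Mem X₂ j (L * (u * (((1 : Matrix (Rest j → γ) (Rest j → γ) F) ⊗ₖ h) * T.adjV u *
        ((1 : Matrix (Rest j → γ) (Rest j → γ) F) ⊗ₖ P.adj h))) * T.adjV L) := by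
      have h1 := (h12 _ (Mem.slot₂ h₁.hyp hl.mem)).mul (Mem.slot₂ h₂.hyp (Grp.adj_mem (hb.grp hl.mem)))
      convert h1 using 1
      have e1 : L * ((1 : Matrix (Rest j → γ) (Rest j → γ) F) ⊗ₖ P.adj h) * T.adjV L =
          (1 : Matrix (Rest j → γ) (Rest j → γ) F) ⊗ₖ P.adj ((μ⁻¹)⁻¹ • (b * h * P.adj b)) := by
        rw [hLadjV, hL, ← mul_kronecker_mul, ← mul_kronecker_mul, Matrix.mul_one, hAAμ, smul_kronecker,
          ← kronecker_smul, inv_inv]
        congr 1
        simp only [adj, TForm.adjU_smul, TForm.adjU_mul, TForm.adjU_adjU, Matrix.mul_assoc]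
      have hLL : T.adjV (T.adjV L) = L := by
        calc T.adjV (T.adjV L) = T.adjV (T.adjV L) * (T.adjV L * L) := by rw [hLi, Matrix.mul_one]
          _ = L := by rw [← Matrix.mul_assoc, ← T.adjV_mul, hLi', T.adjV_one, Matrix.one_mul]
      have e2 : T.adjV u = T.adjV H * L := by rw [hu, T.adjV_mul, hLL]
      rw [← e1, e2]
      conv_rhs => rw [← hLu]
      simp only [Matrix.mul_assoc, hH', ← hLu]
    obtain ⟨c, hc⟩ := h₂.comp_scalar hpP hmem (hcL _ hN.1 v hv.left).1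
      (w := b *ᵥ v) (by rw [← hbe, hb.form, hv.left, mul_zero])
    rw [← hT, (hcL _ hN.1 v hv.left).2, hN.2 v hv.left, hru.2 v hv.left, hhv', T.comp_smul,
      (hurad.adj hp hui).2 v hv.left] at hc
    have h1 := congrArg (fun M => T.adjU A * M * A) hc
    beta_reduce at h1
    rw [Matrix.mul_smul, Matrix.smul_mul, ← Matrix.mul_assoc (T.adjU A), ← Matrix.mul_assoc (T.adjU A), hAsim,
      Matrix.mul_assoc _ (T.adjU A) A, hAsim, Matrix.mul_smul, Matrix.smul_mul, Matrix.one_mul, Matrix.mul_smul,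
      Matrix.mul_one, Matrix.mul_one, smul_smul, smul_smul, Matrix.smul_mul, hAsim, smul_smul] at h1
    rw [show T.comp f u v + (ρ * σ) • -T.comp f u v = (1 - ρ * σ) • T.comp f u v by module, smul_smul] at h1
    have hne : μ⁻¹ * μ * μ * (1 - ρ * σ) ≠ 0 := by
      refine mul_ne_zero (mul_ne_zero (mul_ne_zero (inv_ne_zero hμ0) hμ0) hμ0) (sub_ne_zero.mpr fun h1 => hρσ ?_)
      calc ρ = ρ * (σ * σ) := by rw [hσ, mul_one]
        _ = σ := by rw [← mul_assoc, ← h1, one_mul]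
    refine ⟨(μ⁻¹ * μ * μ * (1 - ρ * σ))⁻¹ * (c * μ), ?_⟩
    rw [← smul_smul _ (c * μ), show (c * μ) • (1 : Matrix (Rest j → γ) (Rest j → γ) F) = c • μ • 1 from (smul_smul _ _ _).symm, ← h1, smul_smul, inv_mul_cancel₀ hne, one_smul]
  have hsc' : ∀ w, T.B₂ e w = 0 → ∃ c : F, T.comp f u w = c • 1 := by
    intro w hw
    obtain ⟨z, hz, ew⟩ := decomp hpP w
    rw [show P.B e w = 0 from hw, zero_smul, add_zero] at ew
    obtain ⟨c, hc⟩ := hsc z hz
    exact ⟨c, by conv_lhs => rw [ew, T.comp_add, T.comp_smul, rad_comp_e hurad, smul_zero, zero_add, hc]⟩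
  obtain ⟨i₁⟩ : Nonempty (Rest j → γ) := inferInstance
  let φ : (γ → F) →ₗ[F] F :=
    { toFun := fun w => T.comp f u w i₁ i₁
      map_add' := fun v w => by rw [T.comp_add, Matrix.add_apply]
      map_smul' := fun c v => by rw [T.comp_smul, Matrix.smul_apply]; rfl }
  obtain ⟨z, hez, -, hz⟩ := TForm.exists_dual_vec hp φ (by
    show T.comp f u e i₁ i₁ = 0
    rw [rad_comp_e hurad, Matrix.zero_apply])
  have hφ : ∀ w, T.B₂ e w = 0 → T.comp f u w = T.B₂ z w • (1 : Matrix (Rest j → γ) (Rest j → γ) F) := by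
    intro w hw
    obtain ⟨c, hc⟩ := hsc' w hw
    rw [hz w hw, hc]
    show c • (1 : Matrix (Rest j → γ) (Rest j → γ) F) = (T.comp f u w) i₁ i₁ • 1
    rw [hc, Matrix.smul_apply, one_apply_eq, smul_eq_mul, mul_one]
  set t := (1 : Matrix (Rest j → γ) (Rest j → γ) F) ⊗ₖ sie T.G₂ e z with ht
  have htm : Mem X₁ j t := Mem.slot₂ h₁.hyp (sie_mem he hez)
  have hti : T.IsIso t := htm.iso h₁.hyp
  have htr := TForm.sie₂_rad (T := T) (α := Rest j → γ) hp hez
  have hr₂ := hurad.mul hp (htr.1.adj hp hti).1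
  obtain ⟨K, hK, hKe⟩ := hr₂.1.central hp (TForm.IsIso.mul T hui ((htm.adj h₁.hyp).iso h₁.hyp)) fun w hw => by
    rw [hr₂.2 w hw, (htr.1.adj hp hti).2 w hw, htr.2 w hw, hφ w hw, add_neg_cancel]
  have hK0 : K = 0 := by
    have hx' : H * T.adjV t = L * T.ZM e K := by rw [← hLu, Matrix.mul_assoc, hKe]
    have hslot : ∀ (l : Rest j), ∀ a ∈ P.Grp, Commute (slot l a) K := by
      intro l a ha
      have h1 : Mem X₂ j ((L * T.ZM e K) * (slot l a ⊗ₖ (1 : Matrix γ γ F)) * T.adjV (L * T.ZM e K)) := by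
        have := h12 _ (((htm.adj h₁.hyp).mul (Mem.slot₁ h₁.hyp l ha)).mul htm)
        convert this using 1
        rw [← hx', T.adjV_mul, show T.adjV (T.adjV t) = t by
          calc T.adjV (T.adjV t) = T.adjV (T.adjV t) * (T.adjV t * t) := by
                rw [show T.adjV t * t = 1 from hti, Matrix.mul_one]
            _ = t := by rw [← Matrix.mul_assoc, ← T.adjV_mul, mul_eq_one_comm.mp hti, T.adjV_one, Matrix.one_mul]]
        simp only [Matrix.mul_assoc, hH', ← hT]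
      set sa : Matrix (Rest j → γ) (Rest j → γ) F := slot l a
      have hsa : T.adjU sa * sa = 1 := by
        rw [adjU_slot, ← slot_mul, Grp.iso ha, slot_one]
      have hsa' : sa * T.adjU sa = 1 := mul_eq_one_comm.mp hsa
      set A'' : Matrix (Rest j → γ) (Rest j → γ) F := μ⁻¹ • (A * sa * T.adjU A) with hA''
      set K' : Matrix (Rest j → γ) (Rest j → γ) F := A * (T.adjU sa * K * sa - K) * T.adjU A with hK'
      have hA''i : T.adjU A'' * A'' = 1 := sim_iso hAsim hAAμ hsa hμ0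
      have e1 : (L * T.ZM e K) * (sa ⊗ₖ (1 : Matrix γ γ F)) * T.adjV (L * T.ZM e K) =
          (A'' ⊗ₖ (1 : Matrix γ γ F)) * T.ZM e K' := kron_ZM_conj he hb hbe hAsim hAAμ hsa hK
      rw [e1] at h1
      have hK'0 := h₂.ZM_kron_zero he he0 hA''i ?_ h1
      · have h2 : T.adjU sa * K * sa = K := by
          have h3 := congrArg (fun M => T.adjU A * M * A) hK'0
          beta_reduce at h3
          rw [hK', Matrix.mul_zero, Matrix.zero_mul, ← Matrix.mul_assoc (T.adjU A), ← Matrix.mul_assoc (T.adjU A),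
            hAsim, Matrix.mul_assoc _ (T.adjU A) A, hAsim, Matrix.smul_mul, Matrix.one_mul, Matrix.mul_smul,
            Matrix.mul_one, smul_smul, smul_eq_zero] at h3
          exact sub_eq_zero.mp (h3.resolve_left (mul_ne_zero hμ0 hμ0))
        show sa * K = K * sa
        conv_lhs => rw [← h2, ← Matrix.mul_assoc, ← Matrix.mul_assoc, hsa', Matrix.one_mul]
      · rw [← hT, hK', T.adjU_mul, T.adjU_mul, T.adjU_adjU, T.adjU_sub, T.adjU_mul, T.adjU_mul, T.adjU_adjU, hK,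
          Matrix.neg_mul, Matrix.mul_neg, ← Matrix.mul_assoc (T.adjU sa), ← neg_sub', Matrix.neg_mul, Matrix.mul_neg,
          Matrix.mul_assoc A]
    obtain ⟨c, hc⟩ := scalar_all (P := P) hslot
    rw [hc]
    exact scalar_skew (P := P) (by rw [← hT, ← hc]; exact hK)
  rw [hK0, T.ZM_zero] at hKe
  refine ⟨A, b * sie T.G₂ e z, ?_⟩
  have h1 : H = L * t := by
    calc H = L * u * (T.adjV t * t) := by rw [show T.adjV t * t = 1 from hti, Matrix.mul_one, hLu]
      _ = L * (u * T.adjV t) * t := by simp only [Matrix.mul_assoc]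
      _ = L * t := by rw [hKe, Matrix.mul_one]
  rw [h1, hL, ht, ← mul_kronecker_mul, Matrix.mul_one]

end Frm

end Cfsg.Lib.Classical.OrthPow
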