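import Cfsg.Agent.Classical.OrthPow.Pw

/-!
# Dimension three: a root group moving into the centraliser of a root
-/

set_option autoImplicit false
set_option linter.unusedSectionVars false
set_option linter.unusedSimpArgs false
set_option linter.style.haveILetI false

namespace Cfsg.Lib.Classical.OrthPow

open Matrix Finset
open scoped Kronecker MatrixGroups
open Cfsg.Lib.Classical.TensorOrth (TForm inc sie sie_zero exists_common Three Frame Uni)
open Cfsg.Lib.Classical.TensorPowLin (Rest toBig slot slot_eq slot_mul slot_one slot_smul slot_sub slot_add coord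
  coord_val conjM conjM_apply conjM_mul conjM_one conjM_conjM conjM_inv_conjM commute_conjM commute_conjM_left Eqj
  kron_of_normal)

universe u

variable {τ γ : Type} [Fintype τ] [DecidableEq τ] [Fintype γ] [DecidableEq γ] {F : Type u} [Field F] [Fintype F]

namespace Frm

variable {P : Frm γ F} {X : Subgroup (GL (τ → γ) F)}

/-- An element of `X` commuting with a root of slot `i` normalises the slot. -/
theorem Good.normal_of_comm (hG : P.Good X) {y : GL (τ → γ) F} (hy : y ∈ X) {i : τ} {e : γ → F} (he0 : e ≠ 0)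
    (he : P.B e e = 0) (h : Commute (y : Matrix (τ → γ) (τ → γ) F) (slot i (P.E e))) : Eqj y i i :=
  Good.normal_of_E hG hG (hG.hyp.iso y hy) (fun k hk => mul_mem (mul_mem hy hk) (inv_mem hy))
    (fun k hk => mul_mem (mul_mem (inv_mem hy) hk) hy) he0 he (c := 1) (by rw [one_smul]; exact conjM_fix h)

theorem sie_cm {j : τ} {A : Matrix (Rest j → γ) (Rest j → γ) F} : CM j (toBig j (A ⊗ₖ (1 : Matrix γ γ F))) :=
  fun M => by
    show _ = _
    rw [slot_eq, ← map_mul, ← map_mul, ← mul_kronecker_mul, ← mul_kronecker_mul, Matrix.mul_one, Matrix.one_mul,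
      Matrix.mul_one, Matrix.one_mul]

set_option maxHeartbeats 1000000 in
/-- If the root elements of a line at `v` are moved into the centraliser of a root element of slot `j`, then the slot
is moved onto slot `j` or into the centraliser. -/
theorem Good.root_three (hG : P.Good X) {g : GL (τ → γ) F} (hg : g ∈ X) (h3 : Fintype.card γ = 3) {i j : τ}
    {e f u : γ → F} (hp : P.Pair e f) (hu : P.Perp e f u) (huu : P.B u u ≠ 0) {v x w : γ → F}
    (hF : Frame P.G v x w)
    (hc : ∀ c : F, Commute (conjM g (slot i (sie P.G v (c • x)))) (slot j (sie P.G e u))) :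
    Eqj g i j ∨ P.Pw g i j e := by
  classical
  haveI : Nonempty γ := P.nonempty
  haveI : Nonempty (Rest j → γ) := inferInstance
  have h2 := P.two
  have h3' : Three P.G := ⟨P.symm, P.det, P.two, h3⟩
  have hFu : Frame P.G e u f := ⟨hp.ee, hp.ff, hp.ef, hu.left, hu.right, huu⟩
  have hvv : P.B v v = 0 := hF.ee
  have hvx : P.B v x = 0 := hF.ex
  have hxx : P.B x x ≠ 0 := hF.xx
  have hv0 : v ≠ 0 := hF.ne
  have h5 : 5 ≤ Fintype.card F := (three_or_five P).resolve_left fun h => by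
    exact P.ex h3 (by rw [Nat.card_eq_fintype_card, h])
  obtain ⟨c₀, hc₀, hc₀'⟩ := exists_sq_ne_one h5
  -- the conjugates
  have hmem : ∀ c : F, ∃ y ∈ X, (y : Matrix (τ → γ) (τ → γ) F) = conjM g (slot i (sie P.G v (c • x))) := by
    intro c
    obtain ⟨t, ht, et⟩ := hG.hyp.slotMem i _ (sie_mem hvv (show P.B v (c • x) = 0 by rw [B_smul_right, hvx, mul_zero]))
    exact ⟨g * t * g⁻¹, mul_mem (mul_mem hg ht) (inv_mem hg), by rw [conjM_apply, ← et]; rfl⟩
  choose y hyX hy using hmem
  have hyp : ∀ c, y c ^ ringChar F = 1 := fun c => Units.ext (by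
    have hpow : ∀ n : ℕ, conjM g (slot i (sie P.G v (c • x))) ^ n = conjM g (slot i (sie P.G v (c • x)) ^ n) := by
      intro n
      induction n with
      | zero => rw [pow_zero, pow_zero, conjM_one]
      | succ n ih => rw [pow_succ, pow_succ, ih, conjM_mul]
    rw [Units.val_pow_eq_pow_val, hy, hpow, slot_pow, sie_char hvv (by rw [B_smul_right, hvx, mul_zero]), slot_one,
      conjM_one, Units.val_one])
  have hsplit : ∀ c, ∃ (A : Matrix (Rest j → γ) (Rest j → γ) F) (θ : F),
      (y c : Matrix (τ → γ) (τ → γ) F) = toBig j (A ⊗ₖ sie P.G e (θ • u)) ∧ IsNilpotent (A - 1) := by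
    intro c
    have hcr : Commute (y c : Matrix (τ → γ) (τ → γ) F) (slot j (sie P.G e u)) := by rw [hy]; exact hc c
    obtain ⟨A, b, hAb, hbi, hAn, hbn⟩ := hG.hyp.unip_split (hyX c)
      (hG.normal_of_comm (hyX c) hp.ne hp.ee (comm_E hp.ee hu.left huu hcr)) (hyp c)
    have hA0 := unip_ne_zero hAn
    have hb : b * sie P.G e u = sie P.G e u * b := by
      have h1 := hcr.eq
      rw [hAb, slot_eq, ← map_mul, ← map_mul, ← mul_kronecker_mul, ← mul_kronecker_mul, Matrix.mul_one,
        Matrix.one_mul] at h1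
      exact kron_left_cancel hA0 ((toBig (F := F) (γ := γ) j).injective h1)
    have hU : Uni P.G b := by
      refine ⟨?_, hbn⟩
      have h1 := congrArg (P.G * ·) hbi
      simp only [adj, TForm.adjU, ← Matrix.mul_assoc, Matrix.mul_one] at h1
      rwa [show P.T.G₁ = P.G from rfl, show P.G * P.G⁻¹ = 1 from P.T.mul_inv₁, Matrix.one_mul] at h1
    obtain ⟨θ, hθ⟩ := hFu.of_comm h3' one_ne_zero hU (by rw [one_smul]; exact hb)
    exact ⟨A, θ, by rw [hAb, hθ], hAn⟩
  choose A θ hAθ hAn using hsplit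
  have hperp : ∀ t : F, P.B e (t • u) = 0 := fun t => by rw [B_smul_right, hu.left, mul_zero]
  have hsie : ∀ s t : F, sie P.G e (s • u) * sie P.G e (t • u) = sie P.G e ((s + t) • u) := fun s t => by
    rw [TensorOrth.sie_mul P.symm P.two hp.ee (hperp s) (hperp t), add_smul]
  have hprod : ∀ c d, (A c * A d) ⊗ₖ sie P.G e ((θ c + θ d) • u) = A (c + d) ⊗ₖ sie P.G e (θ (c + d) • u) := by
    intro c d
    refine (toBig (F := F) (γ := γ) j).injective ?_
    rw [← hsie, mul_kronecker_mul, map_mul, ← hAθ, ← hAθ, ← hAθ, hy, hy, hy, ← conjM_mul, ← slot_mul,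
      TensorOrth.sie_mul P.symm P.two hvv (show P.B v (c • x) = 0 by rw [B_smul_right, hvx, mul_zero])
        (show P.B v (d • x) = 0 by rw [B_smul_right, hvx, mul_zero]), add_smul]
  have hAne : ∀ c d, A c * A d ≠ 0 := fun c d h0 => by
    have h1 := hprod c d
    rw [h0, zero_kronecker] at h1
    obtain ⟨p, q, hpq⟩ : ∃ p q, A (c + d) p q ≠ 0 := by
      by_contra hh
      push Not at hh
      exact unip_ne_zero (hAn (c + d)) (Matrix.ext hh)
    refine unip_ne_zero (sie_nil hp.ee (hperp (θ (c + d)))) (Matrix.ext fun a b => ?_)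
    have h2 := (congrFun (congrFun h1 (p, a)) (q, b)).symm
    rw [kroneckerMap_apply, Matrix.zero_apply] at h2
    exact (mul_eq_zero.mp h2).resolve_left hpq
  have hadd : ∀ c d, θ (c + d) = θ c + θ d := fun c d => by
    obtain ⟨l, hl⟩ := kron_line (hAne c d) (hprod c d)
    have h1 := congrArg (· *ᵥ e) hl
    simp only [smul_mulVec, hFu.sie_e h3'] at h1
    have hl1 : l = 1 := by
      by_contra hne
      have : (1 - l) • e = 0 := by rw [sub_smul, one_smul, ← h1, sub_self]
      exact hp.ne ((smul_eq_zero.mp this).resolve_left (sub_ne_zero.mpr (Ne.symm hne)))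
    rw [hl1, one_smul] at hl
    exact (hFu.sie_inj h3' hl).symm
  have hcomm : ∀ c d, A c * A d = A d * A c := fun c d => by
    have h1 := hprod c d
    have h1' := hprod d c
    rw [add_comm d c, add_comm (θ d) (θ c), ← h1] at h1'
    exact (kron_right_cancel (unip_ne_zero (sie_nil hp.ee (hperp _))) h1').symm
  -- a common fixed vector
  let L : F → ((Rest j → γ) → F) →+ ((Rest j → γ) → F) := fun c =>
    AddMonoidHom.mk' (fun z => (A c - 1) *ᵥ z) fun a b => mulVec_add _ a b
  obtain ⟨z₀, -, hz₀, hfix⟩ := exists_common (⊤ : AddSubgroup ((Rest j → γ) → F)) ⊥ L (fun _ _ _ => trivial)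
    (fun k v hv => by rw [AddSubgroup.mem_bot] at hv ⊢; subst hv; exact map_zero _)
    (fun k l v => by
      show (A k - 1) *ᵥ ((A l - 1) *ᵥ v) = (A l - 1) *ᵥ ((A k - 1) *ᵥ v)
      rw [mulVec_mulVec, mulVec_mulVec,
        (((show Commute (A k) (A l) from hcomm k l).sub_left (Commute.one_left _)).sub_right (Commute.one_right _)).eq])
    (fun k => by
      obtain ⟨n, hn⟩ := hAn k
      refine ⟨n, fun v => ?_⟩
      have hi : ∀ n : ℕ, (L k)^[n] v = (A k - 1) ^ n *ᵥ v := by
        intro n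
        induction n with
        | zero => simp
        | succ n ih =>
          rw [Function.iterate_succ_apply', ih, pow_succ', ← mulVec_mulVec]
          rfl
      rw [hi, hn, zero_mulVec])
    (by
      obtain ⟨o⟩ := ‹Nonempty (Rest j → γ)›
      exact ⟨Pi.single o 1, trivial, by simp⟩) Finset.univ
  obtain ⟨o, ho⟩ : ∃ o, z₀ o ≠ 0 := by
    by_contra hh
    push Not at hh
    exact hz₀ (AddSubgroup.mem_bot.mpr (funext hh))
  have hfix' : ∀ c, A c *ᵥ z₀ = z₀ := fun c => by
    have := hfix c (Finset.mem_univ _)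
    rw [AddSubgroup.mem_bot] at this
    change (A c - 1) *ᵥ z₀ = 0 at this
    rwa [sub_mulVec, one_mulVec, sub_eq_zero] at this
  -- the coefficients
  set M₁ := (toBig (F := F) (γ := γ) j).symm (conjM g (slot i (P.wedge v x))) with hM₁
  set M₂ := (toBig (F := F) (γ := γ) j).symm (conjM g (slot i (-(P.B x x / 2) • P.E v))) with hM₂
  have hexp : ∀ c, A c ⊗ₖ sie P.G e (θ c • u) = 1 + c • M₁ + (c * c) • M₂ := fun c => by
    refine (toBig (F := F) (γ := γ) j).injective ?_
    rw [map_add, map_add, map_one, map_smul, map_smul, hM₁, hM₂, AlgEquiv.apply_symm_apply, AlgEquiv.apply_symm_apply,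
      ← hAθ, hy, sie_line]
    simp only [slot_add, slot_one, slot_smul, map_add, map_smul, conjM_one]
  let Ψ : (γ → F) → (γ → F) → Matrix ((Rest j → γ) × γ) ((Rest j → γ) × γ) F → Matrix (Rest j → γ) (Rest j → γ) F :=
    fun φ w M => (P.Tj j).pr φ * M * inc (Rest j → γ) w
  have hΨ : ∀ φ w c, P.B φ (sie P.G e (θ c • u) *ᵥ w) • A c =
      P.B φ w • (1 : Matrix (Rest j → γ) (Rest j → γ) F) + c • Ψ φ w M₁ + (c * c) • Ψ φ w M₂ := fun φ w c => by
    rw [← pr_kron, hexp]
    simp only [Ψ, Matrix.mul_add, Matrix.add_mul, Matrix.mul_smul, Matrix.smul_mul]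
    rw [← one_kronecker_one, pr_kron, one_mulVec]
  set P₁ := Ψ f e M₁ with hP₁
  set P₂ := Ψ f e M₂ with hP₂
  have hA : ∀ c, A c = 1 + c • P₁ + (c * c) • P₂ := fun c => by
    have := hΨ f e c
    rwa [hFu.sie_e h3', hp.fe, one_smul, one_smul] at this
  set R₁ := (-(P.B u u))⁻¹ • Ψ u f M₁ with hR₁
  set R₂ := (-(P.B u u))⁻¹ • Ψ u f M₂ with hR₂
  have hθA : ∀ c, θ c • A c = c • R₁ + (c * c) • R₂ := fun c => by
    have h1 := hΨ u f c
    have e1 : P.B u (sie P.G e (θ c • u) *ᵥ f) = -(P.B u u) * θ c := by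
      rw [OrthPow.Frm.sie_f hp (hu.smul _), B_sub_right, B_sub_right, B_smul_right, B_smul_right,
        show P.B u e = 0 from hu.left', show P.B u f = 0 from hu.right']
      ring
    rw [e1, show P.B u f = 0 from hu.right', zero_smul, zero_add] at h1
    have h2 := congrArg ((-(P.B u u))⁻¹ • ·) h1
    simp only [smul_smul, ← mul_assoc, inv_mul_cancel₀ (neg_ne_zero.mpr huu), one_mul, smul_add] at h2
    rw [h2, hR₁, hR₂]
    module
  set S₁ := (-(P.B u u / 2))⁻¹ • Ψ f f M₁ with hS₁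
  set S₂ := (-(P.B u u / 2))⁻¹ • Ψ f f M₂ with hS₂
  have hu2 : -(P.B u u / 2) ≠ 0 := neg_ne_zero.mpr (div_ne_zero huu h2)
  have hθθA : ∀ c, (θ c * θ c) • A c = c • S₁ + (c * c) • S₂ := fun c => by
    have h1 := hΨ f f c
    have e1 : P.B f (sie P.G e (θ c • u) *ᵥ f) = -(P.B u u / 2) * (θ c * θ c) := by
      rw [OrthPow.Frm.sie_f hp (hu.smul _), B_sub_right, B_sub_right, B_smul_right, B_smul_right,
        B_smul_left, B_smul_right, hu.right, hp.fe, hp.ff]
      ring
    rw [e1, hp.ff, zero_smul, zero_add] at h1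
    have h2 := congrArg ((-(P.B u u / 2))⁻¹ • ·) h1
    simp only [smul_smul, ← mul_assoc, inv_mul_cancel₀ hu2, one_mul, smul_add] at h2
    rw [h2, hS₁, hS₂]
    module
  -- the twist is linear
  set α := (R₁ *ᵥ z₀) o / z₀ o with hα
  set β := (R₂ *ᵥ z₀) o / z₀ o with hβ
  have hθ' : ∀ c, θ c = α * c + β * (c * c) := fun c => by
    have h1 := congrFun (congrArg (· *ᵥ z₀) (hθA c)) o
    simp only [smul_mulVec, hfix', add_mulVec, Pi.add_apply, Pi.smul_apply, smul_eq_mul] at h1
    rw [hα, hβ]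
    field_simp
    linear_combination h1
  have hβ0 : β = 0 := by
    have h1 := hadd 1 1
    rw [hθ', hθ'] at h1
    exact (mul_eq_zero.mp (show (2 : F) * β = 0 by linear_combination h1)).resolve_left h2
  have hlin : ∀ c, θ c = α * c := fun c => by rw [hθ', hβ0, zero_mul, add_zero]
  have hP₂0 : α • P₂ = 0 := (cubic h2 hc₀ hc₀' (b := α • P₁ - R₂)
    (d := α • (1 : Matrix (Rest j → γ) (Rest j → γ) F) - R₁) fun c => by
      have h1 := hθA c
      rw [hA, hlin] at h1
      linear_combination (norm := module) h1).1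
  by_cases hα0 : α = 0
  · -- everything commutes with slot `j`
    refine Or.inr ?_
    have hCM : ∀ c, CM j (conjM g (slot i (sie P.G v (c • x)))) := fun c => by
      rw [← hy, hAθ, hlin, hα0, zero_mul, zero_smul, sie_zero]
      exact sie_cm
    -- conjugates of slot `j` normalise slot `i`
    have hE : ∀ {h' : Matrix γ γ F}, h' ∈ P.Grp → ∀ k ∈ X, (k : Matrix (τ → γ) (τ → γ) F) = slot j h' →
        (∀ c : F, Commute ((g⁻¹ * k * g : GL (τ → γ) F) : Matrix (τ → γ) (τ → γ) F) (slot i (sie P.G v (c • x)))) ∧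
          Eqj (g⁻¹ * k * g) i i := by
      intro h' hh' k hk ek
      have hcomm : ∀ c : F, Commute ((g⁻¹ * k * g : GL (τ → γ) F) : Matrix (τ → γ) (τ → γ) F)
          (slot i (sie P.G v (c • x))) := fun c => by
        have h1 := commute_conjM g⁻¹ (hCM c h')
        rw [conjM_inv_conjM, conjM_apply, inv_inv, ← ek] at h1
        exact h1
      refine ⟨hcomm, hG.normal_of_comm (mul_mem (mul_mem (inv_mem hg) hk) hg) hv0 hvv ?_⟩
      exact comm_E hvv hvx hxx (by simpa using hcomm 1)
    have hroot : ∀ {e' z : γ → F}, P.B e' e' = 0 → P.B e' z = 0 → ∀ k ∈ X,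
        (k : Matrix (τ → γ) (τ → γ) F) = slot j (sie P.G e' z) → ∃ (A' : Matrix (Rest i → γ) (Rest i → γ) F) (κ : F),
          ((g⁻¹ * k * g : GL (τ → γ) F) : Matrix (τ → γ) (τ → γ) F) = toBig i (A' ⊗ₖ sie P.G v (κ • x)) ∧
            IsNilpotent (A' - 1) := by
      intro e' z he' hz k hk ek
      obtain ⟨hcomm, hn⟩ := hE (sie_mem he' hz) k hk ek
      obtain ⟨A', b, hAb, hbi, hAn', hbn⟩ := hG.hyp.unip_split (mul_mem (mul_mem (inv_mem hg) hk) hg) hn (by
        have h1 : ∀ n : ℕ, (g⁻¹ * k * g) ^ n = g⁻¹ * k ^ n * g := fun n => by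
          simpa using (map_pow (MulAut.conj g⁻¹).toMonoidHom k n).symm
        rw [h1, root_pow he' hz ek, mul_one, inv_mul_cancel])
      have hb : b * sie P.G v ((1 : F) • x) = sie P.G v ((1 : F) • x) * b := by
        have h1 := (hcomm 1).eq
        rw [hAb, slot_eq, ← map_mul, ← map_mul, ← mul_kronecker_mul, ← mul_kronecker_mul, Matrix.mul_one,
          Matrix.one_mul] at h1
        exact kron_left_cancel (unip_ne_zero hAn') ((toBig (F := F) (γ := γ) i).injective h1)
      have hU : Uni P.G b := by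
        refine ⟨?_, hbn⟩
        have h1 := congrArg (P.G * ·) hbi
        simp only [adj, TForm.adjU, ← Matrix.mul_assoc, Matrix.mul_one] at h1
        rwa [show P.T.G₁ = P.G from rfl, show P.G * P.G⁻¹ = 1 from P.T.mul_inv₁, Matrix.one_mul] at h1
      obtain ⟨κ, hκ⟩ := hF.of_comm h3' one_ne_zero hU hb
      exact ⟨A', κ, by rw [hAb, hκ], hAn'⟩
    intro M
    refine (cm_of_sie (P := P) fun e' z he'0 he' hz => ?_) (P.E e) |>.symm
    obtain ⟨f', hp'⟩ := exists_partner' he'0 he'
    obtain ⟨z₁, hz₁, ez⟩ := sie_red hp' hz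
    rw [ez]
    by_cases hzz : P.B z₁ z₁ = 0
    · -- nothing singular is orthogonal to a pair
      obtain ⟨a', ha', haa'⟩ := exists_perp hp'
      have hf' : Frame P.G e' a' f' := ⟨hp'.ee, hp'.ff, hp'.ef, ha'.left, ha'.right, haa'⟩
      have h1 := hf'.expand h3' z₁
      rw [show f' ⬝ᵥ P.G *ᵥ z₁ = 0 from hz₁.right, show e' ⬝ᵥ P.G *ᵥ z₁ = 0 from hz₁.left, zero_smul, zero_smul,
        zero_add, add_zero] at h1
      set t := (a' ⬝ᵥ P.G *ᵥ z₁) / (a' ⬝ᵥ P.G *ᵥ a')
      rw [h1, B_smul_left, B_smul_right] at hzz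
      have ht : t = 0 := by
        rcases mul_eq_zero.mp hzz with h | h
        · exact h
        · exact (mul_eq_zero.mp h).resolve_right haa'
      rw [h1, ht, zero_smul, sie_zero, slot_one]
      exact Commute.one_left _
    obtain ⟨L', ρ, σ, hL', hLz, hσ, hρσ⟩ := exists_shift hp' hz₁ hzz
    have hne : ρ * σ - 1 ≠ 0 := sub_ne_zero.mpr fun h1 => hρσ (by
      calc ρ = ρ * σ * σ := by rw [mul_assoc, hσ, mul_one]
        _ = σ := by rw [h1, one_mul])
    set z' := (ρ * σ - 1)⁻¹ • z₁ with hz'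
    have hz'' : P.B e' z' = 0 := by rw [hz', B_smul_right, hz₁.left, mul_zero]
    have hz1 : P.B e' z₁ = 0 := hz₁.left
    obtain ⟨kL, hkL, ekL⟩ := hG.hyp.slotMem j _ hL'.mem
    obtain ⟨kr, hkr, ekr⟩ := hG.hyp.slotMem j _ (sie_mem hp'.ee hz'')
    obtain ⟨kz, hkz, ekz⟩ := hG.hyp.slotMem j _ (sie_mem hp'.ee hz1)
    obtain ⟨A₁, κ, e₁, hA₁⟩ := hroot hp'.ee hz'' kr hkr ekr
    obtain ⟨A₂, κ₂, e₂, hA₂⟩ := hroot hp'.ee hz1 kz hkz ekz
    obtain ⟨hcL, hnL⟩ := hE hL'.mem kL hkL ekL
    obtain ⟨AL, BL, hLB⟩ := kron_of_normal hnL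
    have eL : ((g⁻¹ * kL * g : GL (τ → γ) F) : Matrix (τ → γ) (τ → γ) F) =
        toBig i ((AL : Matrix (Rest i → γ) (Rest i → γ) F) ⊗ₖ (BL : Matrix γ γ F)) := by rw [← hLB, coord_val]
    have hBL : (BL : Matrix γ γ F) * sie P.G v (κ • x) = sie P.G v (κ • x) * BL := by
      have h1 := (hcL κ).eq
      rw [eL, slot_eq, ← map_mul, ← map_mul, ← mul_kronecker_mul, ← mul_kronecker_mul, Matrix.mul_one,
        Matrix.one_mul] at h1
      haveI : Nonempty (Rest i → γ) := inferInstance
      exact kron_left_cancel AL.isUnit.ne_zero ((toBig (F := F) (γ := γ) i).injective h1)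
    -- the commutator
    have hrel : kz * kr = kL * kr * kL⁻¹ := Units.ext (by
      rw [Units.val_mul, Units.val_mul, Units.val_mul, hG.hyp.inv_eq hkL, ekz, ekr, ekL, P.dag_slot, ← slot_mul,
        ← slot_mul, ← slot_mul, TensorOrth.sie_mul P.symm P.two hp'.ee hz1 hz'', conj_sie (Grp.iso hL'.mem), hL'.he,
        mulVec_smul, hLz, smul_smul, ← smul_smul, sie_smul]
      congr 2
      match_scalars
      field_simp
      ring)
    have hrel' : (g⁻¹ * kz * g) * (g⁻¹ * kr * g) = (g⁻¹ * kL * g) * (g⁻¹ * kr * g) * (g⁻¹ * kL * g)⁻¹ := by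
      have := congrArg (fun k => g⁻¹ * k * g) hrel
      beta_reduce at this
      rw [show g⁻¹ * (kz * kr) * g = (g⁻¹ * kz * g) * (g⁻¹ * kr * g) by group,
        show g⁻¹ * (kL * kr * kL⁻¹) * g = (g⁻¹ * kL * g) * (g⁻¹ * kr * g) * (g⁻¹ * kL * g)⁻¹ by group] at this
      exact this
    have h1 := congrArg (fun k : GL (τ → γ) F => (k : Matrix (τ → γ) (τ → γ) F))
      (eq_mul_inv_iff_mul_eq.mp hrel')
    simp only [Units.val_mul, e₁, e₂, eL, ← map_mul, ← mul_kronecker_mul] at h1
    have h2' := (toBig (F := F) (γ := γ) i).injective h1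
    have hb' : sie P.G v (κ₂ • x) * sie P.G v (κ • x) * (BL : Matrix γ γ F) =
        sie P.G v (κ₂ • x) * ((BL : Matrix γ γ F) * sie P.G v (κ • x)) := by rw [Matrix.mul_assoc, hBL]
    rw [hb'] at h2'
    have hALne : A₂ * A₁ * (AL : Matrix (Rest i → γ) (Rest i → γ) F) ≠ 0 := by
      haveI : Nonempty (Rest i → γ) := inferInstance
      obtain ⟨n₂, hn₂⟩ := hA₂
      obtain ⟨n₁, hn₁⟩ := hA₁
      have u₁ : IsUnit A₁ := by simpa using (IsNilpotent.isUnit_add_one ⟨n₁, hn₁⟩)
      have u₂ : IsUnit A₂ := by simpa using (IsNilpotent.isUnit_add_one ⟨n₂, hn₂⟩)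
      exact ((u₂.mul u₁).mul AL.isUnit).ne_zero
    obtain ⟨l, hl⟩ := kron_line hALne h2'
    have hκx : P.B v (κ • x) = 0 := by rw [B_smul_right, hvx, mul_zero]
    have hinv : sie P.G v (κ₂ • x) = l • 1 := by
      have h3 := congrArg (fun N => N * sie P.G v (-(κ • x)) * ((BL⁻¹ : GL γ F) : Matrix γ γ F)) hl
      beta_reduce at h3
      rw [← Matrix.mul_assoc (sie P.G v (κ₂ • x)), Matrix.mul_assoc (_ * (BL : Matrix γ γ F)),
        TensorOrth.sie_mul_neg P.symm P.two hvv hκx, Matrix.mul_one, Matrix.mul_assoc, Units.mul_inv, Matrix.mul_one,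
        Matrix.smul_mul, Matrix.smul_mul, Matrix.mul_assoc (BL : Matrix γ γ F),
        TensorOrth.sie_mul_neg P.symm P.two hvv hκx, Matrix.mul_one, Units.mul_inv] at h3
      exact h3
    have hcm : Commute (((g⁻¹ * kz * g : GL (τ → γ) F) : Matrix (τ → γ) (τ → γ) F)) (slot i M) := by
      rw [e₂, hinv, kronecker_smul, map_smul]
      exact ((sie_cm (j := i) (A := A₂)) M).symm.smul_left l
    have h4 := commute_conjM g hcm
    have h5' : conjM g ((g⁻¹ * kz * g : GL (τ → γ) F) : Matrix (τ → γ) (τ → γ) F) =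
        (kz : Matrix (τ → γ) (τ → γ) F) := by
      rw [conjM_apply, ← Units.val_mul, ← Units.val_mul]
      congr 1
      group
    rw [h5', ekz] at h4
    exact h4
  · refine Or.inl ?_
    have hP₂' : P₂ = 0 := (smul_eq_zero.mp hP₂0).resolve_left hα0
    have hP₁0 : (α * α) • P₁ = 0 := (cubic h2 hc₀ hc₀' (b := (α * α) • (1 : Matrix (Rest j → γ) (Rest j → γ) F) - S₂)
      (d := -S₁) fun c => by
        have h1 := hθθA c
        rw [hA, hP₂', smul_zero, add_zero, hlin] at h1
        linear_combination (norm := module) h1).1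
    have hP₁' : P₁ = 0 := (smul_eq_zero.mp hP₁0).resolve_left (mul_ne_zero hα0 hα0)
    have h1 : conjM g (slot i (sie P.G v x)) = slot j (sie P.G e (α • u)) := by
      have h0 := hy 1
      rw [one_smul] at h0
      rw [← h0, hAθ, hlin, mul_one, hA, hP₁', hP₂', smul_zero, smul_zero, add_zero, add_zero, slot_eq]
    have h2' := congrArg (fun M => (M - 1) * (M - 1)) h1
    beta_reduce at h2'
    rw [slot_sq hp.ee (hperp α), ← conjM_one g, ← map_sub, ← conjM_mul, slot_sq hvv hvx, map_smul] at h2'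
    refine hG.cross hg hp.ne hp.ee hv0 hvv (c := (-(P.B x x))⁻¹ * -(P.B (α • u) (α • u))) ?_
    have h3 := congrArg ((-(P.B x x))⁻¹ • ·) h2'
    simp only [smul_smul, inv_mul_cancel₀ (neg_ne_zero.mpr hxx), one_smul] at h3
    exact h3

end Frm

end Cfsg.Lib.Classical.OrthPow
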