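import Cfsg.Agent.Classical.OrthPow.Bound

/-!
# Unipotent elements normalising a slot
-/

set_option autoImplicit false
set_option linter.unusedSectionVars false
set_option linter.unusedSimpArgs false
set_option linter.style.haveILetI false

namespace Cfsg.Lib.Classical.OrthPow

open Matrix Finset
open scoped Kronecker MatrixGroups
open Cfsg.Lib.Classical.TensorOrth (TForm sie sie_mul sie_zero)
open Cfsg.Lib.Classical.TensorMax (IsKron kron_pow exists_scalar_of_kron_eq_one)
open Cfsg.Lib.Classical.TensorPowLin (Rest toBig slot slot_eq slot_mul slot_one slot_smul slot_sub slot_injective coord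
  coord_val In conjM conjM_apply Eqj kron_of_normal)

universe u

variable {α γ : Type} [Fintype α] [DecidableEq α] [Fintype γ] [DecidableEq γ] {F : Type u} [Field F]

/-- The second factor of a product is determined up to a scalar. -/
theorem kron_line {A A' : Matrix α α F} {a a' : Matrix γ γ F} (hA : A ≠ 0) (h : A ⊗ₖ a = A' ⊗ₖ a') :
    ∃ c : F, a = c • a' := by
  obtain ⟨p, q, hpq⟩ : ∃ p q, A p q ≠ 0 := by
    by_contra hh
    push Not at hh
    exact hA (Matrix.ext hh)
  refine ⟨(A p q)⁻¹ * A' p q, Matrix.ext fun x y => ?_⟩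
  have h1 := congrFun (congrFun h (p, x)) (q, y)
  rw [kroneckerMap_apply, kroneckerMap_apply] at h1
  rw [Matrix.smul_apply, smul_eq_mul, mul_assoc, ← h1, ← mul_assoc, inv_mul_cancel₀ hpq, one_mul]

theorem kron_left_cancel {A : Matrix α α F} {a a' : Matrix γ γ F} (hA : A ≠ 0) (h : A ⊗ₖ a = A ⊗ₖ a') : a = a' := by
  obtain ⟨p, q, hpq⟩ : ∃ p q, A p q ≠ 0 := by
    by_contra hh
    push Not at hh
    exact hA (Matrix.ext hh)
  ext x y
  exact mul_left_cancel₀ hpq (congrFun (congrFun h (p, x)) (q, y))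

theorem kron_right_cancel {A A' : Matrix α α F} {a : Matrix γ γ F} (ha : a ≠ 0) (h : A ⊗ₖ a = A' ⊗ₖ a) : A = A' := by
  obtain ⟨p, q, hpq⟩ : ∃ p q, a p q ≠ 0 := by
    by_contra hh
    push Not at hh
    exact ha (Matrix.ext hh)
  ext x y
  exact mul_right_cancel₀ hpq (congrFun (congrFun h (x, p)) (y, q))

/-- An element of characteristic order is unipotent. -/
theorem nil_of_pow [Fintype F] {A : Matrix α α F} (h : A ^ ringChar F = 1) : IsNilpotent (A - 1) := by
  cases isEmpty_or_nonempty α with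
  | inl _ => exact ⟨1, Subsingleton.elim _ _⟩
  | inr _ =>
    haveI : Fact (ringChar F).Prime := ⟨CharP.char_is_prime F _⟩
    haveI : CharP (Matrix α α F) (ringChar F) := Matrix.charP _
    exact ⟨ringChar F, by rw [sub_pow_char_of_commute _ (Commute.one_right _), one_pow, h, sub_self]⟩

/-- A unipotent matrix is not zero. -/
theorem unip_ne_zero [Nonempty α] {A : Matrix α α F} (h : IsNilpotent (A - 1)) : A ≠ 0 := by
  rintro rfl
  obtain ⟨n, hn⟩ := h
  rw [zero_sub] at hn
  have h1 : ((-1 : Matrix α α F) * -1) ^ n = 0 := by rw [(Commute.refl _).mul_pow, hn, zero_mul]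
  rw [neg_mul_neg, one_mul, one_pow] at h1
  exact one_ne_zero h1

namespace Frm

variable {P : Frm γ F}

theorem sie_pow {e z : γ → F} (he : P.B e e = 0) (hz : P.B e z = 0) (n : ℕ) :
    sie P.G e z ^ n = sie P.G e ((n : F) • z) := by
  induction n with
  | zero => rw [pow_zero, Nat.cast_zero, zero_smul, sie_zero]
  | succ n ih =>
    rw [pow_succ, ih, sie_mul P.symm P.two he (show P.B e ((n : F) • z) = 0 by rw [B_smul_right, hz, mul_zero]) hz,
      Nat.cast_succ, add_smul, one_smul]

theorem sie_char {e z : γ → F} (he : P.B e e = 0) (hz : P.B e z = 0) : sie P.G e z ^ ringChar F = 1 := by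
  rw [sie_pow he hz, CharP.cast_eq_zero, zero_smul, sie_zero]

theorem sie_nil [Fintype F] {e z : γ → F} (he : P.B e e = 0) (hz : P.B e z = 0) : IsNilpotent (sie P.G e z - 1) :=
  nil_of_pow (sie_char he hz)

variable {τ : Type} [Fintype τ] [DecidableEq τ] {X : Subgroup (GL (τ → γ) F)}

theorem slot_pow (j : τ) (A : Matrix γ γ F) (n : ℕ) :
    (slot j A : Matrix (τ → γ) (τ → γ) F) ^ n = slot j (A ^ n) := by
  rw [← slotHom_apply, ← map_pow, slotHom_apply]

theorem root_pow {r : GL (τ → γ) F} {j : τ} {e z : γ → F} (he : P.B e e = 0) (hz : P.B e z = 0)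
    (hr : (r : Matrix (τ → γ) (τ → γ) F) = slot j (sie P.G e z)) : r ^ ringChar F = 1 :=
  Units.ext (by rw [Units.val_pow_eq_pow_val, hr, slot_pow, sie_char he hz, slot_one, Units.val_one])

variable [Fintype F]

set_option maxHeartbeats 1000000 in
/-- A unipotent element normalising a slot is a product of unipotent factors, the second an isometry. -/
theorem Hyp.unip_split (hX : P.Hyp X) {y : GL (τ → γ) F} (hy : y ∈ X) {i : τ} (hn : Eqj y i i)
    (hp : y ^ ringChar F = 1) :
    ∃ (A : Matrix (Rest i → γ) (Rest i → γ) F) (a : Matrix γ γ F),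
      (y : Matrix (τ → γ) (τ → γ) F) = toBig i (A ⊗ₖ a) ∧ P.Iso a ∧ IsNilpotent (A - 1) ∧ IsNilpotent (a - 1) := by
  haveI : Nonempty γ := P.nonempty
  haveI : Fact (ringChar F).Prime := ⟨CharP.char_is_prime F _⟩
  set p := ringChar F with hp'
  set T := P.Tj i with hT
  obtain ⟨A, B, hAB⟩ := kron_of_normal hn
  have hval : (y : Matrix (τ → γ) (τ → γ) F) =
      toBig i ((A : Matrix (Rest i → γ) (Rest i → γ) F) ⊗ₖ (B : Matrix γ γ F)) := by rw [← hAB, coord_val]
  have hpow : ((A : Matrix (Rest i → γ) (Rest i → γ) F) ^ p) ⊗ₖ ((B : Matrix γ γ F) ^ p) = 1 :=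
    (toBig (F := F) (γ := γ) i).injective (by
      rw [← kron_pow, map_pow, ← hval, ← Units.val_pow_eq_pow_val, hp, Units.val_one, map_one])
  obtain ⟨c, hc, hA, hB⟩ := exists_scalar_of_kron_eq_one hpow
  obtain ⟨ν, hν⟩ := Finite.injective_iff_surjective.mp (frobenius_inj F p) c
  rw [frobenius_def] at hν
  have hν0 : ν ≠ 0 := by
    rintro rfl
    rw [zero_pow (Fact.out : p.Prime).ne_zero] at hν
    exact hc hν.symm
  set A' := ν⁻¹ • (A : Matrix (Rest i → γ) (Rest i → γ) F) with hA'
  set b := ν • (B : Matrix γ γ F) with hb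
  have hab : (y : Matrix (τ → γ) (τ → γ) F) = toBig i (A' ⊗ₖ b) := by
    rw [hval, hA', hb, smul_kronecker, kronecker_smul, smul_smul, inv_mul_cancel₀ hν0, one_smul]
  have hA1 : A' ^ p = 1 := by rw [hA', smul_pow, hA, smul_smul, inv_pow, hν, inv_mul_cancel₀ hc, one_smul]
  have hb1 : b ^ p = 1 := by rw [hb, smul_pow, hB, smul_smul, hν, mul_inv_cancel₀ hc, one_smul]
  have hiso : (T.adjU A' * A') ⊗ₖ (P.adj b * b) = 1 := by
    refine (toBig (F := F) (γ := γ) i).injective ?_
    have h1 := hX.iso y hy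
    rw [hab, ← P.toBig_adjV, ← map_mul, TForm.adjV_kron, ← mul_kronecker_mul] at h1
    rw [map_one]
    exact h1
  obtain ⟨l, hl, -, hlb⟩ := exists_scalar_of_kron_eq_one hiso
  have hpowadj : ∀ n : ℕ, P.adj (b ^ n) * b ^ n = l⁻¹ ^ n • (1 : Matrix γ γ F) := fun n => by
    induction n with
    | zero => rw [pow_zero, pow_zero, adj, P.T.adjU_one, one_mul, one_smul]
    | succ n ih =>
      rw [pow_succ' b, adj, P.T.adjU_mul, mul_assoc, ← mul_assoc (P.T.adjU b), show P.T.adjU b * b = _ from hlb,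
        smul_mul_assoc, one_mul, mul_smul_comm, show P.T.adjU (b ^ n) * b ^ n = _ from ih, smul_smul, ← pow_succ']
  have hl1 : l⁻¹ = 1 := by
    refine frobenius_inj F p ?_
    rw [frobenius_def, frobenius_def, one_pow]
    have h1 := hpowadj p
    rw [hb1, adj, P.T.adjU_one, one_mul] at h1
    obtain ⟨o⟩ := ‹Nonempty γ›
    simpa using (congrFun (congrFun h1 o) o).symm
  exact ⟨A', b, hab, by rw [Iso, show P.adj b * b = _ from hlb, hl1, one_smul], nil_of_pow hA1, nil_of_pow hb1⟩

end Frm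

end Cfsg.Lib.Classical.OrthPow
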